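import Cfsg.Agent.Lib.Classical.TensorNine.Values
import Cfsg.Agent.Lib.Classical.OrthSmallIso
import Cfsg.Agent.Lib.Classical.OrthRoot

/-!
# `Ω₃` is simple and its point stabilisers are abelian
-/

set_option autoImplicit false
set_option linter.unusedSectionVars false

namespace Cfsg.Agent.Classical.TensorNine

open Matrix Module QuadraticMap
open Cfsg.Agent.Classical
open Cfsg.Agent.Classical.OCount (PND)
open Cfsg.Agent.Classical.ORefl (Iso refl refl_apply)
open Cfsg.Agent.Classical.OOmega (rf both negI)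

variable {F : Type*} [Field F] [Finite F] [h2 : Fact ((2 : F) ≠ 0)]

/-! ### Cross products -/

theorem mulVec_cross (A : Mat F) (x y : Row F) :
    crossProduct (A *ᵥ x) (A *ᵥ y) = (adjugate A)ᵀ *ᵥ crossProduct x y := by
  funext i
  simp only [cross_apply, Matrix.adjugate_fin_three, Matrix.mulVec, dotProduct, Fin.sum_univ_three,
    Matrix.transpose_apply]
  fin_cases i <;> simp <;> ring

/-- Rotations preserve the cross product. -/
theorem cross_iso {a : ↥(Iso (Qt F))} (ha : (bothT F a).1 = 1) (x y : Row F) :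
    crossProduct (a.1 x) (a.1 y) = a.1 (crossProduct x y) := by
  rw [← mat_mulVec, ← mat_mulVec, ← mat_mulVec, mulVec_cross]
  congr 1
  have h : adjugate (mat a) = (mat a)ᵀ := by
    calc adjugate (mat a) = adjugate (mat a) * (mat a * (mat a)ᵀ) := by rw [mat_orth' h2.out, mul_one]
      _ = (mat a)ᵀ := by rw [← mul_assoc, adjugate_mul, det_mat_of_dsign ha, one_smul, one_mul]
  rw [h, Matrix.transpose_transpose]

/-- Rotations about one vector commute. -/
theorem commute_of_fix {a b : ↥(Iso (Qt F))} (ha : (bothT F a).1 = 1) (hb : (bothT F b).1 = 1) {r : Row F}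
    (hr : r ≠ 0) (har : a.1 r = r) (hbr : b.1 r = r) : a * b = b * a := by
  obtain ⟨v, hrv, hne⟩ : ∃ v : Row F, r ⬝ᵥ v = 1 ∧ (r ⬝ᵥ r) * (v ⬝ᵥ v) - 1 ≠ 0 := by
    by_cases h0 : r ⬝ᵥ r = 0
    · obtain ⟨i, hi⟩ := Function.ne_iff.mp hr
      exact ⟨Pi.single i (r i)⁻¹, by simp [dotProduct_single, mul_inv_cancel₀ hi], by simp [h0]⟩
    · obtain ⟨w, hw, hw'⟩ := OOmega.exists_perp h2.out (pnd_Qt h2.out) two_le_finrank_row
        (v := r) (by rwa [Qt_apply])
      rw [polar_Qt] at hw
      have hw0 := (mul_eq_zero.mp hw).resolve_left h2.out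
      refine ⟨(r ⬝ᵥ r)⁻¹ • r + w, ?_, ?_⟩
      · rw [dotProduct_add, dotProduct_smul, hw0, smul_eq_mul, inv_mul_cancel₀ h0, add_zero]
      · simp only [dotProduct_add, add_dotProduct, dotProduct_smul, smul_dotProduct, dotProduct_comm w r, hw0,
          smul_eq_mul]
        rw [Qt_apply] at hw'
        intro e
        refine mul_ne_zero h0 hw' ?_
        field_simp at e
        linear_combination e
  obtain ⟨p, hp⟩ : ∃ p, p = crossProduct r v := ⟨_, rfl⟩
  have hpr : r ⬝ᵥ p = 0 := by rw [hp, dot_self_cross]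
  have hpv : v ⬝ᵥ p = 0 := by rw [hp, dot_cross_self]
  have hpp : p ⬝ᵥ p = (r ⬝ᵥ r) * (v ⬝ᵥ v) - 1 := by
    rw [hp, cross_dot_cross, dotProduct_comm v r, hrv]; ring
  have hrp : crossProduct r p = r - (r ⬝ᵥ r) • v := by
    have e : crossProduct r (crossProduct r v) = (r ⬝ᵥ v) • r - (r ⬝ᵥ r) • v := by
      funext i
      simp only [cross_apply, dotProduct, Fin.sum_univ_three, Pi.sub_apply, Pi.smul_apply, smul_eq_mul]
      fin_cases i <;> simp <;> ring
    rw [hp, e, hrv, one_smul]
  let Φ : (Fin 3 → F) →ₗ[F] Row F :=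
    { toFun := fun c => c 0 • v + c 1 • p + c 2 • r
      map_add' := fun c d => by simp only [Pi.add_apply]; module
      map_smul' := fun t c => by simp only [Pi.smul_apply, RingHom.id_apply, smul_eq_mul]; module }
  have hΦ : Function.Injective Φ := by
    refine (injective_iff_map_eq_zero Φ).mpr fun c hc => ?_
    change c 0 • v + c 1 • p + c 2 • r = 0 at hc
    have h1 := congrArg (r ⬝ᵥ ·) hc
    have h3 := congrArg (v ⬝ᵥ ·) hc
    have h4 := congrArg (p ⬝ᵥ ·) hc
    simp only [dotProduct_add, dotProduct_smul, smul_eq_mul, dotProduct_zero, hrv, hpr, hpv, hpp,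
      dotProduct_comm p v, dotProduct_comm p r, dotProduct_comm v r] at h1 h3 h4
    have c1 : c 1 = 0 := (mul_eq_zero.mp (by linear_combination h4)).resolve_right hne
    have c0 : c 0 = 0 := (mul_eq_zero.mp (show c 0 * ((r ⬝ᵥ r) * (v ⬝ᵥ v) - 1) = 0 by
      linear_combination (r ⬝ᵥ r) * h3 - h1)).resolve_right hne
    funext i
    fin_cases i
    · exact c0
    · exact c1
    · show c 2 = 0
      linear_combination h3 - (v ⬝ᵥ v) * c0
  have hsur : Function.Surjective Φ := (LinearMap.injective_iff_surjective_of_finrank_eq_finrank rfl).mp hΦ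
  have hmap : ∀ g : ↥(Iso (Qt F)), (bothT F g).1 = 1 → g.1 r = r → ∀ c : Fin 3 → F,
      g.1 (Φ c) = c 0 • g.1 v + c 1 • crossProduct r (g.1 v) + c 2 • r := by
    intro g hg hgr c
    have hgp : g.1 p = crossProduct r (g.1 v) := by
      have := cross_iso hg r v
      rw [hgr, ← hp] at this
      exact this.symm
    show g.1 (c 0 • v + c 1 • p + c 2 • r) = _
    rw [map_add, map_add, map_smul, map_smul, map_smul, hgp, hgr]
  obtain ⟨c, hc⟩ := hsur (b.1 v)
  obtain ⟨d, hd⟩ := hsur (a.1 v)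
  have hsum : ∀ (g : ↥(Iso (Qt F))) (e : Fin 3 → F), g.1 r = r → Φ e = g.1 v → e 0 + e 2 * (r ⬝ᵥ r) = 1 := by
    intro g e hgr he
    have h : r ⬝ᵥ Φ e = 1 := by
      rw [he]; nth_rw 1 [← hgr]; rw [dot_iso h2.out, hrv]
    change r ⬝ᵥ (e 0 • v + e 1 • p + e 2 • r) = 1 at h
    simpa [dotProduct_add, dotProduct_smul, hrv, hpr] using h
  have h0 : a.1 (b.1 v) = b.1 (a.1 v) := by
    rw [← hc, hmap a ha har, ← hd, hmap b hb hbr, ← hc]
    show c 0 • (d 0 • v + d 1 • p + d 2 • r) + c 1 • crossProduct r (d 0 • v + d 1 • p + d 2 • r) + c 2 • r =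
      d 0 • (c 0 • v + c 1 • p + c 2 • r) + d 1 • crossProduct r (c 0 • v + c 1 • p + c 2 • r) + d 2 • r
    rw [map_add, map_add, map_add, map_add, map_smul, map_smul, map_smul, map_smul, map_smul, map_smul, cross_self,
      hrp, ← hp]
    have e : c 2 + c 0 * d 2 = d 2 + d 0 * c 2 := by
      linear_combination d 2 * hsum b c hbr hc - c 2 * hsum a d har hd
    match_scalars <;> first | ring1 | linear_combination e | linear_combination -e
  have hall : ∀ y, a.1 (b.1 y) = b.1 (a.1 y) := by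
    intro y
    obtain ⟨e, rfl⟩ := hsur y
    rw [hmap b hb hbr, hmap a ha har, map_add, map_add, map_smul, map_smul, map_smul, map_add, map_add, map_smul,
      map_smul, map_smul, ← cross_iso ha, ← cross_iso hb, har, hbr, h0]
  exact Subtype.ext (LinearEquiv.ext hall)

/-! ### Simplicity -/

/-- The cyclic shift of the axes. -/
noncomputable def cyc : ↥(Iso (Qt F)) :=
  rf (Qt F) (Pi.single 0 1 - Pi.single 1 1) * rf (Qt F) (Pi.single 1 1 - Pi.single 2 1)

theorem Qt_single (k : Fin 3) : Qt F (Pi.single k (1 : F)) = 1 := by simp [Qt_apply]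

theorem Qt_single_sub {i j : Fin 3} (h : i ≠ j) : Qt F (Pi.single i 1 - Pi.single j 1) = 2 := by
  rw [ORefl.map_sub_two, Qt_single, Qt_single, polar_Qt]
  simp [h]
  norm_num

theorem cyc_mem : cyc (F := F) ∈ omegaT F := by
  rw [mem_omegaT, cyc, map_mul, bothT, both_rf' _ two_le_finrank_row (by rw [Qt_single_sub (by decide)]; exact h2.out),
    both_rf' _ two_le_finrank_row (by rw [Qt_single_sub (by decide)]; exact h2.out), Qt_single_sub (by decide),
    Qt_single_sub (by decide), sign_mul_self]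

theorem cyc_apply (x : Row F) : (cyc (F := F)).1 x = ![x 2, x 0, x 1] := by
  show refl (Qt F) _ (refl (Qt F) _ x) = _
  have := h2.out
  simp only [refl_apply, Qt_single_sub (show (0 : Fin 3) ≠ 1 by decide), Qt_single_sub (show (1 : Fin 3) ≠ 2 by decide),
    polar_Qt, dotProduct, Fin.sum_univ_three]
  funext i
  fin_cases i <;> simp [one_add_one_eq_two, inv_mul_cancel_left₀ this] <;> ring

theorem cyc_single (k : Fin 3) : (cyc (F := F)).1 (Pi.single k 1) = Pi.single (k + 1) 1 := by
  rw [cyc_apply]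
  funext i
  fin_cases k <;> fin_cases i <;> simp

/-- Commuting with a half turn preserves its axis. -/
theorem fix_of_commute {a : ↥(Iso (Qt F))} {u : Row F} (hu : Qt F u ≠ 0) (h : a * ax u = ax u * a) :
    a.1 u = u ∨ a.1 u = -u := by
  have hau : Qt F (a.1 u) ≠ 0 := by rw [a.2]; exact hu
  have h1 : ax (a.1 u) = ax u := by rw [← conj_ax, h, mul_inv_cancel_right]
  have h3 : (ax u).1 (a.1 u) = a.1 u := by rw [← h1, ax_self hau]
  rw [ax_apply, sub_eq_iff_eq_add, ← two_smul F (a.1 u)] at h3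
  obtain ⟨t, ht⟩ : ∃ t : F, a.1 u = t • u := ⟨2⁻¹ * ((Qt F u)⁻¹ * (2 * (u ⬝ᵥ a.1 u))), by
    rw [mul_smul, h3, smul_smul, inv_mul_cancel₀ h2.out, one_smul]⟩
  have h4 : Qt F (a.1 u) = Qt F u := a.2 u
  rw [ht, QuadraticMap.map_smul, smul_eq_mul] at h4
  rcases mul_self_eq_one_iff.mp ((mul_eq_right₀ hu).mp h4) with e | e
  · exact Or.inl (by rw [ht, e, one_smul])
  · exact Or.inr (by rw [ht, e, neg_one_smul])

theorem center_omegaT : Subgroup.center ↥(omegaT F) = ⊥ := by
  rw [Subgroup.eq_bot_iff_forall]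
  rintro ⟨a, ha⟩ hx
  have hc : ∀ b ∈ omegaT F, a * b = b * a := fun b hb =>
    congrArg Subtype.val (Subgroup.mem_center_iff.mp hx ⟨b, hb⟩).symm
  have hd : ∀ k : Fin 3, a.1 (Pi.single k 1) = Pi.single k 1 ∨ a.1 (Pi.single k 1) = -Pi.single k (1 : F) :=
    fun k => fix_of_commute (by rw [Qt_single]; exact one_ne_zero) (hc _ (ax_mem_omegaT (Qt_single k)))
  have hstep : ∀ k : Fin 3, ∀ ε : F, a.1 (Pi.single k 1) = ε • Pi.single k (1 : F) →
      a.1 (Pi.single (k + 1) 1) = ε • Pi.single (k + 1) (1 : F) := by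
    intro k ε hk
    rw [← cyc_single, ← map_smul, ← hk]
    exact LinearEquiv.congr_fun (congrArg Subtype.val (hc _ cyc_mem)) _
  obtain ⟨ε, hε, h0⟩ : ∃ ε : F, (ε = 1 ∨ ε = -1) ∧ a.1 (Pi.single 0 1) = ε • Pi.single (0 : Fin 3) (1 : F) := by
    rcases hd 0 with e | e
    · exact ⟨1, Or.inl rfl, by rw [one_smul]; exact e⟩
    · exact ⟨-1, Or.inr rfl, by rw [neg_one_smul]; exact e⟩
  have h1 := hstep 0 ε h0
  have h3 := hstep 1 ε h1
  have hall : mat a = ε • 1 := by
    ext i j
    rw [mat, LinearMap.toMatrix'_apply]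
    show a.1 (Pi.single j 1) i = _
    fin_cases j
    · simp only [Fin.zero_eta, h0]; simp [Pi.single_apply, Matrix.one_apply, eq_comm]
    · simp only [Fin.mk_one, show a.1 (Pi.single 1 1) = _ from h1]; simp [Pi.single_apply, Matrix.one_apply, eq_comm]
    · simp only [Fin.reduceFinMk, show a.1 (Pi.single 2 1) = _ from h3]
      simp [Pi.single_apply, Matrix.one_apply, eq_comm]
  rcases hε with rfl | rfl
  · exact Subtype.ext (mat_inj (show mat a = mat (1 : ↥(Iso (Qt F))) by rw [hall, one_smul, mat_one]))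
  · have e : a = negI (Qt F) := mat_inj (by rw [hall, mat_negI, neg_one_smul])
    have := mem_omegaT.mp ha
    rw [e, bothT_negI] at this
    exact absurd (congrArg Prod.fst this) (by decide)

variable [Fintype F]

/-- A hyperbolic frame of the sum of three squares. -/
theorem exists_hyperbolic : ∃ (γ : F) (L : (Unit ⊕ (Fin 1 ⊕ Fin 1) → F) ≃ₗ[F] Row F),
    γ ≠ 0 ∧ ∀ x, Qt F (L x) = γ * SmallIso.Q3 F x := by
  obtain ⟨e, he0, he⟩ := OOmega.exists_singular h2.out (pnd_Qt h2.out) (by simp)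
  obtain ⟨f, -, hf, hef⟩ := OOmega.exists_pair (pnd_Qt h2.out) he0 he
  change Qt F f = 0 at hf
  change polar (Qt F) e f = 1 at hef
  rw [polar_Qt] at hef
  rw [Qt_apply] at he hf
  obtain ⟨g, hg⟩ : ∃ g, g = crossProduct e f := ⟨_, rfl⟩
  have hge : e ⬝ᵥ g = 0 := by rw [hg, dot_self_cross]
  have hgf : f ⬝ᵥ g = 0 := by rw [hg, dot_cross_self]
  obtain ⟨γ, hγ⟩ : ∃ γ, γ = g ⬝ᵥ g := ⟨_, rfl⟩
  have hγ' : 4 * γ = -1 := by
    rw [hγ, hg, cross_dot_cross, he, hf, dotProduct_comm f e]
    linear_combination (-1 - 2 * (e ⬝ᵥ f)) * hef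
  have hγ0 : γ ≠ 0 := fun h0 => by rw [h0, mul_zero] at hγ'; exact one_ne_zero (by linear_combination hγ')
  let L : (Unit ⊕ (Fin 1 ⊕ Fin 1) → F) →ₗ[F] Row F :=
    { toFun := fun x => x (.inl ()) • g + x (.inr (.inl 0)) • (γ • e) + x (.inr (.inr 0)) • f
      map_add' := fun c d => by simp only [Pi.add_apply]; module
      map_smul' := fun t c => by simp only [Pi.smul_apply, RingHom.id_apply, smul_eq_mul]; module }
  have hL : Function.Injective L := by
    refine (injective_iff_map_eq_zero L).mpr fun c hc => ?_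
    change c (.inl ()) • g + c (.inr (.inl 0)) • (γ • e) + c (.inr (.inr 0)) • f = 0 at hc
    have h1 := congrArg (g ⬝ᵥ ·) hc
    have h3 := congrArg (f ⬝ᵥ ·) hc
    have h4 := congrArg (e ⬝ᵥ ·) hc
    simp only [dotProduct_add, dotProduct_smul, smul_eq_mul, dotProduct_zero, dotProduct_comm g e, dotProduct_comm g f,
      dotProduct_comm f e, hge, hgf, he, hf, ← hγ] at h1 h3 h4
    have c0 : c (.inl ()) = 0 := (mul_eq_zero.mp (by linear_combination h1)).resolve_right hγ0
    have c2 : c (.inr (.inr 0)) = 0 := by linear_combination 2 * h4 - c (.inr (.inr 0)) * hef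
    have c1 : c (.inr (.inl 0)) = 0 := (mul_eq_zero.mp (by
      linear_combination 2 * h3 - c (.inr (.inl 0)) * γ * hef)).resolve_right hγ0
    funext i
    rcases i with i | i | i
    · exact c0
    · rw [Subsingleton.elim i 0]; exact c1
    · rw [Subsingleton.elim i 0]; exact c2
  refine ⟨γ, LinearMap.linearEquivOfInjective L hL (by simp), hγ0, fun x => ?_⟩
  show Qt F (x (.inl ()) • g + x (.inr (.inl 0)) • (γ • e) + x (.inr (.inr 0)) • f) = _
  rw [congrFun (OOmega.coe_odd (F := F) 1) x]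
  simp only [Qt_apply, dotProduct_add, add_dotProduct, dotProduct_smul, smul_dotProduct, smul_eq_mul,
    dotProduct_comm g e, dotProduct_comm g f, dotProduct_comm f e, hge, hgf, he, hf, ← hγ]
  simp [Cfsg.quadFormOdd]
  linear_combination (x (.inr (.inl 0)) * x (.inr (.inr 0)) * γ) * hef

theorem isSimple_omegaT (h5 : 5 ≤ Nat.card F) : IsSimpleGroup ↥(omegaT F) := by
  classical
  obtain ⟨γ, L, hγ, hL⟩ := exists_hyperbolic (F := F)
  have hodd : Odd (Fintype.card F) := Nat.odd_iff.mpr
    (FiniteField.odd_card_of_char_ne_two fun h => h2.out (by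
      haveI := ringChar.of_eq h
      exact CharTwo.two_eq_zero))
  have hL' : ∀ y, γ * SmallIso.Q3 F (L.symm y) = Qt F y := fun y => by rw [← hL, L.apply_symm_apply]
  let Φ : ↥(Iso (SmallIso.Q3 F)) ≃* ↥(Iso (Qt F)) :=
    { toFun := fun g => ⟨L.symm.trans (g.1.trans L), fun x => by
        show Qt F (L (g.1 (L.symm x))) = _
        rw [hL, g.2, hL']⟩
      invFun := fun g => ⟨L.trans (g.1.trans L.symm), fun x => by
        show SmallIso.Q3 F (L.symm (g.1 (L x))) = _
        refine mul_left_cancel₀ hγ ?_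
        rw [hL', g.2, hL]⟩
      left_inv := fun g => Subtype.ext (LinearEquiv.ext fun x => by
        show L.symm (L (g.1 (L.symm (L x)))) = _
        rw [L.symm_apply_apply, L.symm_apply_apply])
      right_inv := fun g => Subtype.ext (LinearEquiv.ext fun x => by
        show L (L.symm (g.1 (L (L.symm x)))) = _
        rw [L.apply_symm_apply, L.apply_symm_apply])
      map_mul' := fun g g' => Subtype.ext (LinearEquiv.ext fun x => by
        show L (g.1 (g'.1 (L.symm x))) = L (g.1 (L.symm (L (g'.1 (L.symm x)))))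
        rw [L.symm_apply_apply]) }
  have hmap : (commutator ↥(Iso (SmallIso.Q3 F))).map Φ.toMonoidHom = omegaT F := by
    rw [commutator_def, Subgroup.map_commutator, Subgroup.map_top_of_surjective _ Φ.surjective, omegaT,
      commutator_def]
  let e₀ : ↥(commutator ↥(Iso (SmallIso.Q3 F))) ≃* ↥(omegaT F) :=
    ((commutator ↥(Iso (SmallIso.Q3 F))).equivMapOfInjective _ Φ.injective).trans (MulEquiv.subgroupCongr hmap)
  obtain ⟨e⟩ := SmallIso.pOmega_three hodd
  rw [← OOmega.coe_odd 1] at e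
  have hcen : Subgroup.center ↥(commutator ↥(Iso (SmallIso.Q3 F))) = ⊥ := by
    rw [Subgroup.eq_bot_iff_forall]
    intro x hx
    have h1 := (Subgroup.centerCongr e₀ ⟨x, hx⟩).2
    exact e₀.injective (((Subgroup.eq_bot_iff_forall _).mp center_omegaT _ h1).trans (map_one e₀).symm)
  haveI : IsSimpleGroup (Matrix.ProjectiveSpecialLinearGroup (Fin 2) F) :=
    Matrix.ProjectiveSpecialLinearGroup.rank_two_simple (by omega)
  let E : Matrix.ProjectiveSpecialLinearGroup (Fin 2) F ≃* ↥(omegaT F) :=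
    (((((QuotientGroup.quotientBot).symm.trans (QuotientGroup.quotientMulEquivOfEq hcen.symm)).trans
      (OOmega.pOmegaEquiv (SmallIso.Q3 F))).trans e).symm).trans e₀
  haveI : Nontrivial ↥(omegaT F) := E.toEquiv.symm.nontrivial
  exact IsSimpleGroup.isSimpleGroup_of_surjective E.toMonoidHom E.surjective

/-- Homomorphisms with commuting values are trivial. -/
theorem hom_trivial (h5 : 5 ≤ Nat.card F) {M : Type*} [Group M] (f : ↥(omegaT F) →* M)
    (hf : ∀ x y, f x * f y = f y * f x) (x : ↥(omegaT F)) : f x = 1 := by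
  haveI := isSimple_omegaT (F := F) h5
  rcases f.normal_ker.eq_bot_or_eq_top with h | h
  · exfalso
    have hinj : Function.Injective f := (MonoidHom.ker_eq_bot_iff f).mp h
    have hc : (Subgroup.center ↥(omegaT F)) = ⊤ :=
      eq_top_iff.mpr fun a _ => Subgroup.mem_center_iff.mpr fun b => hinj (by rw [map_mul, map_mul, hf])
    rw [center_omegaT] at hc
    exact bot_ne_top hc
  · exact MonoidHom.mem_ker.mp (h.symm ▸ Subgroup.mem_top x)

end Cfsg.Agent.Classical.TensorNine
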