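import Mathlib

/-!
# Two involutions
-/

set_option autoImplicit false
set_option linter.unusedSectionVars false

namespace Cfsg.Agent.Classical.TensorNine

/-- Two involutions that are not conjugate in the group they generate centralise a third one. -/
theorem dihedral_pair {G : Type*} [Group G] [Finite G] {s t : G} (hs : s * s = 1) (ht : t * t = 1)
    (hne : ∀ d ∈ Subgroup.closure ({s, t} : Set G), d * s * d⁻¹ ≠ t) :
    ∃ j ∈ Subgroup.closure ({s, t} : Set G), j * j = 1 ∧ j ≠ 1 ∧ Commute j s ∧ Commute j t ∧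
      (((∃ d ∈ Subgroup.closure ({s, t} : Set G), d * s * d⁻¹ = s * j) ∧
        ∃ d ∈ Subgroup.closure ({s, t} : Set G), d * t * d⁻¹ = t * j) ∨
        ∃ d ∈ Subgroup.closure ({s, t} : Set G), d * (s * j) * d⁻¹ = t) := by
  obtain ⟨r, hr⟩ : ∃ r, r = s * t := ⟨_, rfl⟩
  have hs' : s⁻¹ = s := inv_eq_of_mul_eq_one_left hs
  have ht' : t⁻¹ = t := inv_eq_of_mul_eq_one_left ht
  have hsr : ∀ z : ℤ, s * r ^ z = r ^ (-z) * s := fun z => by
    have h1 : s * r * s⁻¹ = r⁻¹ := by rw [hr, _root_.mul_inv_rev, hs', ht', ← mul_assoc, hs, one_mul]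
    calc s * r ^ z = (s * r * s⁻¹) ^ z * s := by rw [conj_zpow, inv_mul_cancel_right]
      _ = r ^ (-z) * s := by rw [h1, inv_zpow', zpow_neg]
  have htr : ∀ z : ℤ, t * r ^ z = r ^ (-z) * t := fun z => by
    have h1 : t * r * t⁻¹ = r⁻¹ := by
      rw [hr, _root_.mul_inv_rev, hs', ht', mul_assoc t (s * t) t, mul_assoc s, ht, mul_one]
    calc t * r ^ z = (t * r * t⁻¹) ^ z * t := by rw [conj_zpow, inv_mul_cancel_right]
      _ = r ^ (-z) * t := by rw [h1, inv_zpow', zpow_neg]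
  have htS : t = r ^ (-1 : ℤ) * s := by
    rw [zpow_neg, zpow_one, hr, _root_.mul_inv_rev, hs', ht', mul_assoc, hs, mul_one]
  have hmem : ∀ z : ℤ, r ^ z ∈ Subgroup.closure ({s, t} : Set G) := fun z =>
    zpow_mem (hr ▸ mul_mem (Subgroup.subset_closure (Set.mem_insert _ _))
      (Subgroup.subset_closure (Set.mem_insert_of_mem _ rfl))) z
  have hconjs : ∀ i m : ℤ, r ^ i * (r ^ m * s) * (r ^ i)⁻¹ = r ^ (i + i + m) * s := fun i m => by
    rw [← zpow_neg, mul_assoc, mul_assoc (r ^ m), hsr, neg_neg, ← mul_assoc (r ^ m), ← mul_assoc, ← zpow_add,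
      ← zpow_add]
    congr 2; ring
  have hn : 0 < orderOf r := orderOf_pos r
  have hpow : r ^ (orderOf r : ℤ) = 1 := by rw [zpow_natCast, pow_orderOf_eq_one]
  rcases Nat.even_or_odd (orderOf r) with ⟨m, hm⟩ | ⟨k, hk⟩
  swap
  · refine absurd ?_ (hne _ (hmem (k : ℤ)))
    have e := hconjs k 0
    rw [zpow_zero, one_mul] at e
    rw [e, htS, show (k : ℤ) + k + 0 = (orderOf r : ℤ) + (-1) by omega, zpow_add, hpow, one_mul]
  have hj : r ^ (m : ℤ) * r ^ (m : ℤ) = 1 := by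
    rw [← zpow_add, ← hpow]; congr 1; omega
  have hjneg : r ^ (-(m : ℤ)) = r ^ (m : ℤ) := by rw [zpow_neg]; exact inv_eq_of_mul_eq_one_left hj
  have hjs : Commute (r ^ (m : ℤ)) s := by
    show r ^ (m : ℤ) * s = s * r ^ (m : ℤ)
    rw [hsr, hjneg]
  have hjt : Commute (r ^ (m : ℤ)) t := by
    show r ^ (m : ℤ) * t = t * r ^ (m : ℤ)
    rw [htr, hjneg]
  refine ⟨_, hmem _, hj, fun e => ?_, hjs, hjt, ?_⟩
  · rw [zpow_natCast] at e
    have := Nat.le_of_dvd (by omega) (orderOf_dvd_of_pow_eq_one e)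
    omega
  rcases Nat.even_or_odd m with ⟨k, hk⟩ | ⟨k, hk⟩
  · refine Or.inl ⟨⟨_, hmem (k : ℤ), ?_⟩, ⟨_, hmem (k : ℤ), ?_⟩⟩
    · have e := hconjs k 0
      rw [zpow_zero, one_mul] at e
      rw [e, ← hjs.eq, show (k : ℤ) + k + 0 = (m : ℤ) by omega]
    · rw [← hjt.eq, ← zpow_neg, mul_assoc, htr, neg_neg, ← mul_assoc, ← zpow_add,
        show (k : ℤ) + k = (m : ℤ) by omega]
  · refine Or.inr ⟨_, hmem (-(k : ℤ) - 1), ?_⟩
    rw [← hjs.eq, hconjs, htS]
    congr 2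
    omega

end Cfsg.Agent.Classical.TensorNine
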