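import Cfsg.Agent.Lib.Classical.OrthCenter

/-!
# The group `O₃ ≀ 2` inside `O₉`

`O₃ × O₃` acts on `3 × 3` matrices by `X ↦ a X bᵀ`, and the transpose swaps the factors.
-/

set_option autoImplicit false
set_option linter.unusedSectionVars false

namespace Cfsg.Agent.Classical.TensorNine

open Matrix Module QuadraticMap
open Cfsg.Agent.Classical
open Cfsg.Agent.Classical.OCount (PND)
open Cfsg.Agent.Classical.ORefl (Iso refl refl_apply)
open Cfsg.Agent.Classical.OOmega (rf both)

variable {F : Type*} [Field F]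

/-- Three coordinates. -/
abbrev Row (F : Type*) : Type _ := Fin 3 → F

/-- The nine coordinates. -/
abbrev Mat (F : Type*) : Type _ := Matrix (Fin 3) (Fin 3) F

variable (F) in
/-- The sum of three squares. -/
noncomputable def Qt : QuadraticForm F (Row F) :=
  QuadraticMap.weightedSumSquares F fun _ : Fin 3 => (1 : F)

theorem Qt_apply (x : Row F) : Qt F x = x ⬝ᵥ x := by
  simp [Qt, dotProduct]

theorem polar_Qt (x y : Row F) : polar (Qt F) x y = 2 * (x ⬝ᵥ y) := by
  simp only [polar, Qt_apply, dotProduct, Fin.sum_univ_three, Pi.add_apply]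
  ring

theorem pnd_Qt (h2 : (2 : F) ≠ 0) : PND (Qt F) := fun v hv => by
  funext i
  have h := hv (Pi.single i 1)
  rw [polar_Qt, dotProduct_single, mul_one] at h
  exact (mul_eq_zero.mp h).resolve_left h2

/-- A row, as a linear map. -/
def rowMap (i : Fin 3) : Mat F →ₗ[F] Row F where
  toFun X := X i
  map_add' _ _ := rfl
  map_smul' _ _ := rfl

variable (F) in
/-- The sum of nine squares. -/
noncomputable def Qn : QuadraticForm F (Mat F) := ∑ i, (Qt F).comp (rowMap i)

theorem Qn_apply (X : Mat F) : Qn F X = trace (X * Xᵀ) := by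
  simp only [Qn, QuadraticMap.sum_apply, QuadraticMap.comp_apply, Qt_apply, Matrix.trace, Matrix.diag,
    Matrix.mul_apply, Matrix.transpose_apply, dotProduct]
  rfl

theorem polar_Qn (X Y : Mat F) : polar (Qn F) X Y = 2 * trace (X * Yᵀ) := by
  simp only [polar, Qn_apply, Matrix.trace_fin_three, Matrix.mul_apply, Matrix.transpose_apply, Matrix.add_apply,
    Fin.sum_univ_three]
  ring

theorem trace_mul_transpose_ot (X : Mat F) (u w : Row F) : trace (vecMulVec u w * Xᵀ) = u ⬝ᵥ (X *ᵥ w) := by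
  simp only [Matrix.trace_fin_three, Matrix.mul_apply, Matrix.transpose_apply, vecMulVec_apply, dotProduct,
    Matrix.mulVec, Fin.sum_univ_three]
  ring

theorem Qn_ot (u w : Row F) : Qn F (vecMulVec u w) = Qt F u * Qt F w := by
  simp only [Qn_apply, Qt_apply, Matrix.trace_fin_three, Matrix.mul_apply, Matrix.transpose_apply, vecMulVec_apply,
    dotProduct, Fin.sum_univ_three]
  ring

theorem polar_ot (u w : Row F) (Y : Mat F) : polar (Qn F) (vecMulVec u w) Y = 2 * (u ⬝ᵥ (Y *ᵥ w)) := by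
  rw [polar_Qn, trace_mul_transpose_ot]

theorem pnd_Qn (h2 : (2 : F) ≠ 0) : PND (Qn F) := fun v hv => by
  ext i j
  have h := hv (vecMulVec (Pi.single i 1) (Pi.single j 1))
  rw [QuadraticMap.polar_comm, polar_ot, single_dotProduct, one_mul] at h
  simp only [Matrix.mulVec_single, MulOpposite.op_one, one_smul] at h
  exact (mul_eq_zero.mp h).resolve_left h2

theorem finrank_mat : finrank F (Mat F) = 9 := by
  rw [Module.finrank_matrix]; simp

theorem two_le_finrank_row : 2 ≤ finrank F (Row F) := by simp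

theorem two_le_finrank_mat : 2 ≤ finrank F (Mat F) := by rw [finrank_mat]; norm_num

/-! ### Orthogonal matrices -/

/-- The matrix of an isometry of three space. -/
noncomputable def mat (a : ↥(Iso (Qt F))) : Mat F := LinearMap.toMatrix' a.1.toLinearMap

theorem mat_mulVec (a : ↥(Iso (Qt F))) (x : Row F) : mat a *ᵥ x = a.1 x :=
  LinearMap.congr_fun (Matrix.toLin'_toMatrix' a.1.toLinearMap) x

theorem mat_inj {a b : ↥(Iso (Qt F))} (h : mat a = mat b) : a = b :=
  Subtype.ext (LinearEquiv.ext fun x => by rw [← mat_mulVec, h, mat_mulVec])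

theorem mat_one : mat (1 : ↥(Iso (Qt F))) = 1 := LinearMap.toMatrix'_id

theorem mat_mul (a b : ↥(Iso (Qt F))) : mat (a * b) = mat a * mat b :=
  LinearMap.toMatrix'_comp a.1.toLinearMap b.1.toLinearMap

theorem dot_iso (h2 : (2 : F) ≠ 0) (a : ↥(Iso (Qt F))) (x y : Row F) : a.1 x ⬝ᵥ a.1 y = x ⬝ᵥ y :=
  mul_left_cancel₀ h2 (by rw [← polar_Qt, ← polar_Qt, ORefl.polar_iso a.2])

theorem mat_orth (h2 : (2 : F) ≠ 0) (a : ↥(Iso (Qt F))) : (mat a)ᵀ * mat a = 1 := by
  ext i j
  have h := dot_iso h2 a (Pi.single i 1) (Pi.single j 1)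
  rw [← mat_mulVec, ← mat_mulVec] at h
  simp only [Matrix.mul_apply, Matrix.transpose_apply, Matrix.one_apply]
  simpa [dotProduct, Matrix.mulVec, Pi.single_apply, eq_comm] using h

theorem mat_orth' (h2 : (2 : F) ≠ 0) (a : ↥(Iso (Qt F))) : mat a * (mat a)ᵀ = 1 :=
  mul_eq_one_comm.mp (mat_orth h2 a)

theorem mat_inv (h2 : (2 : F) ≠ 0) (a : ↥(Iso (Qt F))) : mat a⁻¹ = (mat a)ᵀ := by
  have h : mat a⁻¹ * mat a = 1 := by rw [← mat_mul, inv_mul_cancel, mat_one]
  calc mat a⁻¹ = mat a⁻¹ * (mat a * (mat a)ᵀ) := by rw [mat_orth' h2, mul_one]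
    _ = (mat a)ᵀ := by rw [← mul_assoc, h, one_mul]

/-- An orthogonal matrix as an isometry. -/
noncomputable def ofMat (A : Mat F) (h : Aᵀ * A = 1) : ↥(Iso (Qt F)) :=
  ⟨LinearEquiv.ofLinear (Matrix.toLin' A) (Matrix.toLin' Aᵀ)
      (by rw [← Matrix.toLin'_mul, mul_eq_one_comm.mp h, Matrix.toLin'_one])
      (by rw [← Matrix.toLin'_mul, h, Matrix.toLin'_one]), fun x => by
    show Qt F (A *ᵥ x) = Qt F x
    rw [Qt_apply, Qt_apply, Matrix.dotProduct_mulVec, Matrix.vecMul_mulVec, h, Matrix.vecMul_one]⟩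

theorem mat_ofMat (A : Mat F) (h : Aᵀ * A = 1) : mat (ofMat A h) = A :=
  LinearMap.toMatrix'_toLin' A

/-! ### The action on matrices -/

/-- `X ↦ a X bᵀ`. -/
noncomputable def pairLin (p : ↥(Iso (Qt F)) × ↥(Iso (Qt F))) : Mat F →ₗ[F] Mat F where
  toFun X := mat p.1 * X * (mat p.2)ᵀ
  map_add' X Y := by rw [Matrix.mul_add, Matrix.add_mul]
  map_smul' c X := by rw [Matrix.mul_smul, Matrix.smul_mul]; rfl

theorem pairLin_mul (p r : ↥(Iso (Qt F)) × ↥(Iso (Qt F))) (X : Mat F) :
    pairLin p (pairLin r X) = pairLin (p * r) X := by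
  simp only [pairLin, LinearMap.coe_mk, AddHom.coe_mk, Prod.fst_mul, Prod.snd_mul, mat_mul, Matrix.transpose_mul,
    Matrix.mul_assoc]

theorem pairLin_one (X : Mat F) : pairLin (1 : ↥(Iso (Qt F)) × ↥(Iso (Qt F))) X = X := by
  simp [pairLin, mat_one]

variable [h2 : Fact ((2 : F) ≠ 0)]

/-- Two isometries of three space give one of nine space. -/
noncomputable def pair : ↥(Iso (Qt F)) × ↥(Iso (Qt F)) →* ↥(Iso (Qn F)) :=
  MonoidHom.mk'
    (fun p => ⟨LinearEquiv.ofLinear (pairLin p) (pairLin p⁻¹)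
        (LinearMap.ext fun X => by
          rw [LinearMap.comp_apply, pairLin_mul, mul_inv_cancel, pairLin_one, LinearMap.id_apply])
        (LinearMap.ext fun X => by
          rw [LinearMap.comp_apply, pairLin_mul, inv_mul_cancel, pairLin_one, LinearMap.id_apply]), fun X => by
      show Qn F (mat p.1 * X * (mat p.2)ᵀ) = Qn F X
      rw [Qn_apply, Qn_apply, Matrix.transpose_mul, Matrix.transpose_mul, Matrix.transpose_transpose,
        show mat p.1 * X * (mat p.2)ᵀ * (mat p.2 * (Xᵀ * (mat p.1)ᵀ)) =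
          mat p.1 * X * ((mat p.2)ᵀ * mat p.2) * Xᵀ * (mat p.1)ᵀ by simp only [Matrix.mul_assoc],
        mat_orth h2.out, Matrix.mul_one, Matrix.trace_mul_comm, ← Matrix.mul_assoc, ← Matrix.mul_assoc,
        mat_orth h2.out, Matrix.one_mul]⟩)
    fun p r => Subtype.ext (LinearEquiv.ext fun X => (pairLin_mul p r X).symm)

theorem pair_apply (a b : ↥(Iso (Qt F))) (X : Mat F) : (pair (a, b)).1 X = mat a * X * (mat b)ᵀ := rfl

theorem pair_ot (a b : ↥(Iso (Qt F))) (u w : Row F) :
    (pair (a, b)).1 (vecMulVec u w) = vecMulVec (a.1 u) (b.1 w) := by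
  rw [pair_apply, Matrix.mul_vecMulVec, Matrix.vecMulVec_mul, Matrix.vecMul_transpose, mat_mulVec, mat_mulVec]

variable (F) in
/-- The transpose. -/
noncomputable def swap : ↥(Iso (Qn F)) :=
  ⟨Matrix.transposeLinearEquiv (Fin 3) (Fin 3) F F, fun X => by
    show Qn F Xᵀ = Qn F X
    rw [Qn_apply, Qn_apply, Matrix.transpose_transpose, Matrix.trace_mul_comm]⟩

theorem swap_apply (X : Mat F) : (swap F).1 X = Xᵀ := rfl

theorem swap_mul_self : swap F * swap F = 1 :=
  Subtype.ext (LinearEquiv.ext fun X => Matrix.transpose_transpose X)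

theorem swap_inv : (swap F)⁻¹ = swap F := inv_eq_of_mul_eq_one_left swap_mul_self

theorem swap_pair (a b : ↥(Iso (Qt F))) : swap F * pair (a, b) = pair (b, a) * swap F :=
  Subtype.ext (LinearEquiv.ext fun X => by
    show (mat a * X * (mat b)ᵀ)ᵀ = mat b * Xᵀ * (mat a)ᵀ
    rw [Matrix.transpose_mul, Matrix.transpose_mul, Matrix.transpose_transpose, Matrix.mul_assoc])

theorem conj_swap_pair (a b : ↥(Iso (Qt F))) : swap F * pair (a, b) * (swap F)⁻¹ = pair (b, a) := by
  rw [swap_pair, mul_inv_cancel_right]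

variable (F) in
/-- The stabiliser of the tensor decomposition. -/
def wreath : Subgroup ↥(Iso (Qn F)) where
  carrier := {g | ∃ a b, g = pair (a, b) ∨ g = swap F * pair (a, b)}
  one_mem' := ⟨1, 1, Or.inl (map_one pair).symm⟩
  mul_mem' := by
    rintro g g' ⟨a, b, rfl | rfl⟩ ⟨c, d, rfl | rfl⟩
    · exact ⟨a * c, b * d, Or.inl (by rw [← map_mul, Prod.mk_mul_mk])⟩
    · refine ⟨b * c, a * d, Or.inr ?_⟩
      rw [← mul_assoc, ← swap_pair, mul_assoc, ← map_mul, Prod.mk_mul_mk]
    · refine ⟨a * c, b * d, Or.inr ?_⟩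
      rw [mul_assoc, ← map_mul, Prod.mk_mul_mk]
    · refine ⟨b * c, a * d, Or.inl ?_⟩
      rw [show swap F * pair (a, b) * (swap F * pair (c, d)) =
        swap F * pair (a, b) * swap F * pair (c, d) by group, swap_pair, mul_assoc (pair (b, a)), swap_mul_self,
        mul_one, ← map_mul, Prod.mk_mul_mk]
  inv_mem' := by
    rintro g ⟨a, b, rfl | rfl⟩
    · exact ⟨a⁻¹, b⁻¹, Or.inl (by rw [← map_inv, Prod.inv_mk])⟩
    · refine ⟨b⁻¹, a⁻¹, Or.inr ?_⟩
      rw [swap_pair, _root_.mul_inv_rev, swap_inv, ← map_inv, Prod.inv_mk]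

theorem pair_mem_wreath (a b : ↥(Iso (Qt F))) : pair (a, b) ∈ wreath F := ⟨a, b, Or.inl rfl⟩

theorem swap_mem_wreath : swap F ∈ wreath F := ⟨1, 1, Or.inr (by rw [show ((1 : ↥(Iso (Qt F))), (1 : ↥(Iso (Qt F)))) = 1 from rfl, map_one, mul_one])⟩

/-- The kernel of the action. -/
theorem pair_eq_one {a b : ↥(Iso (Qt F))} (h : pair (a, b) = 1) :
    a = 1 ∧ b = 1 ∨ a = OOmega.negI (Qt F) ∧ b = OOmega.negI (Qt F) := by
  have e : ∀ i j k l, mat a i k * mat b j l = (if i = k then 1 else 0) * (if j = l then 1 else 0) := by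
    intro i j k l
    have h1 := congrArg (fun g : ↥(Iso (Qn F)) => g.1 (Matrix.single k l (1 : F)) i j) h
    simp only [pair_apply, OneMemClass.coe_one, LinearEquiv.coe_one, id_eq, Matrix.single_apply] at h1
    rw [Matrix.mul_apply, Finset.sum_eq_single l, Matrix.mul_apply, Finset.sum_eq_single k] at h1
    · simp only [Matrix.transpose_apply, Matrix.single_apply_same, mul_one] at h1
      rw [h1]
      by_cases hik : i = k <;> by_cases hjl : j = l <;> simp [hik, hjl, eq_comm]
    · intro x _ hx; simp [Matrix.single_apply, Ne.symm hx]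
    · simp
    · intro x _ hx
      rw [Matrix.mul_apply, Finset.sum_eq_zero]
      · ring
      · intro y _; simp [Matrix.single_apply, Ne.symm hx]
    · simp
  have hb0 : mat b 0 0 ≠ 0 := fun h0 => by simpa [h0] using e 0 0 0 0
  have ha : ∀ i k, mat a i k = if i = k then (mat b 0 0)⁻¹ else 0 := by
    intro i k
    have := e i 0 k 0
    simp only [if_true, mul_one] at this
    by_cases hik : i = k
    · rw [if_pos hik] at this ⊢
      exact eq_inv_of_mul_eq_one_left this
    · rw [if_neg hik] at this ⊢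
      exact (mul_eq_zero.mp this).resolve_right hb0
  have hb : ∀ j l, mat b j l = if j = l then mat b 0 0 else 0 := by
    intro j l
    have := e 0 j 0 l
    rw [ha 0 0, if_pos rfl] at this
    simp only [if_true, one_mul] at this
    field_simp at this
    rw [this]
    by_cases hjl : j = l <;> simp [hjl]
  obtain ⟨c, hc⟩ : ∃ c, c = mat b 0 0 := ⟨_, rfl⟩
  rw [← hc] at ha hb hb0
  have hcc : c * c = 1 := by
    have h1 := congrArg (fun M : Mat F => M 0 0) (mat_orth h2.out b)
    simp only [Matrix.mul_apply, Matrix.transpose_apply, Fin.sum_univ_three, Matrix.one_apply_eq] at h1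
    rw [hb 0 0, hb 1 0, hb 2 0] at h1
    simpa using h1
  have hneg : mat (OOmega.negI (Qt F)) = -1 := by
    ext i j
    have hx : (OOmega.negI (Qt F)).1 (Pi.single j 1) i = -(Pi.single j (1 : F) : Row F) i := rfl
    simpa [mat, LinearMap.toMatrix'_apply, Pi.single_apply, Matrix.one_apply] using hx
  have hinv : c⁻¹ = c := inv_eq_of_mul_eq_one_left hcc
  rcases mul_self_eq_one_iff.mp hcc with h1 | h1
  · refine Or.inl ⟨mat_inj ?_, mat_inj ?_⟩ <;> rw [mat_one] <;> ext i j <;>
      simp [ha, hb, h1, Matrix.one_apply]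
  · refine Or.inr ⟨mat_inj ?_, mat_inj ?_⟩ <;> rw [hneg] <;> ext i j <;>
      simp [ha, hb, hinv, h1, Matrix.one_apply] <;> split <;> simp

theorem pair_inj {a b c d : ↥(Iso (Qt F))} (h : pair (a, b) = pair (c, d)) :
    c = a ∧ d = b ∨ c = OOmega.negI (Qt F) * a ∧ d = OOmega.negI (Qt F) * b := by
  have h' : pair (c * a⁻¹, d * b⁻¹) = 1 := by
    rw [show (c * a⁻¹, d * b⁻¹) = (c, d) * (a, b)⁻¹ from rfl, map_mul, map_inv, h, mul_inv_cancel]
  rcases pair_eq_one h' with ⟨h1, h3⟩ | ⟨h1, h3⟩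
  · exact Or.inl ⟨mul_inv_eq_one.mp h1, mul_inv_eq_one.mp h3⟩
  · exact Or.inr ⟨by rw [← h1, inv_mul_cancel_right], by rw [← h3, inv_mul_cancel_right]⟩

end Cfsg.Agent.Classical.TensorNine
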