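import Cfsg.Agent.Lib.Classical.TensorNine.Three
import Cfsg.Agent.Lib.Classical.MonomFrame.Grow

/-!
# An overgroup of `Ω₃ ≀ 2` containing `Ω` of one row is everything
-/

set_option autoImplicit false
set_option linter.unusedSectionVars false

namespace Cfsg.Agent.Classical.TensorNine

open Matrix Module QuadraticMap
open Cfsg.Agent.Classical
open Cfsg.Agent.Classical.OCount (PND)
open Cfsg.Agent.Classical.ORefl (Iso refl refl_apply)
open Cfsg.Agent.Classical.OOmega (rf both negI classGroup)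

variable {F : Type*} [Field F] [Fintype F] [h2 : Fact ((2 : F) ≠ 0)]

/-- The hypotheses on an overgroup. -/
structure Setup (K : Subgroup ↥(Iso (Qn F))) : Prop where
  h5 : 5 ≤ Nat.card F
  le : K ≤ omegaN F
  ge : wreath F ⊓ omegaN F ≤ K
  ne : ¬ omegaN F ≤ K

theorem Qn_rows (X : Mat F) : Qn F X = ∑ i, Qt F (X i) := by
  simp [Qn, rowMap, QuadraticMap.sum_apply]
  rfl

/-- An isometry on each row, as a linear map. -/
def rowsLin (x : Fin 3 → ↥(Iso (Qt F))) : Mat F →ₗ[F] Mat F where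
  toFun X := Matrix.of fun i => (x i).1 (X i)
  map_add' X Y := Matrix.ext fun i j => congrFun (map_add (x i).1 (X i) (Y i)) j
  map_smul' c X := Matrix.ext fun i j => congrFun (map_smul (x i).1 c (X i)) j

/-- An isometry on each row. -/
noncomputable def rows : (Fin 3 → ↥(Iso (Qt F))) →* ↥(Iso (Qn F)) :=
  MonoidHom.mk'
    (fun x => ⟨LinearEquiv.ofLinear (rowsLin x) (rowsLin x⁻¹)
        (LinearMap.ext fun X => Matrix.ext fun i j => congrFun ((x i).1.apply_symm_apply (X i)) j)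
        (LinearMap.ext fun X => Matrix.ext fun i j => congrFun ((x i).1.symm_apply_apply (X i)) j), fun X => by
      show Qn F (Matrix.of fun i => (x i).1 (X i)) = Qn F X
      rw [Qn_rows, Qn_rows]
      exact Finset.sum_congr rfl fun i _ => (x i).2 (X i)⟩)
    fun _ _ => rfl

theorem rows_apply (x : Fin 3 → ↥(Iso (Qt F))) (X : Mat F) (i : Fin 3) : (rows x).1 X i = (x i).1 (X i) := rfl

theorem rows_inj {x y : Fin 3 → ↥(Iso (Qt F))} (h : rows x = rows y) : x = y := by
  funext i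
  refine Subtype.ext (LinearEquiv.ext fun v => ?_)
  have := congrFun (LinearEquiv.congr_fun (congrArg Subtype.val h) (Matrix.of fun _ : Fin 3 => v)) i
  exact this

theorem rows_const (h : ↥(Iso (Qt F))) : rows (fun _ => h) = pair (1, h) := by
  refine Subtype.ext (LinearEquiv.ext fun X => Matrix.ext fun i j => ?_)
  rw [rows_apply, pair_apply, mat_one, Matrix.one_mul, ← mat_mulVec]
  simp [Matrix.mul_apply, Matrix.mulVec, dotProduct, mul_comm]

theorem rows_single_negI (i : Fin 3) :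
    rows (Pi.mulSingle i (negI (Qt F))) = pair (rf (Qt F) (Pi.single i 1), 1) := by
  refine Subtype.ext (LinearEquiv.ext fun X => Matrix.ext fun k j => ?_)
  rw [rows_apply, pair_apply, mat_one, Matrix.transpose_one, Matrix.mul_one]
  have hr : (mat (rf (Qt F) (Pi.single i 1)) * X) k j = refl (Qt F) (Pi.single i 1) (fun l => X l j) k :=
    congrFun (mat_mulVec (rf (Qt F) (Pi.single i 1)) fun l => X l j) k
  rw [hr, refl_apply, Qt_single, polar_Qt, inv_one, one_mul, single_dotProduct, one_mul]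
  by_cases hk : k = i
  · subst hk
    rw [Pi.mulSingle_eq_same]
    show -(X k) j = _
    simp
    ring
  · rw [Pi.mulSingle_eq_of_ne hk]
    show X k j = _
    simp [hk]

theorem conj_cyc_rows (x : Fin 3 → ↥(Iso (Qt F))) :
    pair (cyc, 1) * rows x * (pair (cyc (F := F), 1))⁻¹ = rows fun i => x (i + 2) := by
  refine mul_inv_eq_of_eq_mul (Subtype.ext (LinearEquiv.ext fun X => Matrix.ext fun i j => ?_))
  have hc : ∀ (Y : Mat F) (i : Fin 3), (pair (cyc (F := F), 1)).1 Y i = Y (i + 2) := by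
    intro Y i
    funext j
    rw [pair_apply, mat_one, Matrix.transpose_one, Matrix.mul_one,
      show (mat (cyc (F := F)) * Y) i j = (cyc (F := F)).1 (fun l => Y l j) i from
        congrFun (mat_mulVec (cyc (F := F)) fun l => Y l j) i, cyc_apply]
    fin_cases i <;> rfl
  show (pair (cyc, 1)).1 ((rows x).1 X) i j = (rows fun i => x (i + 2)).1 ((pair (cyc, 1)).1 X) i j
  rw [hc, rows_apply, rows_apply, hc]

theorem rows_ot (i : Fin 3) (a : ↥(Iso (Qt F))) (X : Mat F) :
    (rows (Pi.mulSingle i a)).1 X = Matrix.of (Function.update (fun k => X k) i (a.1 (X i))) := by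
  ext k j
  rw [rows_apply]
  by_cases hk : k = i
  · subst hk; simp
  · rw [Pi.mulSingle_eq_of_ne hk]; simp [hk]

theorem rf_row (i : Fin 3) (w : Row F) :
    rf (Qn F) (vecMulVec (Pi.single i 1) w) = rows (Pi.mulSingle i (rf (Qt F) w)) := by
  refine Subtype.ext (LinearEquiv.ext fun X => Matrix.ext fun k j => ?_)
  rw [rows_ot]
  show refl (Qn F) _ X k j = _
  rw [refl_apply, Qn_ot, Qt_single, one_mul, polar_ot, single_dotProduct, one_mul]
  by_cases hk : k = i
  · subst hk
    show _ = Matrix.of (Function.update (fun k' => X k') k (refl (Qt F) w (X k))) k j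
    rw [refl_apply, polar_Qt]
    simp [vecMulVec_apply, Matrix.mulVec, dotProduct_comm w]
  · simp [hk, vecMulVec_apply]

theorem rows_single_mem_omega (h5 : 5 ≤ Nat.card F) (i : Fin 3) {h : ↥(Iso (Qt F))} (hh : h ∈ omegaT F) :
    rows (Pi.mulSingle i h) ∈ omegaN F :=
  mem_omegaN.mpr (hom_trivial h5
    (((bothN F).comp (rows.comp (MonoidHom.mulSingle (fun _ : Fin 3 => ↥(Iso (Qt F))) i))).comp (omegaT F).subtype)
    (fun _ _ => mul_comm _ _) ⟨h, hh⟩)

/-- Only scalars centralise `Ω₃`. -/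
theorem centraliser_omegaT {a : ↥(Iso (Qt F))} (hc : ∀ b ∈ omegaT F, a * b = b * a) : a = 1 ∨ a = negI (Qt F) := by
  have hstep : ∀ k : Fin 3, ∀ ε : F, a.1 (Pi.single k 1) = ε • Pi.single k (1 : F) →
      a.1 (Pi.single (k + 1) 1) = ε • Pi.single (k + 1) (1 : F) := by
    intro k ε hk
    rw [← cyc_single, ← map_smul, ← hk]
    exact LinearEquiv.congr_fun (congrArg Subtype.val (hc _ cyc_mem)) _
  obtain ⟨ε, hε, h0⟩ : ∃ ε : F, (ε = 1 ∨ ε = -1) ∧ a.1 (Pi.single 0 1) = ε • Pi.single (0 : Fin 3) (1 : F) := by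
    rcases fix_of_commute (u := Pi.single (0 : Fin 3) (1 : F)) (by rw [Qt_single]; exact one_ne_zero)
      (hc _ (ax_mem_omegaT (Qt_single 0))) with e | e
    · exact ⟨1, Or.inl rfl, by rw [one_smul]; exact e⟩
    · exact ⟨-1, Or.inr rfl, by rw [neg_one_smul]; exact e⟩
  have hall : mat a = ε • 1 := by
    ext i j
    rw [mat, LinearMap.toMatrix'_apply]
    show a.1 (Pi.single j 1) i = _
    have h1 := hstep 0 ε h0
    have h3 := hstep 1 ε h1
    fin_cases j
    · simp only [Fin.zero_eta, h0]; simp [Pi.single_apply, Matrix.one_apply, eq_comm]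
    · simp only [Fin.mk_one, show a.1 (Pi.single 1 1) = _ from h1]; simp [Pi.single_apply, Matrix.one_apply, eq_comm]
    · simp only [Fin.reduceFinMk, show a.1 (Pi.single 2 1) = _ from h3]
      simp [Pi.single_apply, Matrix.one_apply, eq_comm]
  rcases hε with rfl | rfl
  · exact Or.inl (mat_inj (by rw [hall, one_smul, mat_one]))
  · exact Or.inr (mat_inj (by rw [hall, mat_negI, neg_one_smul]))

theorem exists_avoid (h5 : 5 ≤ Nat.card F) : ∃ a : F, a ≠ 0 ∧ 1 - a * a ≠ 0 := by
  obtain ⟨a, h0, h1, h2', -⟩ := MFrame.exists_field_avoid h2.out h5 (1 : F) (-1) 0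
  refine ⟨a, h0, fun e => ?_⟩
  rcases mul_self_eq_one_iff.mp (sub_eq_zero.mp e).symm with h | h
  exacts [h1 h, h2' h]

namespace Setup

variable {K : Subgroup ↥(Iso (Qn F))} (S : Setup K)

include S

theorem pair_mem {a b : ↥(Iso (Qt F))} (h : bothT F a = bothT F b) : pair (a, b) ∈ K :=
  S.ge ⟨pair_mem_wreath _ _, pair_mem_omega.mpr h⟩

theorem pair_self_mem (a : ↥(Iso (Qt F))) : pair (a, a) ∈ K := S.pair_mem rfl

theorem eta_mem' : eta (F := F) ∈ K := S.ge eta_mem

/-- No row block lies in the overgroup. -/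
theorem no_block (hb : ∀ h ∈ omegaT F, rows (Pi.mulSingle (0 : Fin 3) h) ∈ K) : False := by
  apply S.ne
  -- every row block
  have hrow : ∀ (i : Fin 3) (h : ↥(Iso (Qt F))), h ∈ omegaT F → rows (Pi.mulSingle i h) ∈ K := by
    have hcyc : pair (cyc (F := F), 1) ∈ K := S.pair_mem (by rw [map_one]; exact mem_omegaT.mp cyc_mem)
    have step : ∀ i : Fin 3, (∀ h ∈ omegaT F, rows (Pi.mulSingle i h) ∈ K) →
        ∀ h ∈ omegaT F, rows (Pi.mulSingle (i + 1) h) ∈ K := by
      intro i hi h hh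
      have := mul_mem (mul_mem hcyc (hi h hh)) (inv_mem hcyc)
      rw [conj_cyc_rows] at this
      convert this using 2
      funext k
      have e : k + 2 = i ↔ k = i + 1 := (show ∀ i k : Fin 3, k + 2 = i ↔ k = i + 1 by decide) i k
      by_cases hk : k = i + 1
      · rw [e.mpr hk, hk, Pi.mulSingle_eq_same, Pi.mulSingle_eq_same]
      · rw [Pi.mulSingle_eq_of_ne hk, Pi.mulSingle_eq_of_ne (mt e.mp hk)]
    intro i
    fin_cases i
    · exact hb
    · exact step 0 hb
    · exact step 1 (step 0 hb)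
  obtain ⟨r₀, hr₀⟩ : ∃ r, r = rf (Qn F) (vecMulVec (Pi.single 0 1) (Pi.single 0 (1 : F))) := ⟨_, rfl⟩
  have hconj : ∀ {g x y : ↥(Iso (Qn F))}, g ∈ K → x * y ∈ K → g * x * g⁻¹ * (g * y * g⁻¹) ∈ K := by
    intro g x y hg hxy
    have := mul_mem (mul_mem hg hxy) (inv_mem hg)
    convert this using 1; group
  -- units in one row
  have hlrow : ∀ (i : Fin 3) (w w' : Row F), Qt F w = 1 → Qt F w' = 1 →
      rf (Qn F) (vecMulVec (Pi.single i 1) w) * rf (Qn F) (vecMulVec (Pi.single i 1) w') ∈ K := by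
    intro i w w' hw hw'
    rw [rf_row, rf_row, ← map_mul, ← Pi.mulSingle_mul]
    refine hrow i _ (mem_omegaT.mpr ?_)
    rw [map_mul, bothT, both_rf' _ two_le_finrank_row (by rw [hw]; exact one_ne_zero),
      both_rf' _ two_le_finrank_row (by rw [hw']; exact one_ne_zero), hw, hw', sign_mul_self]
  -- units in one column
  have hR0 : (rf (Qt F) (Pi.single 1 1 + Pi.single 2 1)).1 (Pi.single 0 1) = Pi.single (0 : Fin 3) (1 : F) :=
    ORefl.refl_fix (by rw [polar_Qt]; simp [dotProduct_single])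
  have hlcol : ∀ (j : Fin 3) (u u' : Row F), Qt F u = 1 → Qt F u' = 1 →
      rf (Qn F) (vecMulVec u (Pi.single j 1)) * rf (Qn F) (vecMulVec u' (Pi.single j 1)) ∈ K := by
    have h0 : ∀ (u u' : Row F), Qt F u = 1 → Qt F u' = 1 →
        rf (Qn F) (vecMulVec u (Pi.single 0 1)) * rf (Qn F) (vecMulVec u' (Pi.single 0 1)) ∈ K := by
      intro u u' hu hu'
      have := hconj S.eta_mem' (hlrow 0 u u' hu hu')
      rwa [OOmega.conj_rf, OOmega.conj_rf, eta_ot, eta_ot, hR0] at this
    have step : ∀ j : Fin 3,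
        (∀ (u u' : Row F), Qt F u = 1 → Qt F u' = 1 →
          rf (Qn F) (vecMulVec u (Pi.single j 1)) * rf (Qn F) (vecMulVec u' (Pi.single j 1)) ∈ K) →
        ∀ (u u' : Row F), Qt F u = 1 → Qt F u' = 1 →
          rf (Qn F) (vecMulVec u (Pi.single (j + 1) 1)) * rf (Qn F) (vecMulVec u' (Pi.single (j + 1) 1)) ∈ K := by
      intro j hj u u' hu hu'
      have := hconj (S.pair_mem (a := 1) (b := cyc) (by rw [map_one]; exact (mem_omegaT.mp cyc_mem).symm))
        (hj u u' hu hu')
      rwa [OOmega.conj_rf, OOmega.conj_rf, pair_ot, pair_ot, cyc_single] at this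
    intro j
    fin_cases j
    · exact h0
    · exact step 0 h0
    · exact step 1 (step 0 h0)
  obtain ⟨G, hG⟩ : ∃ G : Subgroup ↥(Iso (Qn F)),
      G = Subgroup.closure {g | ∃ v, Qn F v = 1 ∧ r₀ * rf (Qn F) v ∈ K ∧ g = rf (Qn F) v} := ⟨_, rfl⟩
  have hGmem : ∀ {v : Mat F}, Qn F v = 1 → r₀ * rf (Qn F) v ∈ K → rf (Qn F) v ∈ G := fun {v} hv hm =>
    hG ▸ Subgroup.subset_closure ⟨v, hv, hm, rfl⟩
  have hrow0 : ∀ w : Row F, Qt F w = 1 → r₀ * rf (Qn F) (vecMulVec (Pi.single 0 1) w) ∈ K := fun w hw =>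
    hr₀ ▸ hlrow 0 _ w (Qt_single 0) hw
  have hcol : ∀ (j : Fin 3) (u : Row F), Qt F u = 1 → r₀ * rf (Qn F) (vecMulVec u (Pi.single j 1)) ∈ K := by
    intro j u hu
    have := mul_mem (hrow0 _ (Qt_single j)) (hlcol j _ u (Qt_single 0) hu)
    rwa [mul_assoc, ← mul_assoc (rf (Qn F) (vecMulVec (Pi.single 0 1) (Pi.single j 1))), OOmega.rf_mul_self, one_mul]
      at this
  -- every unit reflection
  have hU0 : ∃ U : Submodule F (Mat F), MFrame.NDOn (Qn F) U ∧ 3 ≤ finrank F U ∧ MFrame.Sph G (1 : F) U ∧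
      ∀ X : Mat F, X ∈ U ↔ X 1 = 0 ∧ X 2 = 0 := by
    obtain ⟨U, hU⟩ : ∃ U : Submodule F (Mat F), U = LinearMap.ker (rowMap 1) ⊓ LinearMap.ker (rowMap 2) :=
      ⟨_, rfl⟩
    have hmem : ∀ X : Mat F, X ∈ U ↔ X 1 = 0 ∧ X 2 = 0 := fun X => by
      rw [hU]; simp [rowMap]; rfl
    have hot : ∀ X, X ∈ U → X = vecMulVec (Pi.single 0 1) (X 0) := fun X hX => by
      obtain ⟨e1, e2⟩ := (hmem X).mp hX
      ext i j
      fin_cases i <;> simp [vecMulVec_apply, e1, e2]
    refine ⟨U, ?_, ?_, ?_, hmem⟩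
    · intro X hX
      refine Subtype.ext ?_
      obtain ⟨e1, e2⟩ := (hmem _).mp X.2
      refine pnd_Qn h2.out X.1 fun Y => ?_
      have hY : vecMulVec (Pi.single 0 1) (Y 0) ∈ U := (hmem _).mpr ⟨by ext j; simp [vecMulVec_apply],
        by ext j; simp [vecMulVec_apply]⟩
      have h0 : polar (Qn F) X.1 (vecMulVec (Pi.single 0 1) (Y 0)) = 0 := hX ⟨_, hY⟩
      rw [polar_Qn] at h0 ⊢
      rw [← h0]
      simp [Matrix.trace_fin_three, Matrix.mul_apply, Fin.sum_univ_three, vecMulVec_apply, e1, e2]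
    · let f : Row F →ₗ[F] U :=
        { toFun := fun w => ⟨vecMulVec (Pi.single 0 1) w, (hmem _).mpr ⟨by ext j; simp [vecMulVec_apply],
            by ext j; simp [vecMulVec_apply]⟩⟩
          map_add' := fun w w' => Subtype.ext (by ext i j; simp [vecMulVec_apply, mul_add])
          map_smul' := fun t w => Subtype.ext (by ext i j; simp [vecMulVec_apply]; ring) }
      have hf : Function.Injective f := fun w w' e => by
        funext j
        simpa [vecMulVec_apply, f] using congrFun (congrFun (congrArg Subtype.val e) 0) j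
      simpa using LinearMap.finrank_le_finrank_of_injective hf
    · intro v hv hvv
      rw [hot v hv] at hvv ⊢
      refine hGmem hvv ?_
      rw [Qn_ot, Qt_single, one_mul] at hvv
      exact hrow0 _ hvv
  obtain ⟨U, hUnd, hU3, hUS, hUmem⟩ := hU0
  obtain ⟨a, ha0, ha1⟩ := exists_avoid (F := F) S.h5
  obtain ⟨b, c, hbc⟩ := OOmega.exists_rep h2.out (one_ne_zero (α := F)) (one_ne_zero (α := F)) (1 - a * a)
  have hbc0 : b * b + c * c ≠ 0 := fun e => ha1 (by linear_combination e - hbc)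
  have hgrow : ∀ (U : Submodule F (Mat F)), MFrame.NDOn (Qn F) U → 3 ≤ finrank F U → MFrame.Sph G (1 : F) U →
      ∀ (j : Fin 3) (f : Row F), f ⬝ᵥ f = b * b + c * c → f 0 = 0 →
        vecMulVec (Pi.single 0 a) (Pi.single j 1) ∈ U →
        (∀ u ∈ U, polar (Qn F) (vecMulVec f (Pi.single j 1)) u = 0) →
        MFrame.NDOn (Qn F) (U ⊔ Submodule.span F {vecMulVec f (Pi.single j 1)}) ∧
        3 ≤ finrank F ↥(U ⊔ Submodule.span F {vecMulVec f (Pi.single j 1)}) ∧
        MFrame.Sph G (1 : F) (U ⊔ Submodule.span F {vecMulVec f (Pi.single j 1)}) := by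
    intro U hUnd hU3 hUS j f hff hf0 hy hperp
    have hQf : Qn F (vecMulVec f (Pi.single j 1)) ≠ 0 := by
      rw [Qn_ot, Qt_single, mul_one, Qt_apply, hff]; exact hbc0
    obtain ⟨h1, h3⟩ := MFrame.ndOn_sup_span h2.out hUnd hperp hQf
    refine ⟨h1, by omega, MFrame.sphere_step h2.out one_ne_zero S.h5 hUnd hU3 hUS hperp hQf one_ne_zero hy ?_ ?_ ?_⟩
    · rw [Qn_ot, Qt_single, mul_one, Qt_apply]; simp [ha0]
    · rw [one_smul, ← Matrix.add_vecMulVec, Qn_ot, Qt_single, mul_one, Qt_apply]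
      simp [dotProduct_add, add_dotProduct, hff, hf0, dotProduct_single, single_dotProduct]
      linear_combination hbc
    · rw [one_smul, ← Matrix.add_vecMulVec]
      have hu : Qt F (Pi.single 0 a + f) = 1 := by
        rw [Qt_apply]
        simp [dotProduct_add, add_dotProduct, hff, hf0, dotProduct_single, single_dotProduct]
        linear_combination hbc
      exact hGmem (by rw [Qn_ot, hu, Qt_single, mul_one]) (hcol j _ hu)
  obtain ⟨p, hp⟩ : ∃ p : Row F, p = ![0, b, c] := ⟨_, rfl⟩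
  obtain ⟨r, hr⟩ : ∃ r : Row F, r = ![0, -c, b] := ⟨_, rfl⟩
  have hpp : p ⬝ᵥ p = b * b + c * c := by simp [hp, dotProduct, Fin.sum_univ_three]
  have hrr : r ⬝ᵥ r = b * b + c * c := by simp [hr, dotProduct, Fin.sum_univ_three]; ring
  have hy : ∀ j : Fin 3, vecMulVec (Pi.single 0 a) (Pi.single j (1 : F)) ∈ U := fun j =>
    (hUmem _).mpr ⟨by ext k; simp [vecMulVec_apply], by ext k; simp [vecMulVec_apply]⟩
  have hfold : ∀ l : List (Row F × Fin 3), (∀ x ∈ l, x.1 ⬝ᵥ x.1 = b * b + c * c ∧ x.1 0 = 0) →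
      l.Pairwise (fun x y => x.1 ⬝ᵥ y.1 = 0 ∨ x.2 ≠ y.2) →
      ∃ W : Submodule F (Mat F), MFrame.NDOn (Qn F) W ∧ 3 ≤ finrank F W ∧ MFrame.Sph G (1 : F) W ∧ U ≤ W ∧
        (∀ x ∈ l, vecMulVec x.1 (Pi.single x.2 1) ∈ W) ∧
        ∀ (g : Row F) (j : Fin 3), g 0 = 0 → (∀ x ∈ l, g ⬝ᵥ x.1 = 0 ∨ j ≠ x.2) →
          ∀ u ∈ W, polar (Qn F) (vecMulVec g (Pi.single j 1)) u = 0 := by
    intro l
    induction l with
    | nil =>
      intro _ _
      refine ⟨U, hUnd, hU3, hUS, le_rfl, by simp, fun g j hg _ u hu => ?_⟩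
      obtain ⟨e1, e2⟩ := (hUmem u).mp hu
      rw [polar_ot]
      simp [Matrix.mulVec, dotProduct, Fin.sum_univ_three, hg, e1, e2]
    | cons x l ih =>
      intro hl hpw
      rw [List.pairwise_cons] at hpw
      obtain ⟨W, hWnd, hW3, hWS, hUW, hlW, hperp⟩ := ih (fun y hy => hl y (List.mem_cons_of_mem _ hy)) hpw.2
      obtain ⟨hxx, hx0⟩ := hl x List.mem_cons_self
      obtain ⟨h1, h3, h4⟩ := hgrow W hWnd hW3 hWS x.2 x.1 hxx hx0 (hUW (hy x.2))
        (hperp x.1 x.2 hx0 fun y hy => hpw.1 y hy)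
      refine ⟨_, h1, h3, h4, hUW.trans le_sup_left, fun y hy => ?_, fun g j hg hgl u hu => ?_⟩
      · rcases List.mem_cons.mp hy with rfl | hy'
        · exact Submodule.mem_sup_right (Submodule.mem_span_singleton_self _)
        · exact Submodule.mem_sup_left (hlW y hy')
      · obtain ⟨w, hw, z, hz, rfl⟩ := Submodule.mem_sup.mp hu
        obtain ⟨t, rfl⟩ := Submodule.mem_span_singleton.mp hz
        rw [QuadraticMap.polar_add_right, QuadraticMap.polar_smul_right,
          hperp g j hg (fun y hy => hgl y (List.mem_cons_of_mem _ hy)) w hw, polar_ot]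
        rcases hgl x List.mem_cons_self with h | h
        · have : g ⬝ᵥ (vecMulVec x.1 (Pi.single x.2 (1 : F)) *ᵥ Pi.single j 1) = 0 := by
            rw [Matrix.vecMulVec_mulVec, dotProduct_smul, h]; simp
          rw [this]; simp
        · rw [Matrix.vecMulVec_mulVec, single_dotProduct, Pi.single_eq_of_ne (Ne.symm h)]
          simp
  obtain ⟨W, -, -, hWS, hUW, hlW, -⟩ := hfold [(p, 0), (r, 0), (p, 1), (r, 1), (p, 2), (r, 2)]
    (by simp only [List.mem_cons, List.not_mem_nil, or_false, forall_eq_or_imp, forall_eq]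
        simp [hpp, hrr, show p 0 = 0 by simp [hp], show r 0 = 0 by simp [hr]])
    (by
      have hpr : p ⬝ᵥ r = 0 := by simp [hp, hr, dotProduct, Fin.sum_univ_three]; ring
      simp [List.pairwise_cons, hpr])
  have hcolmem : ∀ (j : Fin 3) (s t : F), vecMulVec ![0, s, t] (Pi.single j 1) ∈ W := by
    intro j s t
    have hmem : vecMulVec p (Pi.single j 1) ∈ W ∧ vecMulVec r (Pi.single j (1 : F)) ∈ W := by
      fin_cases j <;> exact ⟨hlW (_, _) (by simp), hlW (_, _) (by simp)⟩
    have e : (![0, s, t] : Row F) = ((s * b + t * c) / (b * b + c * c)) • p + ((t * b - s * c) / (b * b + c * c)) • r := by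
      rw [hp, hr]
      have hbc2 : b ^ 2 + c ^ 2 ≠ 0 := fun e => hbc0 (by linear_combination e)
      funext i
      fin_cases i <;> simp <;> field_simp <;> ring
    rw [e, Matrix.add_vecMulVec, Matrix.smul_vecMulVec, Matrix.smul_vecMulVec]
    exact add_mem (W.smul_mem _ hmem.1) (W.smul_mem _ hmem.2)
  have htop : ∀ X : Mat F, X ∈ W := by
    intro X
    have e : X = vecMulVec (Pi.single 0 1) (X 0) + vecMulVec ![0, X 1 0, X 2 0] (Pi.single 0 1) +
        vecMulVec ![0, X 1 1, X 2 1] (Pi.single 1 1) + vecMulVec ![0, X 1 2, X 2 2] (Pi.single 2 1) := by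
      ext i j
      simp only [Matrix.add_apply, vecMulVec_apply]
      fin_cases i <;> fin_cases j <;> simp
    rw [e]
    exact add_mem (add_mem (add_mem (hUW ((hUmem _).mpr ⟨by ext k; simp [vecMulVec_apply],
      by ext k; simp [vecMulVec_apply]⟩)) (hcolmem 0 _ _)) (hcolmem 1 _ _)) (hcolmem 2 _ _)
  -- the class group
  have hclass : classGroup (Qn F) (1 : F) ≤ G := by
    refine (Subgroup.closure_le _).mpr ?_
    rintro x ⟨v, hv, ⟨t, ht⟩, rfl⟩
    rw [div_one] at ht
    have ht0 : t ≠ 0 := fun e => hv (by rw [ht, e, mul_zero])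
    show rf (Qn F) v ∈ G
    rw [← OOmega.rf_smul (inv_ne_zero ht0) v]
    refine hWS _ (htop _) ?_
    rw [QuadraticMap.map_smul, ht, smul_eq_mul]
    field_simp
  have hidx := OOmega.index_classGroup h2.out (pnd_Qn (F := F) h2.out) two_le_finrank_mat
    (Or.inr (Or.inr S.h5)) (one_ne_zero (α := F))
  have hom : omegaN F ≤ classGroup (Qn F) (1 : F) := by
    rw [omegaN, commutator_def, Subgroup.commutator_le]
    intro g₁ _ g₂ _
    rw [commutatorElement_def]
    simp only [Subgroup.mul_mem_iff_of_index_two hidx, inv_mem_iff]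
    tauto
  intro g hg
  have hcases : ∀ g ∈ G, g ∈ K ∨ r₀ * g ∈ K := by
    intro g hg
    rw [hG] at hg
    induction hg using Subgroup.closure_induction_left with
    | one => exact Or.inl (one_mem _)
    | mul_left x hx y hy ih =>
      obtain ⟨v, -, hv, rfl⟩ := hx
      rcases ih with h | h
      · exact Or.inr (by rw [← mul_assoc]; exact mul_mem hv h)
      · refine Or.inl ?_
        have := mul_mem (inv_mem hv) h
        rwa [_root_.mul_inv_rev, OOmega.rf_inv, show r₀⁻¹ = r₀ by rw [hr₀, OOmega.rf_inv], mul_assoc,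
          ← mul_assoc r₀, hr₀, OOmega.rf_mul_self, one_mul] at this
    | inv_mul_cancel x hx y hy ih =>
      obtain ⟨v, -, hv, rfl⟩ := hx
      rw [OOmega.rf_inv]
      rcases ih with h | h
      · exact Or.inr (by rw [← mul_assoc]; exact mul_mem hv h)
      · refine Or.inl ?_
        have := mul_mem (inv_mem hv) h
        rwa [_root_.mul_inv_rev, OOmega.rf_inv, show r₀⁻¹ = r₀ by rw [hr₀, OOmega.rf_inv], mul_assoc,
          ← mul_assoc r₀, hr₀, OOmega.rf_mul_self, one_mul] at this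
  rcases hcases g (hclass (hom hg)) with h | h
  · exact h
  exfalso
  have h1 := mem_omegaN.mp (S.le h)
  rw [map_mul, mem_omegaN.mp hg, mul_one, hr₀, bothN,
    both_rf' _ two_le_finrank_mat (by rw [Qn_ot, Qt_single, one_mul]; exact one_ne_zero)] at h1
  exact absurd (congrArg Prod.fst h1) (by simp)

end Setup

end Cfsg.Agent.Classical.TensorNine
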