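import Cfsg.Agent.Lib.Classical.TensorNine.Turns
import Cfsg.Agent.Lib.Classical.TensorNine.Dihedral

/-!
# The centraliser of one half turn
-/

set_option autoImplicit false
set_option linter.unusedSectionVars false

namespace Cfsg.Agent.Classical.TensorNine

open Matrix Module QuadraticMap
open Cfsg.Agent.Classical
open Cfsg.Agent.Classical.OCount (PND)
open Cfsg.Agent.Classical.ORefl (Iso refl refl_apply)
open Cfsg.Agent.Classical.OOmega (rf both negI classGroup)

variable {F : Type*} [Field F] [Fintype F] [h2 : Fact ((2 : F) ≠ 0)]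

namespace Setup

variable {K : Subgroup ↥(Iso (Qn F))} (S : Setup K)

include S

theorem zL_mem_K {u : Row F} (hu : Qt F u = 1) : zL u ∈ K := S.ge (zL_mem hu)

theorem zR_mem_K {v : Row F} (hv : Qt F v = 1) : zR v ∈ K := S.ge (zR_mem hv)

theorem closure_le_cent {s t c : ↥(Iso (Qn F))} (hs : s ∈ K) (ht : t ∈ K) (hs' : Commute s c) (ht' : Commute t c)
    {d : ↥(Iso (Qn F))} (hd : d ∈ Subgroup.closure ({s, t} : Set _)) : d ∈ K ∧ Commute d c := by
  induction hd using Subgroup.closure_induction with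
  | mem x hx =>
    rcases hx with rfl | rfl
    exacts [⟨hs, hs'⟩, ⟨ht, ht'⟩]
  | one => exact ⟨one_mem _, Commute.one_left _⟩
  | mul a b _ _ iha ihb => exact ⟨mul_mem iha.1 ihb.1, iha.2.mul_left ihb.2⟩
  | inv a _ ih => exact ⟨inv_mem ih.1, ih.2.inv_left⟩

/-- An element centralising `e₀` that keeps one half turn of the right factor in the stabiliser. -/
theorem endgame {x : ↥(Iso (Qn F))} (hx : x ∈ K) (hx0 : Commute x (zL e₀)) {f : Row F} (hf : Qt F f = 1)
    (hm : x * zR f * x⁻¹ ∈ wreath F) : x ∈ wreath F := by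
  obtain ⟨t, ht⟩ : ∃ t, t = x * zR f * x⁻¹ := ⟨_, rfl⟩
  have htK : t ∈ K := ht ▸ mul_mem (mul_mem hx (S.zR_mem_K hf)) (inv_mem hx)
  have ht0 : Commute t (zL e₀) := ht ▸ (hx0.mul_left (zL_zR_commute _ _).symm).mul_left hx0.inv_left
  rw [← ht] at hm
  obtain ⟨a, b, hab⟩ := pair_of_commute hm (unit_ne Qt_e₀) ht0.eq
  have hsq : t * t = 1 := ht ▸ conj_sq_one (zR_mul_self f) x
  have hne : t ≠ 1 := fun e => by
    rw [e] at ht
    have h1 : zR f = 1 := by
      calc zR f = x⁻¹ * (x * zR f * x⁻¹) * x := by group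
        _ = 1 := by rw [← ht]; group
    rcases pair_eq_one h1 with ⟨-, h4⟩ | ⟨h4, -⟩
    · exact ax_ne_one (unit_ne hf) h4
    · have := congrArg (fun g => (bothT F g).1) h4
      simp only [map_one, bothT_negI, Prod.fst_one] at this
      exact absurd this (by decide)
  have htr : trN t = -3 := by rw [ht, trN_conj, trN_zR (unit_ne hf)]
  rcases (hab ▸ isHalf_of_trace (hab ▸ S.le htK) (hab ▸ hsq) (hab ▸ hne) (hab ▸ htr) : IsHalf t) with
    ⟨u, hu, e⟩ | ⟨v, hv, e⟩
  · exfalso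
    have hxi : x⁻¹ * zL u * (x⁻¹)⁻¹ = zR f := by rw [← e, ht]; group
    rw [e] at ht0
    rcases axes_of_commute (unit_ne Qt_e₀) (unit_ne hu)
      (commute_of_pair (ax_det (unit_ne Qt_e₀)) (ax_det (unit_ne hu)) ht0.symm).1 with h | h
    · exact conj_zL_ne_zR S.h5 hx0.inv_left (by simpa [e₀] using h) hf hxi
    · rw [show zL u = zL (e₀ : Row F) by rw [zL, zL, h], conj_eq_self hx0.inv_left] at hxi
      exact zL_ne_zR (unit_ne Qt_e₀) hxi
  · obtain ⟨b', hb'⟩ := OOmega.exists_conj (pnd_Qt (F := F) h2.out) (v := f) (w := v)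
      (fun e' => unit_ne hf (by rw [e', QuadraticMap.map_zero]))
      (fun e' => unit_ne hv (by rw [e', QuadraticMap.map_zero])) (by rw [hv, hf])
    obtain ⟨a', ha', hab'⟩ := exists_fix (F := F) (bothT F b')
    have hg : pair (a', b') ∈ wreath F ⊓ omegaN F := ⟨pair_mem_wreath _ _, pair_mem_omega.mpr hab'⟩
    have hg0 : Commute (pair (a', b')) (zL e₀) := by
      have h1 := conj_zL a' b' e₀
      rw [ha'] at h1
      exact mul_inv_eq_iff_eq_mul.mp h1
    have h3 : (pair (a', b'))⁻¹ * x ∈ wreath F := by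
      refine S.centMixed (mul_mem (inv_mem (S.ge hg)) hx) Qt_e₀ hf (hg0.inv_left.mul_left hx0) ?_
      have e1 : x * zR f = zR v * x := mul_inv_eq_iff_eq_mul.mp (ht.symm.trans e)
      have e3 : pair (a', b') * zR f = zR v * pair (a', b') := by
        have := conj_zR a' b' f
        rw [hb'] at this
        exact mul_inv_eq_iff_eq_mul.mp this
      show (pair (a', b'))⁻¹ * x * zR f = zR f * ((pair (a', b'))⁻¹ * x)
      rw [mul_assoc, e1, ← mul_assoc, ← mul_assoc]
      congr 1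
      rw [inv_mul_eq_iff_eq_mul, ← mul_assoc, e3, mul_inv_cancel_right]
    have := mul_mem hg.1 h3
    rwa [mul_inv_cancel_left] at this

/-- The possible third involutions over `e₀`, `e₁`. -/
theorem third {j : ↥(Iso (Qn F))} (hj : j ∈ K) (hjj : j * j = 1) (hj1 : j ≠ 1) (h0 : Commute j (zL e₀))
    (h1 : Commute j (zL (Pi.single 1 1))) :
    (∃ v, Qt F v = 1 ∧ j = zR v) ∨ (∃ k : Fin 3, j = zL (Pi.single k 1)) ∨
      ∃ (k : Fin 3) (v : Row F), Qt F v = 1 ∧ j = zL (Pi.single k 1) * zR v := by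
  obtain ⟨a, b, hab⟩ := pair_of_commute (S.centL hj Qt_e₀ (Qt_single 1) (by simp [e₀]) h0 h1) (unit_ne Qt_e₀) h0.eq
  have hk : ∀ u : Row F, Qt F u ≠ 0 → Commute (pair (ax u, (1 : ↥(Iso (Qt F))))) (zL e₀) →
      Commute (pair (ax u, (1 : ↥(Iso (Qt F))))) (zL (Pi.single 1 1)) → ∃ k : Fin 3, ax u = ax (Pi.single k 1) := by
    intro u hu c0 c1
    rcases axes_of_commute (unit_ne Qt_e₀) hu
      (commute_of_pair (ax_det hu) (ax_det (unit_ne Qt_e₀)) c0).1.symm with h | h
    · rcases axes_of_commute (unit_ne (Qt_single (F := F) 1)) hu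
        (commute_of_pair (ax_det hu) (ax_det (unit_ne (Qt_single (F := F) 1))) c1).1.symm with h' | h'
      · refine ⟨2, ?_⟩
        simp [e₀] at h h'
        have hu2 : u = u 2 • Pi.single 2 (1 : F) := by
          funext i; fin_cases i <;> simp [h, h']
        rw [hu2, ax_smul fun e0 => hu (by rw [hu2, e0, zero_smul, QuadraticMap.map_zero])]
      · exact ⟨1, h'⟩
    · exact ⟨0, h⟩
  rcases invol_pair (a := a) (b := b) (hab ▸ S.le hj) (hab ▸ hjj) (hab ▸ hj1) with
    ⟨u, hu, e⟩ | ⟨v, hv, e⟩ | ⟨u, v, hu, hv, e, -⟩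
  · right; left
    obtain ⟨k, hk'⟩ := hk u (unit_ne hu) (by rw [← zL, ← e, ← hab]; exact h0) (by rw [← zL, ← e, ← hab]; exact h1)
    exact ⟨k, by rw [hab, e, zL, zL, hk']⟩
  · exact Or.inl ⟨v, hv, hab.trans e⟩
  · right; right
    have hc : ∀ w : Row F, Qt F w = 1 → Commute j (zL w) → Commute (pair (ax u, (1 : ↥(Iso (Qt F))))) (zL w) := by
      intro w hw hjw
      rw [hab, e] at hjw
      show pair (ax u, 1) * pair (ax w, 1) = pair (ax w, 1) * pair (ax u, 1)
      rw [← map_mul, ← map_mul, Prod.mk_mul_mk, Prod.mk_mul_mk,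
        (commute_of_pair (ax_det hu) (ax_det (unit_ne hw)) hjw).1]
    obtain ⟨k, hk'⟩ := hk u hu (hc _ Qt_e₀ h0) (hc _ (Qt_single 1) h1)
    obtain ⟨v', hv', hvv⟩ := pair_ax_unit (Qt_single (F := F) k) hv (by rw [← hk', ← e, ← hab]; exact S.le hj)
    exact ⟨k, v', hv', by rw [hab, e, hk', hvv, pair_eq_mul]⟩

/-- The centraliser of `e₀` and a mixed half turn. -/
theorem centPlus {x : ↥(Iso (Qn F))} (hx : x ∈ K) (hx0 : Commute x (zL e₀)) {v : Row F} (hv : Qt F v = 1)
    (hx1 : Commute x (zL (Pi.single 1 1) * zR v)) : x ∈ wreath F := by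
  obtain ⟨f, hf, hvf⟩ := exists_unit_perp hv
  obtain ⟨s, hs⟩ : ∃ s, s = zL (Pi.single 1 (1 : F)) := ⟨_, rfl⟩
  obtain ⟨t, ht⟩ : ∃ t, t = x * zR f * x⁻¹ := ⟨_, rfl⟩
  have hzz : Commute (zL (Pi.single 1 (1 : F))) (zL e₀) := by
    show pair (_, _) * pair (_, _) = pair (_, _) * pair (_, _)
    rw [← map_mul, ← map_mul, Prod.mk_mul_mk, Prod.mk_mul_mk, (ax_commute (by simp [e₀])).eq]
  have hfv : Commute (zR f) (zR v) := by
    show pair (_, _) * pair (_, _) = pair (_, _) * pair (_, _)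
    rw [← map_mul, ← map_mul, Prod.mk_mul_mk, Prod.mk_mul_mk,
      (ax_commute (by rw [dotProduct_comm]; exact hvf)).eq]
  have hf1 : Commute (zR f) (zL (Pi.single 1 1) * zR v) := ((zL_zR_commute _ _).symm).mul_right hfv
  have hsK : s ∈ K := hs ▸ S.zL_mem_K (Qt_single 1)
  have htK : t ∈ K := ht ▸ mul_mem (mul_mem hx (S.zR_mem_K hf)) (inv_mem hx)
  have hs0 : Commute s (zL e₀) := hs ▸ hzz
  have hs1 : Commute s (zL (Pi.single 1 1) * zR v) := by
    rw [hs]; exact (Commute.refl _).mul_right (zL_zR_commute _ _)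
  have ht0 : Commute t (zL e₀) := ht ▸ (hx0.mul_left (zL_zR_commute _ _).symm).mul_left hx0.inv_left
  have ht1 : Commute t (zL (Pi.single 1 1) * zR v) := ht ▸ (hx1.mul_left hf1).mul_left hx1.inv_left
  have htt : t * t = 1 := ht ▸ conj_sq_one (zR_mul_self f) x
  have htt' : trN t = -3 := by rw [ht, trN_conj, trN_zR (unit_ne hf)]
  have hnc : ∀ d ∈ Subgroup.closure ({s, t} : Set _), d * s * d⁻¹ ≠ t := by
    intro d hd e
    obtain ⟨-, hd0⟩ := S.closure_le_cent hsK htK hs0 ht0 hd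
    refine conj_zL_ne_zR S.h5 (hx0.inv_left.mul_left hd0) (u := Pi.single 1 (1 : F)) (v := f) (by simp) hf ?_
    rw [← hs, _root_.mul_inv_rev, inv_inv, show x⁻¹ * d * s * (d⁻¹ * x) = x⁻¹ * (d * s * d⁻¹) * x by group, e, ht]
    group
  obtain ⟨j, hjcl, hjj, hj1, hjs, hjt, hd⟩ := dihedral_pair (s := s) (t := t) (by rw [hs]; exact zL_mul_self _) htt hnc
  obtain ⟨hjK, hj0⟩ := S.closure_le_cent hsK htK hs0 ht0 hjcl
  obtain ⟨-, hjv⟩ := S.closure_le_cent hsK htK hs1 ht1 hjcl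
  have finish : t ∈ wreath F → x ∈ wreath F := fun h => S.endgame hx hx0 hf (ht ▸ h)
  rcases S.third hjK hjj hj1 hj0 (hs ▸ hjs) with ⟨v', hv', e⟩ | ⟨k, e⟩ | ⟨k, v', hv', e⟩
  · exact finish (S.centMixed htK Qt_e₀ hv' ht0 (e ▸ hjt.symm))
  · rcases eq_or_ne k 0 with rfl | hk
    · exfalso
      rcases hd with ⟨-, d, -, hd⟩ | ⟨d, hd', hd⟩
      · have h1 : trN (t * j) = -3 := by rw [← hd, trN_conj, htt']
        rw [ht, e, show x * zR f * x⁻¹ * zL (Pi.single 0 1) = x * (zR f * zL (e₀ : Row F)) * x⁻¹ by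
          rw [show (zL (Pi.single 0 1) : ↥(Iso (Qn F))) = zL e₀ from rfl,
            show x * (zR f * zL (e₀ : Row F)) * x⁻¹ = x * zR f * x⁻¹ * (x * zL (e₀ : Row F) * x⁻¹) by group,
            conj_eq_self hx0],
          trN_conj, ← (zL_zR_commute _ _).eq, ← pair_eq_mul, trN_ax_ax (unit_ne Qt_e₀) (unit_ne hf)] at h1
        exact neg_three_ne_one h1.symm
      · obtain ⟨-, hd0⟩ := S.closure_le_cent hsK htK hs0 ht0 hd'
        refine conj_zL_ne_zR S.h5 (hx0.inv_left.mul_left hd0) (u := Pi.single 2 (1 : F)) (v := f) (by simp) hf ?_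
        have e2 : s * j = zL (Pi.single 2 (1 : F)) := by
          rw [hs, e, show (zL (Pi.single 0 1) : ↥(Iso (Qn F))) = zL e₀ from rfl, hzz.eq, zL_e₀_e₁]
        rw [← e2, _root_.mul_inv_rev, inv_inv,
          show x⁻¹ * d * (s * j) * (d⁻¹ * x) = x⁻¹ * (d * (s * j) * d⁻¹) * x by group, hd, ht]
        group
    · exact finish (S.centL htK Qt_e₀ (Qt_single k) (by simp [e₀, Ne.symm hk]) ht0 (e ▸ hjt.symm))
  rcases eq_or_ne k 0 with rfl | hk0
  · refine finish (S.centMixed htK Qt_e₀ hv' ht0 ?_)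
    have h1 : zR v' = zL e₀ * j := by
      rw [e, ← mul_assoc, show (zL (Pi.single 0 1) : ↥(Iso (Qn F))) = zL e₀ from rfl, zL_mul_self, one_mul]
    rw [h1]
    exact ht0.mul_right hjt.symm
  -- mixed third involution
  have hvc : ax v' * ax v = ax v * ax v' := by
    have h1 := hjv
    rw [e, ← pair_eq_mul, ← pair_eq_mul] at h1
    exact (commute_of_pair (ax_det (unit_ne (Qt_single k))) (ax_det (unit_ne (Qt_single 1))) h1).2
  rcases axes_of_commute (unit_ne hv') (unit_ne hv) hvc with hperp | hsame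
  · -- a half turn of the right factor
    obtain ⟨w, hw, hw'⟩ := exists_ax_unit (mul_mem (ax_mem_omegaT hv') (ax_mem_omegaT hv))
      (by rw [show ax v' * ax v * (ax v' * ax v) = ax v' * (ax v * ax v') * ax v by group, ← hvc,
        show ax v' * (ax v' * ax v) * ax v = (ax v' * ax v') * (ax v * ax v) by group, ax_mul_self, ax_mul_self,
        one_mul])
      (fun e' => by
        have h1 : ax v' = ax v := by rw [eq_inv_of_mul_eq_one_left e', inv_eq_of_mul_eq_one_left (ax_mul_self v)]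
        have h3 := LinearEquiv.congr_fun (congrArg Subtype.val h1) v
        change (ax v').1 v = (ax v).1 v at h3
        rw [ax_self (unit_ne hv), ax_perp hperp] at h3
        exact unit_ne hv (by rw [OOmega.neg_fixed_free h2.out h3, QuadraticMap.map_zero]))
    refine finish (S.centMixed htK Qt_e₀ hw ht0 ?_)
    have h4 : zR w = (zL (Pi.single 1 1) * zR v') * (zL (Pi.single 1 1) * zR v) := by
      rw [← pair_eq_mul, ← pair_eq_mul, ← map_mul, Prod.mk_mul_mk, ax_mul_self, hw', zR]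
    rw [h4]
    refine Commute.mul_right ?_ ht1
    rcases ((show ∀ k : Fin 3, k ≠ 0 → k = 1 ∨ k = 2 by decide) k hk0) with rfl | rfl
    · exact e ▸ hjt.symm
    · have h5 : zL (Pi.single 1 1) * zR v' = zL (e₀ : Row F) * j := by
        rw [e, ← zL_e₀_e₁, ← mul_assoc, ← mul_assoc, zL_mul_self, one_mul]
      rw [h5]
      exact ht0.mul_right hjt.symm
  · exfalso
    have ej : j = zL (Pi.single k 1) * zR v := by rw [e, zR, zR, hsame]
    rcases ((show ∀ k : Fin 3, k ≠ 0 → k = 1 ∨ k = 2 by decide) k hk0) with rfl | rfl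
    · have esj : s * j = zR v := by rw [hs, ej, ← mul_assoc, zL_mul_self, one_mul]
      rcases hd with ⟨⟨d, hd', hd⟩, -⟩ | ⟨d, hd', hd⟩
      · rw [esj, hs] at hd
        exact conj_zL_ne_zR S.h5 (S.closure_le_cent hsK htK hs0 ht0 hd').2 (by simp) hv hd
      · rw [esj] at hd
        have hhj : Commute (x⁻¹ * d) j :=
          ej ▸ hx1.inv_left.mul_left (S.closure_le_cent hsK htK hs1 ht1 hd').2
        have h1 : x⁻¹ * d * zR v * (x⁻¹ * d)⁻¹ = zR f := by
          rw [_root_.mul_inv_rev, inv_inv, show x⁻¹ * d * zR v * (d⁻¹ * x) = x⁻¹ * (d * zR v * d⁻¹) * x by group,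
            hd, ht]
          group
        have h3 : trN (j * zR v) = trN (j * zR f) := by
          rw [← trN_conj (x⁻¹ * d) (j * zR v)]
          congr 1
          rw [show x⁻¹ * d * (j * zR v) * (x⁻¹ * d)⁻¹ = x⁻¹ * d * j * (x⁻¹ * d)⁻¹ * (x⁻¹ * d * zR v * (x⁻¹ * d)⁻¹) by
            group, conj_eq_self hhj, h1]
        have e1 : trN (j * zR v) = -3 := by
          rw [ej, mul_assoc, zR_mul_self, mul_one, trN_zL (unit_ne (Qt_single 1))]
        have e3 : trN (j * zR f) = 1 := by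
          obtain ⟨w, hw, hw'⟩ := exists_ax_unit (mul_mem (ax_mem_omegaT hv) (ax_mem_omegaT hf))
            (by rw [show ax v * ax f * (ax v * ax f) = ax v * (ax f * ax v) * ax f by group, ← (ax_commute hvf).eq,
              show ax v * (ax v * ax f) * ax f = (ax v * ax v) * (ax f * ax f) by group, ax_mul_self, ax_mul_self,
              one_mul])
            (fun e' => by
              have h1 : ax v = ax f := by rw [eq_inv_of_mul_eq_one_left e', inv_eq_of_mul_eq_one_left (ax_mul_self f)]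
              have h3 := LinearEquiv.congr_fun (congrArg Subtype.val h1) f
              change (ax v).1 f = (ax f).1 f at h3
              rw [ax_self (unit_ne hf), ax_perp hvf] at h3
              exact unit_ne hf (by rw [OOmega.neg_fixed_free h2.out h3, QuadraticMap.map_zero]))
          have h4 : j * zR f = pair (ax (Pi.single 1 1), ax w) := by
            rw [ej, ← pair_eq_mul, zR, ← map_mul, Prod.mk_mul_mk, mul_one, hw']
          rw [h4, trN_ax_ax (unit_ne (Qt_single 1)) (unit_ne hw)]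
        exact neg_three_ne_one (e1.symm.trans (h3.trans e3))
    · have esj : s * j = zL e₀ * zR v := by
        rw [hs, ej, ← zL_e₀_e₁, ← mul_assoc, ← mul_assoc, hzz.eq, mul_assoc (zL (e₀ : Row F)), zL_mul_self,
          mul_one]
      have h1 : trN (s * j) = 1 := by
        rw [esj, ← pair_eq_mul, trN_ax_ax (unit_ne Qt_e₀) (unit_ne hv)]
      rcases hd with ⟨⟨d, -, hd⟩, -⟩ | ⟨d, -, hd⟩
      · rw [← hd, trN_conj, hs, trN_zL (unit_ne (Qt_single 1))] at h1
        exact neg_three_ne_one h1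
      · rw [← hd, trN_conj, h1] at htt'
        exact neg_three_ne_one htt'.symm

/-- The centraliser of the half turn about `e₀`. -/
theorem centOne₀ {y : ↥(Iso (Qn F))} (hy : y ∈ K) (hy0 : Commute y (zL e₀)) : y ∈ wreath F := by
  obtain ⟨s, hs⟩ : ∃ s, s = zL (Pi.single 1 (1 : F)) := ⟨_, rfl⟩
  obtain ⟨t, ht⟩ : ∃ t, t = y * zR (e₀ : Row F) * y⁻¹ := ⟨_, rfl⟩
  have hzz : Commute (zL (Pi.single 1 (1 : F))) (zL e₀) := by
    show pair (_, _) * pair (_, _) = pair (_, _) * pair (_, _)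
    rw [← map_mul, ← map_mul, Prod.mk_mul_mk, Prod.mk_mul_mk, (ax_commute (by simp [e₀])).eq]
  have hsK : s ∈ K := hs ▸ S.zL_mem_K (Qt_single 1)
  have htK : t ∈ K := ht ▸ mul_mem (mul_mem hy (S.zR_mem_K Qt_e₀)) (inv_mem hy)
  have hs0 : Commute s (zL e₀) := hs ▸ hzz
  have ht0 : Commute t (zL e₀) := ht ▸ (hy0.mul_left (zL_zR_commute _ _).symm).mul_left hy0.inv_left
  have htt' : trN t = -3 := by rw [ht, trN_conj, trN_zR (unit_ne Qt_e₀)]
  have hnc : ∀ d ∈ Subgroup.closure ({s, t} : Set _), d * s * d⁻¹ ≠ t := by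
    intro d hd e
    obtain ⟨-, hd0⟩ := S.closure_le_cent hsK htK hs0 ht0 hd
    refine conj_zL_ne_zR S.h5 (hy0.inv_left.mul_left hd0) (u := Pi.single 1 (1 : F)) (v := e₀) (by simp) Qt_e₀ ?_
    rw [← hs, _root_.mul_inv_rev, inv_inv, show y⁻¹ * d * s * (d⁻¹ * y) = y⁻¹ * (d * s * d⁻¹) * y by group, e, ht]
    group
  obtain ⟨j, hjcl, hjj, hj1, hjs, hjt, hd⟩ :=
    dihedral_pair (s := s) (t := t) (by rw [hs]; exact zL_mul_self _) (ht ▸ conj_sq_one (zR_mul_self _) y) hnc
  obtain ⟨hjK, hj0⟩ := S.closure_le_cent hsK htK hs0 ht0 hjcl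
  suffices h : t ∈ wreath F from S.endgame hy hy0 Qt_e₀ (ht ▸ h)
  rcases S.third hjK hjj hj1 hj0 (hs ▸ hjs) with ⟨v, hv, e⟩ | ⟨k, e⟩ | ⟨k, v, hv, e⟩
  · exact S.centMixed htK Qt_e₀ hv ht0 (e ▸ hjt.symm)
  · rcases eq_or_ne k 0 with rfl | hk
    · exfalso
      rcases hd with ⟨-, d, -, hd⟩ | ⟨d, hd', hd⟩
      · have h1 : trN (t * j) = -3 := by rw [← hd, trN_conj, htt']
        rw [ht, e, show y * zR (e₀ : Row F) * y⁻¹ * zL (Pi.single 0 1) = y * (zR e₀ * zL (e₀ : Row F)) * y⁻¹ by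
          rw [show (zL (Pi.single 0 1) : ↥(Iso (Qn F))) = zL e₀ from rfl,
            show y * (zR e₀ * zL (e₀ : Row F)) * y⁻¹ = y * zR e₀ * y⁻¹ * (y * zL (e₀ : Row F) * y⁻¹) by group,
            conj_eq_self hy0],
          trN_conj, ← (zL_zR_commute _ _).eq, ← pair_eq_mul, trN_ax_ax (unit_ne Qt_e₀) (unit_ne Qt_e₀)] at h1
        exact neg_three_ne_one h1.symm
      · obtain ⟨-, hd0⟩ := S.closure_le_cent hsK htK hs0 ht0 hd'
        refine conj_zL_ne_zR S.h5 (hy0.inv_left.mul_left hd0) (u := Pi.single 2 (1 : F)) (v := e₀) (by simp) Qt_e₀ ?_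
        have e2 : s * j = zL (Pi.single 2 (1 : F)) := by
          rw [hs, e, show (zL (Pi.single 0 1) : ↥(Iso (Qn F))) = zL e₀ from rfl, hzz.eq, zL_e₀_e₁]
        rw [← e2, _root_.mul_inv_rev, inv_inv,
          show y⁻¹ * d * (s * j) * (d⁻¹ * y) = y⁻¹ * (d * (s * j) * d⁻¹) * y by group, hd, ht]
        group
    · exact S.centL htK Qt_e₀ (Qt_single k) (by simp [e₀, Ne.symm hk]) ht0 (e ▸ hjt.symm)
  rcases ((show ∀ k : Fin 3, k = 0 ∨ k = 1 ∨ k = 2 by decide) k) with rfl | rfl | rfl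
  · refine S.centMixed htK Qt_e₀ hv ht0 ?_
    have h1 : zR v = zL e₀ * j := by
      rw [e, ← mul_assoc, show (zL (Pi.single 0 1) : ↥(Iso (Qn F))) = zL e₀ from rfl, zL_mul_self, one_mul]
    rw [h1]
    exact ht0.mul_right hjt.symm
  · exact S.centPlus htK ht0 hv (e ▸ hjt.symm)
  · refine S.centPlus htK ht0 hv ?_
    have h5 : zL (Pi.single 1 1) * zR v = zL (e₀ : Row F) * j := by
      rw [e, ← zL_e₀_e₁, ← mul_assoc, ← mul_assoc, zL_mul_self, one_mul]
    rw [h5]
    exact ht0.mul_right hjt.symm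

/-- The centraliser of a half turn of the left factor. -/
theorem centZL {g : ↥(Iso (Qn F))} (hg : g ∈ K) {u : Row F} (hu : Qt F u = 1) (h : Commute g (zL u)) :
    g ∈ wreath F := by
  obtain ⟨a, b, ha, -, hab⟩ := exists_move hu (Qt_e₀ (F := F))
  obtain ⟨c, hc⟩ : ∃ c, c = pair (a⁻¹, b⁻¹) := ⟨_, rfl⟩
  have hcm : c ∈ wreath F ⊓ omegaN F := hc ▸ ⟨pair_mem_wreath _ _, pair_mem_omega.mpr (by rw [map_inv, map_inv, hab])⟩
  refine conj_mem_wreath hcm.1 (S.centOne₀ (S.conj_mem_K hcm hg) ?_)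
  have := commute_conj h c
  rwa [hc, conj_zL, show a⁻¹.1 u = e₀ from ha ▸ a.1.symm_apply_apply _, ← hc] at this

/-- The centraliser of a half turn of the right factor. -/
theorem centZR {g : ↥(Iso (Qn F))} (hg : g ∈ K) {v : Row F} (hv : Qt F v = 1) (h : Commute g (zR v)) :
    g ∈ wreath F := by
  refine conj_mem_wreath (F := F) eta_mem.1 (S.centZL (S.conj_mem_K eta_mem hg) hv ?_)
  rw [← conj_eta_zR]; exact commute_conj h _

theorem centHalf {g h : ↥(Iso (Qn F))} (hg : g ∈ K) (hh : IsHalf h) (hc : Commute g h) : g ∈ wreath F := by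
  rcases hh with ⟨u, hu, rfl⟩ | ⟨v, hv, rfl⟩
  exacts [S.centZL hg hu hc, S.centZR hg hv hc]

end Setup

end Cfsg.Agent.Classical.TensorNine
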