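import Cfsg.Agent.Lib.Classical.TensorNine.Blocks

/-!
# Centralisers of two half turns in an overgroup of `Ω₃ ≀ 2`
-/

set_option autoImplicit false
set_option linter.unusedSectionVars false

namespace Cfsg.Agent.Classical.TensorNine

open Matrix Module QuadraticMap
open Cfsg.Agent.Classical
open Cfsg.Agent.Classical.OCount (PND)
open Cfsg.Agent.Classical.ORefl (Iso refl refl_apply)
open Cfsg.Agent.Classical.OOmega (rf both negI classGroup)

variable {F : Type*} [Field F] [Fintype F] [h2 : Fact ((2 : F) ≠ 0)]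

/-- The first axis. -/
def e₀ : Row F := Pi.single 0 1

theorem Qt_e₀ : Qt F (e₀ : Row F) = 1 := Qt_single 0

theorem zL_single_apply (k : Fin 3) (X : Mat F) (i j : Fin 3) :
    (zL (Pi.single k 1)).1 X i j = (if i = k then 1 else -1) * X i j := by
  rw [zL, pair_apply, mat_one, Matrix.transpose_one, Matrix.mul_one, mat_ax, Qt_single]
  simp only [inv_one, one_mul, Matrix.sub_mul, Matrix.one_mul, Matrix.smul_mul, Matrix.sub_apply, Matrix.smul_apply,
    smul_eq_mul, Matrix.vecMulVec_mul, vecMulVec_apply, single_one_vecMul]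
  by_cases h : i = k
  · subst h; simp; ring
  · simp [h]

theorem zR_single_apply (k : Fin 3) (X : Mat F) (i j : Fin 3) :
    (zR (Pi.single k 1)).1 X i j = (if j = k then 1 else -1) * X i j := by
  rw [zR, ← conj_swap_pair]
  show (zL (Pi.single k (1 : F))).1 Xᵀ j i = _
  rw [zL_single_apply, Matrix.transpose_apply]

theorem sign_eq_zero {x : F} (h : -x = x) : x = 0 := OOmega.neg_fixed_free h2.out h

/-- The blocks of the two half turns about the first axes. -/
theorem class_zero {g : ↥(Iso (Qn F))} (h0 : Commute g (zL e₀)) (h0' : Commute g (zR e₀)) (A B : Bool) {X : Mat F}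
    (hX : ∀ i j, (decide (i = 0), decide (j = 0)) ≠ (A, B) → X i j = 0) :
    ∀ i j, (decide (i = 0), decide (j = 0)) ≠ (A, B) → g.1 X i j = 0 := by
  obtain ⟨σ, hσ⟩ : ∃ σ : Bool → F, σ = fun b => if b then 1 else -1 := ⟨_, rfl⟩
  have hσσ : ∀ b c : Bool, b ≠ c → ∀ x, σ b * x = σ c * x → x = 0 := by
    intro b c hbc x hx
    refine sign_eq_zero ?_
    cases b <;> cases c <;> simp [hσ] at hbc hx ⊢
    · exact hx
    · exact hx.symm
  have hL : (zL e₀).1 X = σ A • X := by
    ext i j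
    rw [e₀, zL_single_apply, Matrix.smul_apply, smul_eq_mul]
    by_cases h : (decide (i = 0), decide (j = 0)) = (A, B)
    · rw [show A = decide (i = 0) from (congrArg Prod.fst h).symm, hσ]
      simp
    · rw [hX i j h, mul_zero, mul_zero]
  have hR : (zR e₀).1 X = σ B • X := by
    ext i j
    rw [e₀, zR_single_apply, Matrix.smul_apply, smul_eq_mul]
    by_cases h : (decide (i = 0), decide (j = 0)) = (A, B)
    · rw [show B = decide (j = 0) from (congrArg Prod.snd h).symm, hσ]
      simp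
    · rw [hX i j h, mul_zero, mul_zero]
  intro i j hij
  have hL' : (zL e₀).1 (g.1 X) i j = σ A * g.1 X i j := by
    rw [show (zL e₀).1 (g.1 X) = g.1 ((zL e₀).1 X) from (LinearEquiv.congr_fun (congrArg Subtype.val h0.eq) X).symm,
      hL, map_smul]
    rfl
  have hR' : (zR e₀).1 (g.1 X) i j = σ B * g.1 X i j := by
    rw [show (zR e₀).1 (g.1 X) = g.1 ((zR e₀).1 X) from (LinearEquiv.congr_fun (congrArg Subtype.val h0'.eq) X).symm,
      hR, map_smul]
    rfl
  rw [e₀, zL_single_apply] at hL'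
  rw [e₀, zR_single_apply] at hR'
  by_cases hA : decide (i = 0) = A
  · refine hσσ (decide (j = 0)) B (fun e => hij (Prod.ext hA e)) _ ?_
    simpa [hσ] using hR'
  · refine hσσ (decide (i = 0)) A hA _ ?_
    simpa [hσ] using hL'

/-- A frame with two given first axes. -/
theorem exists_frame {u u' : Row F} (hu : Qt F u = 1) (hu' : Qt F u' = 1) (h : u ⬝ᵥ u' = 0) :
    ∃ a : ↥(Iso (Qt F)), a.1 (Pi.single 0 1) = u ∧ a.1 (Pi.single 1 1) = u' := by
  rw [Qt_apply] at hu hu'
  obtain ⟨p, hp⟩ : ∃ p, p = crossProduct u u' := ⟨_, rfl⟩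
  have h1 : u ⬝ᵥ p = 0 := by rw [hp, dot_self_cross]
  have h3 : u' ⬝ᵥ p = 0 := by rw [hp, dot_cross_self]
  have h4 : p ⬝ᵥ p = 1 := by
    rw [hp, cross_dot_cross, hu, hu', h, dotProduct_comm u' u, h]; ring
  obtain ⟨A, hA⟩ : ∃ A : Mat F, A = Matrix.of fun i j => ![u, u', p] j i := ⟨_, rfl⟩
  have hAA : Aᵀ * A = 1 := by
    ext i j
    rw [Matrix.mul_apply]
    change (∑ k, A k i * A k j) = _
    rw [hA]
    show ![u, u', p] i ⬝ᵥ ![u, u', p] j = _
    fin_cases i <;> fin_cases j <;>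
      simp [hu, hu', h, h1, h3, h4, dotProduct_comm u' u, dotProduct_comm p u, dotProduct_comm p u', Matrix.one_apply]
  refine ⟨ofMat A hAA, ?_, ?_⟩
  all_goals
    rw [← mat_mulVec, mat_ofMat, hA]
    funext i
    simp

theorem exists_unit_perp {v : Row F} (hv : Qt F v = 1) : ∃ f, Qt F f = 1 ∧ v ⬝ᵥ f = 0 := by
  have hv0 : Qt F v ≠ 0 := by rw [hv]; exact one_ne_zero
  obtain ⟨w, hw, hw'⟩ := OOmega.exists_perp h2.out (pnd_Qt h2.out) two_le_finrank_row hv0
  obtain ⟨p, hp⟩ : ∃ p, p = crossProduct v w := ⟨_, rfl⟩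
  rw [polar_Qt] at hw
  have hvw := (mul_eq_zero.mp hw).resolve_left h2.out
  have hwp : w ⬝ᵥ p = 0 := by rw [hp, dot_cross_self]
  have hvp : v ⬝ᵥ p = 0 := by rw [hp, dot_self_cross]
  have hp' : Qt F p = Qt F w := by
    rw [hp, Qt_apply, cross_dot_cross, ← Qt_apply, hv, hvw, dotProduct_comm w v, hvw, ← Qt_apply]; ring
  obtain ⟨a, b, hab⟩ := OOmega.exists_rep h2.out hw' hw' (1 : F)
  refine ⟨a • w + b • p, ?_, ?_⟩
  · rw [QuadraticMap.map_add (Qt F), QuadraticMap.map_smul, QuadraticMap.map_smul, hp', polar_Qt, smul_dotProduct,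
      dotProduct_smul, hwp]
    simp only [smul_eq_mul]
    linear_combination hab
  · simp [dotProduct_add, dotProduct_smul, hvw, hvp]

/-- An isometry with given determinant and spinor norm fixing the first axis. -/
theorem exists_fix (s : ℤˣ × ℤˣ) : ∃ g : ↥(Iso (Qt F)), g.1 e₀ = e₀ ∧ bothT F g = s := by
  classical
  obtain ⟨ν, hν⟩ := FiniteField.exists_nonsquare (F := F) fun h => h2.out (by
    haveI := ringChar.of_eq h
    exact CharTwo.two_eq_zero)
  have hν0 : ν ≠ 0 := fun e => hν (e ▸ IsSquare.zero)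
  obtain ⟨b, c, hbc⟩ := OOmega.exists_rep h2.out (one_ne_zero (α := F)) (one_ne_zero (α := F)) ν
  obtain ⟨w, hw⟩ : ∃ w : Row F, w = ![0, b, c] := ⟨_, rfl⟩
  have hQw : Qt F w = ν := by
    rw [hw, Qt_apply]; simp [dotProduct, Fin.sum_univ_three]; linear_combination hbc
  have hfix : ∀ v : Row F, v 0 = 0 → (rf (Qt F) v).1 e₀ = e₀ := fun v hv =>
    ORefl.refl_fix (by rw [polar_Qt]; simp [e₀, hv])
  have hb1 : bothT F (rf (Qt F) (Pi.single 1 1)) = (-1, 1) := by
    rw [bothT, both_rf' _ two_le_finrank_row (by rw [Qt_single]; exact one_ne_zero), Qt_single,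
      sqSign_eq_one.mpr IsSquare.one]
  have hb2 : bothT F (rf (Qt F) w) = (-1, -1) := by
    rw [bothT, both_rf' _ two_le_finrank_row (by rw [hQw]; exact hν0), hQw]
    simp [sqSign, hν]
  rcases s with ⟨s1, s2⟩
  rcases Int.units_eq_one_or s1 with rfl | rfl <;> rcases Int.units_eq_one_or s2 with rfl | rfl
  · exact ⟨1, rfl, map_one _⟩
  · refine ⟨rf (Qt F) (Pi.single 1 1) * rf (Qt F) w, ?_, by rw [map_mul, hb1, hb2]; decide⟩
    show (rf (Qt F) (Pi.single 1 1)).1 ((rf (Qt F) w).1 e₀) = e₀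
    rw [hfix w (by simp [hw]), hfix _ (by simp)]
  · exact ⟨_, hfix _ (by simp), hb1⟩
  · exact ⟨_, hfix _ (by simp [hw]), hb2⟩

/-- An element of `Ω ∩ (O₃ ≀ 2)` moving both first axes. -/
theorem exists_move {u v : Row F} (hu : Qt F u = 1) (hv : Qt F v = 1) :
    ∃ a b : ↥(Iso (Qt F)), a.1 e₀ = u ∧ b.1 e₀ = v ∧ bothT F a = bothT F b := by
  obtain ⟨u', hu', huu⟩ := exists_unit_perp hu
  obtain ⟨v', hv', hvv⟩ := exists_unit_perp hv
  obtain ⟨a, ha, -⟩ := exists_frame hu hu' huu
  obtain ⟨b, hb, -⟩ := exists_frame hv hv' hvv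
  obtain ⟨g, hg, hgb⟩ := exists_fix (F := F) ((bothT F a)⁻¹ * bothT F b)
  refine ⟨a * g, b, ?_, hb, by rw [map_mul, hgb, mul_inv_cancel_left]⟩
  show a.1 (g.1 e₀) = u
  rw [hg, e₀, ha]

theorem ax_neg (u : Row F) : ax (-u) = ax u := by
  rw [← neg_one_smul F u]; exact ax_smul (neg_ne_zero.mpr one_ne_zero) u

theorem ax_commute {u u' : Row F} (h : u ⬝ᵥ u' = 0) : Commute (ax u) (ax u') := by
  have e := conj_ax (ax u) u'
  rw [ax_perp h, ax_neg] at e
  exact mul_inv_eq_iff_eq_mul.mp e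

theorem conj_zL (a b : ↥(Iso (Qt F))) (u : Row F) : pair (a, b) * zL u * (pair (a, b))⁻¹ = zL (a.1 u) := by
  rw [zL, zL, ← map_inv, ← map_mul, ← map_mul, Prod.inv_mk, Prod.mk_mul_mk, Prod.mk_mul_mk, conj_ax, mul_one,
    mul_inv_cancel]

theorem conj_zR (a b : ↥(Iso (Qt F))) (v : Row F) : pair (a, b) * zR v * (pair (a, b))⁻¹ = zR (b.1 v) := by
  rw [zR, zR, ← map_inv, ← map_mul, ← map_mul, Prod.inv_mk, Prod.mk_mul_mk, Prod.mk_mul_mk, conj_ax, mul_one,
    mul_inv_cancel]

theorem conj_eta_zR (v : Row F) : eta * zR v * (eta (F := F))⁻¹ = zL v := by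
  rw [zR, conj_eta, mul_one, mul_inv_cancel]; rfl

theorem zL_zR_commute (u v : Row F) : Commute (zL u) (zR v) := by
  show pair (_, _) * pair (_, _) = pair (_, _) * pair (_, _)
  rw [← map_mul, ← map_mul, Prod.mk_mul_mk, Prod.mk_mul_mk, one_mul, mul_one, one_mul, mul_one]

/-- Conjugation preserves commuting. -/
theorem commute_conj {G : Type*} [Group G] {g x : G} (h : Commute g x) (c : G) :
    Commute (c * g * c⁻¹) (c * x * c⁻¹) := by
  show c * g * c⁻¹ * (c * x * c⁻¹) = c * x * c⁻¹ * (c * g * c⁻¹)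
  rw [show c * g * c⁻¹ * (c * x * c⁻¹) = c * (g * x) * c⁻¹ by group, h.eq]
  group

theorem commutator_omegaT (h5 : 5 ≤ Nat.card F) : commutator ↥(omegaT F) = ⊤ := by
  rw [← Abelianization.ker_of, eq_top_iff]
  exact fun x _ => MonoidHom.mem_ker.mpr (hom_trivial h5 Abelianization.of (fun _ _ => mul_comm _ _) x)

/-- `Ω₃` fixes no line. -/
theorem eq_zero_of_line (h5 : 5 ≤ Nat.card F) {r : Row F} (h : ∀ a ∈ omegaT F, ∃ c : F, a.1 r = c • r) : r = 0 := by
  let St : Subgroup ↥(omegaT F) :=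
    { carrier := {a | a.1.1 r = r}
      one_mem' := rfl
      mul_mem' := fun {a b} (ha : a.1.1 r = r) (hb : b.1.1 r = r) => show a.1.1 (b.1.1 r) = r by rw [hb, ha]
      inv_mem' := fun {a} (ha : a.1.1 r = r) => show a.1.1.symm r = r from (LinearEquiv.symm_apply_eq _).mpr ha.symm }
  have hst : St = ⊤ := by
    rw [eq_top_iff, ← commutator_omegaT h5, commutator_def, Subgroup.commutator_le]
    intro a _ b _
    obtain ⟨c, hc⟩ := h a.1 a.2
    obtain ⟨d, hd⟩ := h b.1 b.2
    show a.1.1 (b.1.1 (a.1.1.symm (b.1.1.symm r))) = r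
    by_cases hr : r = 0
    · subst hr; simp
    have hc0 : c ≠ 0 := fun e => hr (a.1.1.injective (by rw [hc, e, zero_smul, map_zero]))
    have hd0 : d ≠ 0 := fun e => hr (b.1.1.injective (by rw [hd, e, zero_smul, map_zero]))
    have ha' : a.1.1.symm r = c⁻¹ • r := by
      rw [LinearEquiv.symm_apply_eq, map_smul, hc, inv_smul_smul₀ hc0]
    have hb' : b.1.1.symm r = d⁻¹ • r := by
      rw [LinearEquiv.symm_apply_eq, map_smul, hd, inv_smul_smul₀ hd0]
    simp only [hb', map_smul, ha', hd, hc, smul_smul]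
    conv_rhs => rw [← one_smul F r]
    congr 1
    field_simp
  have hfix : ∀ k : Fin 3, (ax (Pi.single k (1 : F))).1 r = r := fun k =>
    (hst ▸ Subgroup.mem_top (⟨_, ax_mem_omegaT (Qt_single k)⟩ : ↥(omegaT F)) :
      (⟨_, ax_mem_omegaT (Qt_single k)⟩ : ↥(omegaT F)) ∈ St)
  have hz : ∀ k i : Fin 3, i ≠ k → r i = 0 := by
    intro k i hik
    have := congrFun (hfix k) i
    rw [ax_apply, Qt_single, single_dotProduct] at this
    refine sign_eq_zero ?_
    simpa [hik] using this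
  funext i
  exact hz (i + 1) i ((show ∀ i : Fin 3, i ≠ i + 1 by decide) i)

/-- A half turn of the left factor is never carried to one of the right factor by a centraliser. -/
theorem conj_zL_ne_zR (h5 : 5 ≤ Nat.card F) {y : ↥(Iso (Qn F))} (hy : Commute y (zL e₀)) {u v : Row F}
    (hu : u 0 = 0) (hv : Qt F v = 1) : y * zL u * y⁻¹ ≠ zR v := by
  intro he
  obtain ⟨M, hM⟩ : ∃ M, M = y.1.symm (vecMulVec e₀ v) := ⟨_, rfl⟩
  have hyM : y.1 M = vecMulVec e₀ v := by rw [hM, LinearEquiv.apply_symm_apply]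
  have hM0 : M ≠ 0 := fun e => by
    rw [e, map_zero] at hyM
    have h1 : v = 0 := funext fun j => by
      have := congrFun (congrFun hyM 0) j
      simpa [vecMulVec_apply, e₀] using this.symm
    rw [h1, QuadraticMap.map_zero] at hv
    exact zero_ne_one hv
  -- the line of `e₀ ⊗ v`
  have hline : ∀ g : ↥(Iso (Qn F)), Commute g (zL e₀) → Commute g (zR v) →
      ∃ c : F, g.1 (vecMulVec e₀ v) = c • vecMulVec e₀ v := by
    intro g h0 h1
    have hfix : ∀ z : ↥(Iso (Qn F)), Commute g z → z.1 (vecMulVec e₀ v) = vecMulVec e₀ v →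
        z.1 (g.1 (vecMulVec e₀ v)) = g.1 (vecMulVec e₀ v) := fun z hz hzf => by
      conv_rhs => rw [← hzf]
      exact (LinearEquiv.congr_fun (congrArg Subtype.val hz.eq) _).symm
    obtain ⟨Y, hY⟩ : ∃ Y, Y = g.1 (vecMulVec e₀ v) := ⟨_, rfl⟩
    have hL := hfix _ h0 (by rw [zL, pair_ot, ax_self (by rw [Qt_e₀]; exact one_ne_zero)]; rfl)
    have hR := hfix _ h1 (by rw [zR, pair_ot, ax_self (by rw [hv]; exact one_ne_zero)]; rfl)
    rw [← hY] at hL hR ⊢
    have hrow : ∀ i : Fin 3, i ≠ 0 → ∀ j, Y i j = 0 := fun i hi j => by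
      have := congrFun (congrFun hL i) j
      rw [e₀, zL_single_apply, if_neg hi] at this
      exact sign_eq_zero (by simpa using this)
    have hax : (ax v).1 (Y 0) = Y 0 := by
      rw [zR, ← rows_const] at hR
      exact congrFun hR 0
    rw [ax_apply, sub_eq_iff_eq_add, ← two_smul F (Y 0)] at hax
    refine ⟨2⁻¹ * ((Qt F v)⁻¹ * (2 * (v ⬝ᵥ Y 0))), ?_⟩
    ext i j
    by_cases hi : i = 0
    · subst hi
      have := congrFun hax j
      simp only [Pi.smul_apply, smul_eq_mul] at this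
      simp [vecMulVec_apply, e₀]
      rw [mul_assoc, this, ← mul_assoc, inv_mul_cancel₀ h2.out, one_mul]
    · rw [hrow i hi]; simp [vecMulVec_apply, e₀, hi]
  obtain ⟨i, hi⟩ : ∃ i, M i ≠ 0 := by
    by_contra hcon
    push Not at hcon
    exact hM0 (funext hcon)
  refine hi (eq_zero_of_line h5 fun a _ => ?_)
  have hc1 : Commute (pair (1, a)) (zL e₀) := by
    show _ * pair (_, _) = pair (_, _) * _
    rw [← map_mul, ← map_mul, Prod.mk_mul_mk, Prod.mk_mul_mk, one_mul, mul_one, one_mul, mul_one]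
  have hc2 : Commute (pair (1, a)) (zL u) := by
    show _ * pair (_, _) = pair (_, _) * _
    rw [← map_mul, ← map_mul, Prod.mk_mul_mk, Prod.mk_mul_mk, one_mul, mul_one, one_mul, mul_one]
  obtain ⟨c, hc⟩ := hline (y * pair (1, a) * y⁻¹)
    (by
      have := commute_conj hc1 y
      rwa [show y * zL e₀ * y⁻¹ = zL e₀ from mul_inv_eq_of_eq_mul hy.eq] at this)
    (he ▸ commute_conj hc2 y)
  refine ⟨c, ?_⟩
  have h3 : (pair (1, a)).1 M = c • M := by
    apply y.1.injective
    rw [map_smul, hyM, ← hc, hM]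
    rfl
  rw [← rows_const] at h3
  exact congrFun h3 i

namespace Setup

variable {K : Subgroup ↥(Iso (Qn F))} (S : Setup K)

include S

theorem const_mem {h : ↥(Iso (Qt F))} (hh : h ∈ omegaT F) : rows (fun _ => h) ∈ K :=
  rows_const h ▸ S.pair_mem (by rw [map_one]; exact (mem_omegaT.mp hh).symm)

/-- No nontrivial element of `Ω₃` sits in one row. -/
theorem single_omega {i : Fin 3} {h : ↥(Iso (Qt F))} (hh : h ∈ omegaT F) (hm : rows (Pi.mulSingle i h) ∈ K) :
    h = 1 := by
  let P : Subgroup ↥(omegaT F) :=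
    Subgroup.comap ((rows.comp (MonoidHom.mulSingle (fun _ : Fin 3 => ↥(Iso (Qt F))) i)).comp (omegaT F).subtype) K
  have hP : P.Normal := ⟨fun a ha k => by
    have := mul_mem (mul_mem (S.const_mem k.2) (show rows (Pi.mulSingle i a.1) ∈ K from ha))
      (inv_mem (S.const_mem k.2))
    show rows (Pi.mulSingle i (k.1 * a.1 * k.1⁻¹)) ∈ K
    rw [← map_mul, ← map_inv, ← map_mul] at this
    convert this using 2
    funext l
    by_cases hl : l = i
    · subst hl; simp
    · simp [Pi.mulSingle_eq_of_ne hl]⟩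
  haveI := isSimple_omegaT (F := F) S.h5
  rcases hP.eq_bot_or_eq_top with h' | h'
  · exact congrArg Subtype.val ((Subgroup.eq_bot_iff_forall _).mp h' ⟨h, hh⟩ hm)
  · refine absurd ?_ not_false
    refine (S.no_block fun a ha => ?_).elim
    have hcyc : pair (cyc (F := F), 1) ∈ K := S.pair_mem (by rw [map_one]; exact mem_omegaT.mp cyc_mem)
    have hmem : rows (Pi.mulSingle i a) ∈ K := (h'.symm ▸ Subgroup.mem_top _ : (⟨a, ha⟩ : ↥(omegaT F)) ∈ P)
    have step : ∀ x, rows x ∈ K → rows (fun k => x (k + 2)) ∈ K := fun x hx => by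
      rw [← conj_cyc_rows]; exact mul_mem (mul_mem hcyc hx) (inv_mem hcyc)
    fin_cases i
    · exact hmem
    · have := step _ (step _ hmem)
      convert this using 2
      funext k
      fin_cases k <;> rfl
    · have := step _ hmem
      convert this using 2
      funext k
      fin_cases k <;> rfl

/-- No nontrivial pair in `Ω₃²` sits in two rows. -/
theorem two_omega {a b : ↥(Iso (Qt F))} (ha : a ∈ omegaT F) (hb : b ∈ omegaT F)
    (hm : rows ![1, a, b] ∈ K) : a = 1 ∧ b = 1 := by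
  have hmul : ∀ x y x' y' : ↥(Iso (Qt F)), rows ![1, x, y] * rows ![1, x', y'] = rows ![1, x * x', y * y'] := by
    intro x y x' y'
    rw [← map_mul]; congr 1; funext l; fin_cases l <;> simp
  have h1 : rows ![(1 : ↥(Iso (Qt F))), 1, 1] = 1 := by
    rw [← map_one rows]; congr 1; funext l; fin_cases l <;> rfl
  have hinv : ∀ x y : ↥(Iso (Qt F)), (rows ![1, x, y])⁻¹ = rows ![1, x⁻¹, y⁻¹] := fun x y =>
    inv_eq_of_mul_eq_one_right (by rw [hmul, mul_inv_cancel, mul_inv_cancel, h1])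
  have hconj : ∀ k x y : ↥(Iso (Qt F)),
      rows (fun _ => k) * rows ![1, x, y] * (rows fun _ => k)⁻¹ = rows ![1, k * x * k⁻¹, k * y * k⁻¹] := by
    intro k x y
    rw [← map_mul, ← map_inv, ← map_mul]; congr 1; funext l; fin_cases l <;> simp
  let P : Subgroup ↥(omegaT F) :=
    { carrier := {x | ∃ y ∈ omegaT F, rows ![1, x.1, y] ∈ K}
      one_mem' := ⟨1, one_mem _, by rw [OneMemClass.coe_one, h1]; exact one_mem _⟩
      mul_mem' := by
        rintro x x' ⟨y, hy, h⟩ ⟨y', hy', h'⟩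
        exact ⟨y * y', mul_mem hy hy', hmul x.1 y x'.1 y' ▸ mul_mem h h'⟩
      inv_mem' := by
        rintro x ⟨y, hy, h⟩
        exact ⟨y⁻¹, inv_mem hy, hinv x.1 y ▸ inv_mem h⟩ }
  have hP : P.Normal := ⟨fun x hx k => by
    obtain ⟨y, hy, h⟩ := hx
    exact ⟨k.1 * y * k.1⁻¹, mul_mem (mul_mem k.2 hy) (inv_mem k.2),
      hconj k.1 x.1 y ▸ mul_mem (mul_mem (S.const_mem k.2) h) (inv_mem (S.const_mem k.2))⟩⟩
  let P' : Subgroup ↥(omegaT F) :=
    { carrier := {y | ∃ x ∈ omegaT F, rows ![1, x, y.1] ∈ K}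
      one_mem' := ⟨1, one_mem _, by rw [OneMemClass.coe_one, h1]; exact one_mem _⟩
      mul_mem' := by
        rintro x x' ⟨y, hy, h⟩ ⟨y', hy', h'⟩
        exact ⟨y * y', mul_mem hy hy', hmul y x.1 y' x'.1 ▸ mul_mem h h'⟩
      inv_mem' := by
        rintro x ⟨y, hy, h⟩
        exact ⟨y⁻¹, inv_mem hy, hinv y x.1 ▸ inv_mem h⟩ }
  have hP' : P'.Normal := ⟨fun x hx k => by
    obtain ⟨y, hy, h⟩ := hx
    exact ⟨k.1 * y * k.1⁻¹, mul_mem (mul_mem k.2 hy) (inv_mem k.2),
      hconj k.1 y x.1 ▸ mul_mem (mul_mem (S.const_mem k.2) h) (inv_mem (S.const_mem k.2))⟩⟩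
  have key : ∀ y, y ∈ omegaT F → rows ![1, 1, y] ∈ K → y = 1 := fun y hy h => by
    refine S.single_omega (i := 2) hy ?_
    convert h using 2
    funext l
    fin_cases l <;> rfl
  have key' : ∀ x, x ∈ omegaT F → rows ![1, x, 1] ∈ K → x = 1 := fun x hx h => by
    refine S.single_omega (i := 1) hx ?_
    convert h using 2
    funext l
    fin_cases l <;> rfl
  by_cases ha1 : a = 1
  · subst ha1; exact ⟨rfl, key b hb hm⟩
  haveI := isSimple_omegaT (F := F) S.h5
  have hPtop : P = ⊤ := hP.eq_bot_or_eq_top.resolve_left fun e =>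
    ha1 (congrArg Subtype.val ((Subgroup.eq_bot_iff_forall _).mp e ⟨a, ha⟩ ⟨b, hb, hm⟩))
  have hb1 : b ≠ 1 := fun e => ha1 (key' a ha (e ▸ hm))
  have hPtop' : P' = ⊤ := hP'.eq_bot_or_eq_top.resolve_left fun e =>
    hb1 (congrArg Subtype.val ((Subgroup.eq_bot_iff_forall _).mp e ⟨b, hb⟩ ⟨a, ha, hm⟩))
  exfalso
  refine S.no_block fun h hh => ?_
  obtain ⟨k, hk, hhk⟩ := (hPtop.symm ▸ Subgroup.mem_top (⟨h, hh⟩ : ↥(omegaT F)) : (⟨h, hh⟩ : ↥(omegaT F)) ∈ P)
  have hkh : h⁻¹ * k = 1 := by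
    have hc : (⟨h⁻¹ * k, mul_mem (inv_mem hh) hk⟩ : ↥(omegaT F)) ∈ Subgroup.center ↥(omegaT F) := by
      refine Subgroup.mem_center_iff.mpr fun y => ?_
      obtain ⟨x, hx, hxy⟩ := (hPtop'.symm ▸ Subgroup.mem_top y : y ∈ P')
      have h1' : rows ![1, h * x * h⁻¹, h * y.1 * h⁻¹] ∈ K :=
        hconj h x y.1 ▸ mul_mem (mul_mem (S.const_mem hh) hxy) (inv_mem (S.const_mem hh))
      have h3 := mul_mem (inv_mem h1') (mul_mem (mul_mem hhk hxy) (inv_mem hhk))
      rw [hinv, hinv, hmul, hmul, hmul, inv_mul_cancel] at h3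
      have h4 := key _ (mul_mem (inv_mem (mul_mem (mul_mem hh y.2) (inv_mem hh)))
        (mul_mem (mul_mem hk y.2) (inv_mem hk))) h3
      have h5 := inv_mul_eq_one.mp h4
      refine Subtype.ext ?_
      show y.1 * (h⁻¹ * k) = h⁻¹ * k * y.1
      calc y.1 * (h⁻¹ * k) = h⁻¹ * (h * y.1 * h⁻¹) * k := by group
        _ = h⁻¹ * (k * y.1 * k⁻¹) * k := by rw [h5]
        _ = h⁻¹ * k * y.1 := by group
    rw [center_omegaT, Subgroup.mem_bot] at hc
    exact congrArg Subtype.val hc
  obtain rfl : k = h := (inv_mul_eq_one.mp hkh).symm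
  have := mul_mem (S.const_mem hh) (inv_mem hhk)
  rw [← map_inv, ← map_mul] at this
  convert this using 2
  funext l
  fin_cases l <;> simp

/-- Row by row elements of the overgroup stabilise the decomposition. -/
theorem rows_wreath {x : Fin 3 → ↥(Iso (Qt F))} (hx : rows x ∈ K) : rows x ∈ wreath F := by
  have hd : ∀ i, ∀ h ∈ omegaT F, (x 0)⁻¹ * x i * h = h * ((x 0)⁻¹ * x i) := by
    intro i h hh
    have hD : rows (fun j => x j * h * (x j)⁻¹ * h⁻¹) ∈ K := by
      have := mul_mem (mul_mem (mul_mem hx (S.const_mem hh)) (inv_mem hx)) (inv_mem (S.const_mem hh))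
      rwa [← map_inv, ← map_inv, ← map_mul, ← map_mul, ← map_mul] at this
    have hmem : ∀ j, x j * h * (x j)⁻¹ * h⁻¹ ∈ omegaT F := fun j =>
      mul_mem (omegaT_normal.conj_mem h hh (x j)) (inv_mem hh)
    obtain ⟨d, hdd⟩ : ∃ d, d = fun j => x j * h * (x j)⁻¹ * h⁻¹ := ⟨_, rfl⟩
    have h3 : rows ![1, (d 0)⁻¹ * d 1, (d 0)⁻¹ * d 2] ∈ K := by
      have := mul_mem (inv_mem (S.const_mem (hmem 0))) hD
      rw [← map_inv, ← map_mul] at this
      convert this using 2
      funext l
      fin_cases l <;> simp [hdd] <;> group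
    obtain ⟨h4, h5⟩ := S.two_omega (hdd ▸ mul_mem (inv_mem (hmem 0)) (hmem 1))
      (hdd ▸ mul_mem (inv_mem (hmem 0)) (hmem 2)) h3
    have hall : d i = d 0 := by
      fin_cases i
      · rfl
      · exact (inv_mul_eq_one.mp h4).symm
      · exact (inv_mul_eq_one.mp h5).symm
    rw [hdd] at hall
    have h6 : x i * h * (x i)⁻¹ = x 0 * h * (x 0)⁻¹ := mul_right_cancel hall
    calc (x 0)⁻¹ * x i * h = (x 0)⁻¹ * (x i * h * (x i)⁻¹) * x i := by group
      _ = (x 0)⁻¹ * (x 0 * h * (x 0)⁻¹) * x i := by rw [h6]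
      _ = h * ((x 0)⁻¹ * x i) := by group
  have hε : ∀ i, rows (Pi.mulSingle i ((x 0)⁻¹ * x i)) ∈ wreath F := by
    intro i
    rcases centraliser_omegaT (hd i) with e | e
    · rw [e, Pi.mulSingle_one, map_one]; exact one_mem _
    · rw [e, rows_single_negI]; exact pair_mem_wreath _ _
  have hsplit : x = (fun _ => x 0) * Pi.mulSingle 0 ((x 0)⁻¹ * x 0) * Pi.mulSingle 1 ((x 0)⁻¹ * x 1) *
      Pi.mulSingle 2 ((x 0)⁻¹ * x 2) := by
    funext l
    fin_cases l <;> simp
  rw [hsplit, map_mul, map_mul, map_mul, rows_const]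
  exact mul_mem (mul_mem (mul_mem (pair_mem_wreath _ _) (hε 0)) (hε 1)) (hε 2)

theorem conj_mem_K {h g : ↥(Iso (Qn F))} (hh : h ∈ wreath F ⊓ omegaN F) (hg : g ∈ K) : h * g * h⁻¹ ∈ K :=
  mul_mem (mul_mem (S.ge hh) hg) (inv_mem (S.ge hh))

omit S in
theorem conj_mem_wreath {h g : ↥(Iso (Qn F))} (hh : h ∈ wreath F) (hg : h * g * h⁻¹ ∈ wreath F) :
    g ∈ wreath F := by
  have := mul_mem (mul_mem (inv_mem hh) hg) hh
  convert this using 1; group

/-- The centraliser of two half turns of the left factor. -/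
theorem centL {g : ↥(Iso (Qn F))} (hg : g ∈ K) {u u' : Row F} (hu : Qt F u = 1) (hu' : Qt F u' = 1)
    (huu : u ⬝ᵥ u' = 0) (h0 : Commute g (zL u)) (h1 : Commute g (zL u')) : g ∈ wreath F := by
  obtain ⟨a, ha0, ha1⟩ := exists_frame hu hu' huu
  obtain ⟨c, hc⟩ : ∃ c, c = pair (a⁻¹, a⁻¹) := ⟨_, rfl⟩
  have hcm : c ∈ wreath F ⊓ omegaN F := hc ▸ ⟨pair_mem_wreath _ _, pair_self_mem_omega _⟩
  have hi : ∀ (w : Row F) k, a.1 (Pi.single k 1) = w → a⁻¹.1 w = Pi.single k 1 := fun w k e =>
    e ▸ a.1.symm_apply_apply _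
  have c0 : Commute (c * g * c⁻¹) (zL (Pi.single 0 1)) := by
    have := commute_conj h0 c
    rwa [hc, conj_zL, hi u 0 ha0, ← hc] at this
  have c1 : Commute (c * g * c⁻¹) (zL (Pi.single 1 1)) := by
    have := commute_conj h1 c
    rwa [hc, conj_zL, hi u' 1 ha1, ← hc] at this
  refine conj_mem_wreath hcm.1 ?_
  have hmem := S.conj_mem_K hcm hg
  obtain ⟨y, hy⟩ : ∃ y, y = c * g * c⁻¹ := ⟨_, rfl⟩
  rw [← hy] at c0 c1 hmem ⊢
  -- rows are preserved
  have hsupp : ∀ (i : Fin 3) (X : Mat F), (∀ k, k ≠ i → X k = 0) → ∀ k, k ≠ i → y.1 X k = 0 := by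
    intro i X hX k hki
    have hs : ∀ l : Fin 3, l = 0 ∨ l = 1 → Commute y (zL (Pi.single l (1 : F))) := by
      rintro l (rfl | rfl)
      exacts [c0, c1]
    obtain ⟨l, hl, hlk⟩ :=
      (show ∀ i k : Fin 3, k ≠ i → ∃ l : Fin 3, (l = 0 ∨ l = 1) ∧ ¬ (k = l ↔ i = l) by decide) i k hki
    funext j
    have hz : (zL (Pi.single l 1)).1 X = (if i = l then (1 : F) else -1) • X := by
      ext p q
      rw [zL_single_apply, Matrix.smul_apply, smul_eq_mul]
      by_cases hp : p = i
      · rw [hp]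
      · simp [hX p hp]
    have e : (zL (Pi.single l 1)).1 (y.1 X) k j = (if i = l then (1 : F) else -1) * y.1 X k j := by
      rw [show (zL (Pi.single l 1)).1 (y.1 X) = y.1 ((zL (Pi.single l (1 : F))).1 X) from
        (LinearEquiv.congr_fun (congrArg Subtype.val (hs l hl).eq) X).symm, hz, map_smul]
      rfl
    rw [zL_single_apply] at e
    refine sign_eq_zero ?_
    by_cases hk : k = l
    · rw [if_pos hk, if_neg fun h => hlk ⟨fun _ => h, fun _ => hk⟩] at e
      simpa using e.symm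
    · rw [if_neg hk, if_pos (by_contra fun h => hlk ⟨fun h' => absurd h' hk, fun h' => absurd h' h⟩)] at e
      simpa using e
  let r : Fin 3 → Row F →ₗ[F] Row F := fun i =>
    { toFun := fun w => y.1 (vecMulVec (Pi.single i 1) w) i
      map_add' := fun w w' => by rw [Matrix.vecMulVec_add, map_add]; rfl
      map_smul' := fun t w => by rw [Matrix.vecMulVec_smul, map_smul]; rfl }
  have hr : ∀ i w, y.1 (vecMulVec (Pi.single i 1) w) = vecMulVec (Pi.single i 1) (r i w) := by
    intro i w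
    ext k j
    by_cases hk : k = i
    · subst hk; simp [vecMulVec_apply, r]
    · have := hsupp i (vecMulVec (Pi.single i 1) w) (fun p hp => by funext q; simp [vecMulVec_apply, hp]) k hk
      rw [congrFun this j]
      simp [vecMulVec_apply, hk]
  have hrinj : ∀ i, Function.Injective (r i) := fun i w w' e => by
    have h := y.1.injective (((hr i w).trans (by rw [e])).trans (hr i w').symm)
    funext j
    simpa [vecMulVec_apply] using congrFun (congrFun h i) j
  have hrQ : ∀ i w, Qt F (r i w) = Qt F w := fun i w => by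
    have := y.2 (vecMulVec (Pi.single i 1) w)
    rw [hr, Qn_ot, Qn_ot, Qt_single, one_mul, one_mul] at this
    exact this
  let x : Fin 3 → ↥(Iso (Qt F)) := fun i => ⟨LinearEquiv.ofInjectiveEndo (r i) (hrinj i), hrQ i⟩
  have hxy : y = rows x := by
    refine Subtype.ext (LinearEquiv.ext fun X => ?_)
    have hX : X = vecMulVec (Pi.single 0 1) (X 0) + vecMulVec (Pi.single 1 1) (X 1) +
        vecMulVec (Pi.single 2 1) (X 2) := by
      ext p q
      simp only [Matrix.add_apply, vecMulVec_apply]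
      fin_cases p <;> simp
    conv_lhs => rw [hX]
    rw [map_add, map_add, hr, hr, hr]
    ext p q
    rw [rows_apply]
    simp only [Matrix.add_apply, vecMulVec_apply]
    fin_cases p <;> simp [x]
  rw [hxy] at hmem ⊢
  exact S.rows_wreath hmem

/-- The centraliser of two half turns of the right factor. -/
theorem centR {g : ↥(Iso (Qn F))} (hg : g ∈ K) {v v' : Row F} (hv : Qt F v = 1) (hv' : Qt F v' = 1)
    (hvv : v ⬝ᵥ v' = 0) (h0 : Commute g (zR v)) (h1 : Commute g (zR v')) : g ∈ wreath F := by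
  refine conj_mem_wreath (F := F) eta_mem.1 (S.centL (S.conj_mem_K eta_mem hg) hv hv' hvv ?_ ?_)
  · rw [← conj_eta_zR]; exact commute_conj h0 _
  · rw [← conj_eta_zR]; exact commute_conj h1 _

/-- Elements fixing the first row and column are trivial. -/
theorem fix_cross {x : ↥(Iso (Qn F))} (hx : x ∈ K) (h0 : Commute x (zL e₀)) (h0' : Commute x (zR e₀))
    (hfix : ∀ X : Mat F, (∀ i j, i ≠ 0 → j ≠ 0 → X i j = 0) → x.1 X = X) : x = 1 := by
  classical
  let S5 : Subgroup ↥(Iso (Qn F)) :=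
    { carrier := {g | g ∈ K ∧ Commute g (zL e₀) ∧ Commute g (zR e₀) ∧
        ∀ X : Mat F, (∀ i j, i ≠ 0 → j ≠ 0 → X i j = 0) → g.1 X = X}
      one_mem' := ⟨one_mem _, Commute.one_left _, Commute.one_left _, fun _ _ => rfl⟩
      mul_mem' := fun {g g'} hg hg' => ⟨mul_mem hg.1 hg'.1, hg.2.1.mul_left hg'.2.1, hg.2.2.1.mul_left hg'.2.2.1,
        fun X hX => show g.1 (g'.1 X) = X by rw [hg'.2.2.2 X hX, hg.2.2.2 X hX]⟩
      inv_mem' := fun {g} hg => ⟨inv_mem hg.1, hg.2.1.inv_left, hg.2.2.1.inv_left,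
        fun X hX => show g.1.symm X = X from (LinearEquiv.symm_apply_eq _).mpr (hg.2.2.2 X hX).symm⟩ }
  haveI : Finite ↥(Iso (Qn F)) := Finite.of_injective (fun g => (⇑g.1 : Mat F → Mat F))
    fun g g' e => Subtype.ext (LinearEquiv.ext (congrFun e))
  -- the involutions act by inversion
  have hinv : ∀ s : ↥(Iso (Qn F)), s ∈ K → s * s = 1 → Commute s (zL e₀) → Commute s (zR e₀) →
      (∀ X : Mat F, (∀ i j, i ≠ 0 → j ≠ 0 → X i j = 0) → ∀ i j, i ≠ 0 → j ≠ 0 → s.1 X i j = 0) →
      (∀ g ∈ S5, Commute g s → g ∈ wreath F) → ∀ g ∈ S5, s * g * s = g⁻¹ := by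
    intro s hs hss hs0 hs0' hsS hsC g hg
    have hsinv : s⁻¹ = s := inv_eq_of_mul_eq_one_left hss
    have hmem : ∀ g ∈ S5, s * g * s ∈ S5 := fun g hg => ⟨mul_mem (mul_mem hs hg.1) hs,
      (hs0.mul_left hg.2.1).mul_left hs0, (hs0'.mul_left hg.2.2.1).mul_left hs0', fun X hX => by
        show s.1 (g.1 (s.1 X)) = X
        rw [hg.2.2.2 _ (hsS X hX)]
        exact LinearEquiv.congr_fun (congrArg Subtype.val hss) X⟩
    have hfree : ∀ g ∈ S5, s * g * s = g → g = 1 := by
      intro g hg e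
      have hc : Commute g s := by
        show g * s = s * g
        calc g * s = s * g * s * s := by rw [e]
          _ = s * g * (s * s) := by group
          _ = s * g := by rw [hss, mul_one]
      obtain ⟨a, b, rfl⟩ := pair_of_commute (hsC g hg hc) (by rw [Qt_e₀]; exact one_ne_zero) hg.2.1
      have hf := fun (p q : Fin 3) (hpq : p = 0 ∨ q = 0) => hg.2.2.2 (vecMulVec (Pi.single p 1) (Pi.single q 1))
        (fun i j hi hj => by rcases hpq with rfl | rfl <;> simp [vecMulVec_apply, hi, hj])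
      refine Subtype.ext (LinearEquiv.toLinearMap_injective ((Matrix.stdBasis F (Fin 3) (Fin 3)).ext fun pq => ?_))
      obtain ⟨p, q⟩ := pq
      rw [Matrix.stdBasis_eq_single, Matrix.single_eq_single_vecMulVec_single]
      show (pair (a, b)).1 (vecMulVec (Pi.single p 1) (Pi.single q (1 : F))) = _
      have e00 := congrFun (congrFun (hf 0 0 (Or.inl rfl)) 0) 0
      have ep := fun i => congrFun (congrFun (hf p 0 (Or.inr rfl)) i) 0
      have eq' := fun j => congrFun (congrFun (hf 0 q (Or.inl rfl)) 0) j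
      rw [pair_ot] at e00 ⊢
      simp only [pair_ot, vecMulVec_apply, Pi.single_eq_same, mul_one, one_mul] at e00 ep eq'
      ext i j
      show _ = vecMulVec (Pi.single p (1 : F)) (Pi.single q 1) i j
      rw [vecMulVec_apply, vecMulVec_apply, ← ep i, ← eq' j]
      linear_combination (-(a.1 (Pi.single p 1) i * b.1 (Pi.single q 1) j)) * e00
    let f : ↥S5 → ↥S5 := fun g => g⁻¹ * ⟨s * g.1 * s, hmem _ g.2⟩
    have hinj : Function.Injective f := by
      intro g g' e
      have e' : g.1⁻¹ * (s * g.1 * s) = g'.1⁻¹ * (s * g'.1 * s) := congrArg Subtype.val e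
      have h1 := hfree (g'.1 * g.1⁻¹) (mul_mem g'.2 (inv_mem g.2)) (by
        calc s * (g'.1 * g.1⁻¹) * s = s * g'.1 * (s * s) * g.1⁻¹ * s := by rw [hss]; group
          _ = (s * g'.1 * s) * (s * g.1 * s)⁻¹ := by rw [_root_.mul_inv_rev, _root_.mul_inv_rev, hsinv]; group
          _ = g'.1 * (g'.1⁻¹ * (s * g'.1 * s)) * (s * g.1 * s)⁻¹ := by group
          _ = g'.1 * g.1⁻¹ := by rw [← e']; group)
      exact Subtype.ext (mul_inv_eq_one.mp h1).symm
    obtain ⟨g', hg'⟩ := Finite.surjective_of_injective hinj ⟨g, hg⟩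
    have hg'' : g'.1⁻¹ * (s * g'.1 * s) = g := congrArg Subtype.val hg'
    rw [← hg'']
    calc s * (g'.1⁻¹ * (s * g'.1 * s)) * s = s * g'.1⁻¹ * s * g'.1 * (s * s) := by group
      _ = (g'.1⁻¹ * (s * g'.1 * s))⁻¹ := by rw [hss, _root_.mul_inv_rev, _root_.mul_inv_rev, _root_.mul_inv_rev, hsinv]; group
  have hsL : ∀ u : Row F, Qt F u = 1 → u 0 = 0 → ∀ g ∈ S5, zL u * g * zL u = g⁻¹ := by
    intro u hu hu0
    have huo : u ⬝ᵥ e₀ = 0 := by simp [e₀, hu0]
    have huo' : e₀ ⬝ᵥ u = 0 := by rw [dotProduct_comm]; exact huo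
    refine hinv _ (S.ge (zL_mem hu)) ?_ ?_ (zL_zR_commute _ _) ?_ fun g hg hgc => S.centL hg.1 Qt_e₀ hu huo' hg.2.1 hgc
    · rw [zL, ← map_mul, Prod.mk_mul_mk, ax_mul_self, mul_one]; exact map_one pair
    · show pair (_, _) * pair (_, _) = pair (_, _) * pair (_, _)
      rw [← map_mul, ← map_mul, Prod.mk_mul_mk, Prod.mk_mul_mk, (ax_commute huo).eq]
    · intro X hX i j hi hj
      rw [zL, pair_apply, mat_one, Matrix.transpose_one, Matrix.mul_one, Matrix.mul_apply, Fin.sum_univ_three,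
        show mat (ax u) i 0 = 0 by
          rw [mat_ax]; simp [vecMulVec_apply, hu0, Matrix.one_apply, hi],
        hX 1 j (by decide) hj, hX 2 j (by decide) hj]
      ring
  have hsR : ∀ v : Row F, Qt F v = 1 → v 0 = 0 → ∀ g ∈ S5, zR v * g * zR v = g⁻¹ := by
    intro v hv hv0
    have hvo : v ⬝ᵥ e₀ = 0 := by simp [e₀, hv0]
    have hvo' : e₀ ⬝ᵥ v = 0 := by rw [dotProduct_comm]; exact hvo
    refine hinv _ (S.ge (zR_mem hv)) ?_ (zL_zR_commute _ _).symm ?_ ?_
      fun g hg hgc => S.centR hg.1 Qt_e₀ hv hvo' hg.2.2.1 hgc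
    · rw [zR, ← map_mul, Prod.mk_mul_mk, ax_mul_self, mul_one]; exact map_one pair
    · show pair (_, _) * pair (_, _) = pair (_, _) * pair (_, _)
      rw [← map_mul, ← map_mul, Prod.mk_mul_mk, Prod.mk_mul_mk, (ax_commute hvo).eq]
    · intro X hX i j hi hj
      rw [zR, pair_apply, mat_one, Matrix.one_mul, Matrix.mul_apply, Fin.sum_univ_three, Matrix.transpose_apply,
        show mat (ax v) j 0 = 0 by
          rw [mat_ax]; simp [vecMulVec_apply, hv0, Matrix.one_apply, hj],
        hX i 1 hi (by decide), hX i 2 hi (by decide)]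
      ring
  have hsq : ∀ g ∈ S5, g * g = 1 → g = 1 := by
    intro g hg hgg
    have h1 := hsL (Pi.single 1 1) (Qt_single 1) (by simp) g hg
    rw [inv_eq_of_mul_eq_one_left hgg] at h1
    have hw : g ∈ wreath F := by
      refine S.centL hg.1 Qt_e₀ (Qt_single 1) (by simp [e₀]) hg.2.1 ?_
      show g * zL (Pi.single 1 (1 : F)) = zL (Pi.single 1 (1 : F)) * g
      have hz : zL (Pi.single 1 (1 : F)) * zL (Pi.single 1 (1 : F)) = 1 := by
        rw [zL, ← map_mul, Prod.mk_mul_mk, ax_mul_self, mul_one]; exact map_one pair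
      nth_rw 1 [← h1]
      rw [mul_assoc, hz, mul_one]
    obtain ⟨a, b, rfl⟩ := pair_of_commute hw (by rw [Qt_e₀]; exact one_ne_zero) hg.2.1
    have hf := fun (p q : Fin 3) (hpq : p = 0 ∨ q = 0) => hg.2.2.2 (vecMulVec (Pi.single p 1) (Pi.single q 1))
      (fun i j hi hj => by rcases hpq with rfl | rfl <;> simp [vecMulVec_apply, hi, hj])
    refine Subtype.ext (LinearEquiv.toLinearMap_injective ((Matrix.stdBasis F (Fin 3) (Fin 3)).ext fun pq => ?_))
    obtain ⟨p, q⟩ := pq
    rw [Matrix.stdBasis_eq_single, Matrix.single_eq_single_vecMulVec_single]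
    show (pair (a, b)).1 (vecMulVec (Pi.single p 1) (Pi.single q (1 : F))) = _
    have e00 := congrFun (congrFun (hf 0 0 (Or.inl rfl)) 0) 0
    have ep := fun i => congrFun (congrFun (hf p 0 (Or.inr rfl)) i) 0
    have eq' := fun j => congrFun (congrFun (hf 0 q (Or.inl rfl)) 0) j
    rw [pair_ot] at e00 ⊢
    simp only [pair_ot, vecMulVec_apply, Pi.single_eq_same, mul_one, one_mul] at e00 ep eq'
    ext i j
    show _ = vecMulVec (Pi.single p (1 : F)) (Pi.single q 1) i j
    rw [vecMulVec_apply, vecMulVec_apply, ← ep i, ← eq' j]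
    linear_combination (-(a.1 (Pi.single p 1) i * b.1 (Pi.single q 1) j)) * e00
  -- the two planes
  have hxS : x ∈ S5 := ⟨hx, h0, h0', hfix⟩
  obtain ⟨E, hE⟩ : ∃ E : Fin 3 → Fin 3 → Mat F, E = fun k l => vecMulVec (Pi.single k 1) (Pi.single l 1) := ⟨_, rfl⟩
  have hEent : ∀ (Y : Mat F) i j, polar (Qn F) (E i j) Y = 2 * Y i j := fun Y i j => by
    rw [hE, polar_ot]; simp
  have hEkl : ∀ k l i j, E k l i j = (if i = k then 1 else 0) * (if j = l then 1 else 0) := fun k l i j => by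
    simp [hE, vecMulVec_apply, Pi.single_apply]
  have hzero : ∀ k l i j, k ≠ 0 → l ≠ 0 → (i = 0 ∨ j = 0) → x.1 (E k l) i j = 0 := by
    intro k l i j hk hl hij
    refine (mul_eq_zero.mp ?_).resolve_left h2.out
    rw [← hEent, ← hfix (E i j) (fun p q hp hq => by rcases hij with rfl | rfl <;> simp [hEkl, hp, hq]),
      ORefl.polar_iso x.2, hEent, hEkl]
    rcases hij with rfl | rfl
    · simp [Ne.symm hk]
    · simp [Ne.symm hl]
  have hrefl : ∀ (k : Fin 3) i j p q, zL (Pi.single k (1 : F)) * x * zL (Pi.single k 1) = x⁻¹ →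
      (if i = k then (1 : F) else -1) * (if p = k then 1 else -1) * x.1 (E i j) p q = x.1 (E p q) i j := by
    intro k i j p q hkx
    have h1 := congrArg (fun g : ↥(Iso (Qn F)) => g.1 (E i j) p q) hkx
    change (zL (Pi.single k (1 : F))).1 (x.1 ((zL (Pi.single k 1)).1 (E i j))) p q = x.1.symm (E i j) p q at h1
    have hz : (zL (Pi.single k (1 : F))).1 (E i j) = (if i = k then (1 : F) else -1) • E i j := by
      ext r s
      rw [zL_single_apply, Matrix.smul_apply, smul_eq_mul, hEkl]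
      by_cases hr : r = i
      · rw [hr]
      · simp [hr]
    rw [hz, map_smul, zL_single_apply, Matrix.smul_apply, smul_eq_mul] at h1
    refine mul_left_cancel₀ h2.out ?_
    rw [show (if i = k then (1 : F) else -1) * (if p = k then 1 else -1) * x.1 (E i j) p q =
      (if p = k then (1 : F) else -1) * ((if i = k then 1 else -1) * x.1 (E i j) p q) by ring, h1, ← hEent,
      ← ORefl.polar_iso x.2, LinearEquiv.apply_symm_apply, QuadraticMap.polar_comm, hEent]
  have hL1 := hsL (Pi.single 1 1) (Qt_single 1) (by simp)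
  have hR1 := hsR (Pi.single 1 1) (Qt_single 1) (by simp)
  have hsgn : Commute x (pair (ax (Pi.single 1 (1 : F)), ax (Pi.single 1 1))) := by
    have e : pair (ax (Pi.single 1 (1 : F)), ax (Pi.single 1 1)) = zL (Pi.single 1 1) * zR (Pi.single 1 (1 : F)) := by
      rw [zL, zR, ← map_mul, Prod.mk_mul_mk, mul_one, one_mul]
    rw [e]
    have hzR : zR (Pi.single 1 (1 : F)) * zR (Pi.single 1 (1 : F)) = 1 := by
      rw [zR, ← map_mul, Prod.mk_mul_mk, ax_mul_self, mul_one]; exact map_one pair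
    have hzL : zL (Pi.single 1 (1 : F)) * zL (Pi.single 1 (1 : F)) = 1 := by
      rw [zL, ← map_mul, Prod.mk_mul_mk, ax_mul_self, mul_one]; exact map_one pair
    show x * (zL (Pi.single 1 1) * zR (Pi.single 1 (1 : F))) = zL (Pi.single 1 1) * zR (Pi.single 1 (1 : F)) * x
    have e1 : x * zL (Pi.single 1 (1 : F)) = zL (Pi.single 1 (1 : F)) * x⁻¹ := by
      rw [← hL1 x hxS, ← mul_assoc, ← mul_assoc, hzL, one_mul]
    have e3 : x⁻¹ * zR (Pi.single 1 (1 : F)) = zR (Pi.single 1 (1 : F)) * x := by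
      rw [← hR1 x hxS, mul_assoc, hzR, mul_one]
    rw [← mul_assoc, e1, mul_assoc, e3, mul_assoc]
  have hpar : ∀ k l i j, (if i = 1 then (1 : F) else -1) * (if j = 1 then 1 else -1) * x.1 (E k l) i j =
      (if k = 1 then (1 : F) else -1) * (if l = 1 then 1 else -1) * x.1 (E k l) i j := by
    intro k l i j
    have h1 := congrArg (fun g : ↥(Iso (Qn F)) => g.1 (E k l) i j) hsgn.eq
    have hp : ∀ (Y : Mat F) r s, (pair (ax (Pi.single 1 (1 : F)), ax (Pi.single 1 1))).1 Y r s =
        (if r = 1 then (1 : F) else -1) * (if s = 1 then 1 else -1) * Y r s := by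
      intro Y r s
      rw [show pair (ax (Pi.single 1 (1 : F)), ax (Pi.single 1 1)) = zL (Pi.single 1 1) * zR (Pi.single 1 (1 : F)) by
        rw [zL, zR, ← map_mul, Prod.mk_mul_mk, mul_one, one_mul]]
      show (zL (Pi.single 1 (1 : F))).1 ((zR (Pi.single 1 (1 : F))).1 Y) r s = _
      rw [zL_single_apply, zR_single_apply]; ring
    change x.1 ((pair (_, _)).1 (E k l)) i j = (pair (_, _)).1 (x.1 (E k l)) i j at h1
    rw [hp] at h1
    rw [← h1, show (pair (ax (Pi.single 1 (1 : F)), ax (Pi.single 1 1))).1 (E k l) =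
      ((if k = 1 then (1 : F) else -1) * (if l = 1 then 1 else -1)) • E k l by
        ext r s
        rw [hp, Matrix.smul_apply, smul_eq_mul, hEkl]
        by_cases hr : r = k
        · by_cases hs : s = l
          · rw [hr, hs]
          · simp [hs]
        · simp [hr], map_smul]
    rfl
  obtain ⟨a, ha⟩ : ∃ a, a = x.1 (E 1 1) 1 1 := ⟨_, rfl⟩
  obtain ⟨b, hb⟩ : ∃ b, b = x.1 (E 2 2) 1 1 := ⟨_, rfl⟩
  obtain ⟨d, hd⟩ : ∃ d, d = x.1 (E 2 2) 2 2 := ⟨_, rfl⟩
  obtain ⟨a', ha'⟩ : ∃ a', a' = x.1 (E 1 2) 1 2 := ⟨_, rfl⟩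
  obtain ⟨b', hb'⟩ : ∃ b', b' = x.1 (E 2 1) 1 2 := ⟨_, rfl⟩
  obtain ⟨d', hd'⟩ : ∃ d', d' = x.1 (E 2 1) 2 1 := ⟨_, rfl⟩
  have hc : x.1 (E 1 1) 2 2 = -b := by
    have := hrefl 1 1 1 2 2 (hL1 x hxS)
    simp at this
    rw [hb, ← this, neg_neg]
  have hc' : x.1 (E 1 2) 2 1 = -b' := by
    have := hrefl 1 1 2 2 1 (hL1 x hxS)
    simp at this
    rw [hb', ← this, neg_neg]
  have hne : ∀ k l i j, ((if i = 1 then (1 : F) else -1) * (if j = 1 then 1 else -1)) ≠
      (if k = 1 then (1 : F) else -1) * (if l = 1 then 1 else -1) → x.1 (E k l) i j = 0 := fun k l i j h => by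
    by_contra h'
    exact h (mul_right_cancel₀ h' (hpar k l i j))
  have hpm : (-1 : F) ≠ 1 := fun e => h2.out (by linear_combination -e)
  have hx11 : x.1 (E 1 1) = a • E 1 1 + (-b) • E 2 2 := by
    ext i j
    rw [Matrix.add_apply, Matrix.smul_apply, Matrix.smul_apply, hEkl, hEkl]
    by_cases h : i = 0 ∨ j = 0
    · rw [hzero 1 1 i j (by decide) (by decide) h]; rcases h with rfl | rfl <;> simp
    push Not at h
    fin_cases i <;> fin_cases j <;> simp at h ⊢
    · exact ha.symm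
    · exact hne 1 1 1 2 (by simp [hpm])
    · exact hne 1 1 2 1 (by simp [hpm])
    · exact hc
  have hx22 : x.1 (E 2 2) = b • E 1 1 + d • E 2 2 := by
    ext i j
    rw [Matrix.add_apply, Matrix.smul_apply, Matrix.smul_apply, hEkl, hEkl]
    by_cases h : i = 0 ∨ j = 0
    · rw [hzero 2 2 i j (by decide) (by decide) h]; rcases h with rfl | rfl <;> simp
    push Not at h
    fin_cases i <;> fin_cases j <;> simp at h ⊢
    · exact hb.symm
    · exact hne 2 2 1 2 (by simp [hpm])
    · exact hne 2 2 2 1 (by simp [hpm])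
    · exact hd.symm
  have hx12 : x.1 (E 1 2) = a' • E 1 2 + (-b') • E 2 1 := by
    ext i j
    rw [Matrix.add_apply, Matrix.smul_apply, Matrix.smul_apply, hEkl, hEkl]
    by_cases h : i = 0 ∨ j = 0
    · rw [hzero 1 2 i j (by decide) (by decide) h]; rcases h with rfl | rfl <;> simp
    push Not at h
    fin_cases i <;> fin_cases j <;> simp at h ⊢
    · exact hne 1 2 1 1 (by simp [hpm.symm])
    · exact ha'.symm
    · exact hc'
    · exact hne 1 2 2 2 (by simp [hpm.symm])
  have hx21 : x.1 (E 2 1) = b' • E 1 2 + d' • E 2 1 := by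
    ext i j
    rw [Matrix.add_apply, Matrix.smul_apply, Matrix.smul_apply, hEkl, hEkl]
    by_cases h : i = 0 ∨ j = 0
    · rw [hzero 2 1 i j (by decide) (by decide) h]; rcases h with rfl | rfl <;> simp
    push Not at h
    fin_cases i <;> fin_cases j <;> simp at h ⊢
    · exact hne 2 1 1 1 (by simp [hpm.symm])
    · exact hb'.symm
    · exact hd'.symm
    · exact hne 2 1 2 2 (by simp [hpm.symm])
  have horth : ∀ k l i j, polar (Qn F) (x.1 (E k l)) (x.1 (E i j)) = 2 * E i j k l := fun k l i j => by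
    rw [ORefl.polar_iso x.2, hEent]
  have hA1 : a * a + b * b = 1 := by
    have := horth 1 1 1 1
    simp only [hx11, polar_add_left, polar_add_right, polar_smul_left, polar_smul_right, hEent, hEkl, smul_eq_mul] at this
    norm_num [Fin.ext_iff] at this
    exact mul_left_cancel₀ h2.out (by linear_combination this)
  have hA2 : b * (a - d) = 0 := by
    have := horth 1 1 2 2
    simp only [hx11, hx22, polar_add_left, polar_add_right, polar_smul_left, polar_smul_right, hEent, hEkl, smul_eq_mul] at this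
    norm_num [Fin.ext_iff] at this
    exact mul_left_cancel₀ h2.out (by linear_combination this)
  have hA3 : b * b + d * d = 1 := by
    have := horth 2 2 2 2
    simp only [hx22, polar_add_left, polar_add_right, polar_smul_left, polar_smul_right, hEent, hEkl, smul_eq_mul] at this
    norm_num [Fin.ext_iff] at this
    exact mul_left_cancel₀ h2.out (by linear_combination this)
  have hB1 : a' * a' + b' * b' = 1 := by
    have := horth 1 2 1 2
    simp only [hx12, polar_add_left, polar_add_right, polar_smul_left, polar_smul_right, hEent, hEkl, smul_eq_mul] at this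
    norm_num [Fin.ext_iff] at this
    exact mul_left_cancel₀ h2.out (by linear_combination this)
  have hB2 : b' * (a' - d') = 0 := by
    have := horth 1 2 2 1
    simp only [hx12, hx21, polar_add_left, polar_add_right, polar_smul_left, polar_smul_right, hEent, hEkl, smul_eq_mul] at this
    norm_num [Fin.ext_iff] at this
    exact mul_left_cancel₀ h2.out (by linear_combination this)
  have hB3 : b' * b' + d' * d' = 1 := by
    have := horth 2 1 2 1
    simp only [hx21, polar_add_left, polar_add_right, polar_smul_left, polar_smul_right, hEent, hEkl, smul_eq_mul] at this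
    norm_num [Fin.ext_iff] at this
    exact mul_left_cancel₀ h2.out (by linear_combination this)
  -- powers of `x` on the basis
  have hext : ∀ g : ↥(Iso (Qn F)), g ∈ S5 → g.1 (E 1 1) = E 1 1 → g.1 (E 2 2) = E 2 2 → g.1 (E 1 2) = E 1 2 →
      g.1 (E 2 1) = E 2 1 → g = 1 := by
    intro g hg k11 k22 k12 k21
    refine Subtype.ext (LinearEquiv.toLinearMap_injective ((Matrix.stdBasis F (Fin 3) (Fin 3)).ext fun pq => ?_))
    obtain ⟨p, q⟩ := pq
    rw [Matrix.stdBasis_eq_single, Matrix.single_eq_single_vecMulVec_single]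
    show g.1 _ = vecMulVec (Pi.single p (1 : F)) (Pi.single q 1)
    rw [← show E p q = vecMulVec (Pi.single p 1) (Pi.single q (1 : F)) by rw [hE]]
    by_cases h : p = 0 ∨ q = 0
    · exact hg.2.2.2 _ fun i j hi hj => by rcases h with rfl | rfl <;> simp [hEkl, hi, hj]
    push Not at h
    fin_cases p <;> fin_cases q <;> simp at h
    exacts [k11, k12, k21, k22]
  by_cases hrot : ∃ X Y : F, X ≠ 0 ∧ Y ≠ 0 ∧ X * X + Y * Y = 1
  · obtain ⟨X, Y, hX, hY, hXY⟩ := hrot
    obtain ⟨u, hu⟩ : ∃ u : Row F, u = ![0, X, Y] := ⟨_, rfl⟩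
    have hQu : Qt F u = 1 := by
      rw [hu, Qt_apply]; simp [dotProduct, Fin.sum_univ_three]; linear_combination hXY
    have hu0 : u 0 = 0 := by simp [hu]
    have hz : ∀ w : Row F, zL w * zL w = 1 ∧ zR w * zR w = 1 := fun w => by
      constructor
      · rw [zL, ← map_mul, Prod.mk_mul_mk, ax_mul_self, mul_one]; exact map_one pair
      · rw [zR, ← map_mul, Prod.mk_mul_mk, ax_mul_self, mul_one]; exact map_one pair
    have hcomm : ∀ s t : ↥(Iso (Qn F)), s * s = 1 → t * t = 1 → s * x * s = x⁻¹ → t * x * t = x⁻¹ →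
        x * (s * t) = s * t * x := fun s t hs ht e1 e3 => by
      have h1 : x * s = s * x⁻¹ := by rw [← e1, ← mul_assoc, ← mul_assoc, hs, one_mul]
      have h3 : x⁻¹ * t = t * x := by rw [← e3, mul_assoc, ht, mul_one]
      rw [← mul_assoc, h1, mul_assoc, h3, mul_assoc]
    have hcL := hcomm _ _ (hz u).1 (hz _).1 (hsL u hQu hu0 x hxS) (hL1 x hxS)
    have hcR := hcomm _ _ (hz u).2 (hz _).2 (hsR u hQu hu0 x hxS) (hR1 x hxS)
    have hRL : zL u * zL (Pi.single 1 1) = pair (ax u * ax (Pi.single 1 1), 1) := by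
      rw [zL, zL, ← map_mul, Prod.mk_mul_mk, mul_one]
    have hRR : zR u * zR (Pi.single 1 1) = pair (1, ax u * ax (Pi.single 1 1)) := by
      rw [zR, zR, ← map_mul, Prod.mk_mul_mk, mul_one]
    obtain ⟨R, hR⟩ : ∃ R, R = ax u * ax (Pi.single 1 (1 : F)) := ⟨_, rfl⟩
    rw [hRL, ← hR] at hcL
    rw [hRR, ← hR] at hcR
    obtain ⟨p, hp⟩ : ∃ p, p = 2 * X * X - 1 := ⟨_, rfl⟩
    obtain ⟨q, hq⟩ : ∃ q, q = 2 * X * Y := ⟨_, rfl⟩
    have hq0 : q ≠ 0 := hq ▸ mul_ne_zero (mul_ne_zero h2.out hX) hY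
    have hR1e : R.1 (Pi.single 1 1) = p • Pi.single 1 1 + q • Pi.single 2 1 := by
      rw [hR]
      show (ax u).1 ((ax (Pi.single 1 (1 : F))).1 (Pi.single 1 1)) = _
      rw [ax_self (by rw [Qt_single]; exact one_ne_zero), ax_apply, hQu, hp, hq, hu]
      funext k
      fin_cases k <;> simp <;> ring
    have hR2e : R.1 (Pi.single 2 1) = (-q) • Pi.single 1 1 + p • Pi.single 2 1 := by
      rw [hR]
      show (ax u).1 ((ax (Pi.single 1 (1 : F))).1 (Pi.single 2 1)) = _
      rw [ax_perp (u := Pi.single 1 1) (x := Pi.single 2 (1 : F)) (by simp), map_neg, ax_apply, hQu, dotProduct_single, hp, hq, hu]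
      funext k
      simp only [Pi.sub_apply, Pi.smul_apply, Pi.add_apply, Pi.neg_apply, smul_eq_mul]
      fin_cases k <;> simp <;>
        first | ring1 | linear_combination (2 : F) * hXY | linear_combination (-2 : F) * hXY
    have hL11 : (pair (R, 1)).1 (E 1 1) = p • E 1 1 + q • E 2 1 := by
      rw [hE]; dsimp only
      rw [pair_ot, hR1e, Matrix.add_vecMulVec, Matrix.smul_vecMulVec, Matrix.smul_vecMulVec]; rfl
    have hL22 : (pair (R, 1)).1 (E 2 2) = (-q) • E 1 2 + p • E 2 2 := by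
      rw [hE]; dsimp only
      rw [pair_ot, hR2e, Matrix.add_vecMulVec, Matrix.smul_vecMulVec, Matrix.smul_vecMulVec]; rfl
    have hR11 : (pair (1, R)).1 (E 1 1) = p • E 1 1 + q • E 1 2 := by
      rw [hE]; dsimp only
      rw [pair_ot, hR1e, Matrix.vecMulVec_add, Matrix.vecMulVec_smul, Matrix.vecMulVec_smul]; rfl
    have hR22 : (pair (1, R)).1 (E 2 2) = (-q) • E 2 1 + p • E 2 2 := by
      rw [hE]; dsimp only
      rw [pair_ot, hR2e, Matrix.vecMulVec_add, Matrix.vecMulVec_smul, Matrix.vecMulVec_smul]; rfl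
    have e1 : x.1 ((pair (R, 1)).1 (E 1 1)) = (pair (R, 1)).1 (x.1 (E 1 1)) :=
      LinearEquiv.congr_fun (congrArg Subtype.val hcL) _
    have e3 : x.1 ((pair (1, R)).1 (E 1 1)) = (pair (1, R)).1 (x.1 (E 1 1)) :=
      LinearEquiv.congr_fun (congrArg Subtype.val hcR) _
    rw [hL11, map_add, map_smul, map_smul, hx11, hx21, map_add, map_smul, map_smul, hL11, hL22] at e1
    rw [hR11, map_add, map_smul, map_smul, hx11, hx12, map_add, map_smul, map_smul, hR11, hR22] at e3
    have e1a := congrFun (congrFun e1 1) 2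
    have e1b := congrFun (congrFun e1 2) 1
    have e3a := congrFun (congrFun e3 1) 2
    have e3b := congrFun (congrFun e3 2) 1
    simp [hEkl] at e1a e1b e3a e3b
    have hb'b : b' = b := mul_left_cancel₀ hq0 (by linear_combination e1a)
    have hbb' : b' = -b := mul_left_cancel₀ hq0 (by linear_combination -e3b)
    have hb0 : b = 0 := sign_eq_zero (hbb'.symm.trans hb'b)
    have hb'0 : b' = 0 := hb'b.trans hb0
    rw [hb0] at hA1 hA3 hx11 hx22
    rw [hb'0] at hB1 hB3 hx12 hx21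
    refine hsq x hxS (hext _ (mul_mem hxS hxS) ?_ ?_ ?_ ?_)
    · show x.1 (x.1 (E 1 1)) = _
      simp [hx11, map_add, map_smul, smul_smul, show a * a = 1 by linear_combination hA1]
    · show x.1 (x.1 (E 2 2)) = _
      simp [hx22, map_add, map_smul, smul_smul, show d * d = 1 by linear_combination hA3]
    · show x.1 (x.1 (E 1 2)) = _
      simp [hx12, map_add, map_smul, smul_smul, show a' * a' = 1 by linear_combination hB1]
    · show x.1 (x.1 (E 2 1)) = _
      simp [hx21, map_add, map_smul, smul_smul, show d' * d' = 1 by linear_combination hB3]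
  push Not at hrot
  have key : ∀ (s t w : F) (P R' : Mat F), s * s + t * t = 1 → t * (s - w) = 0 → t * t + w * w = 1 →
      x.1 P = s • P + (-t) • R' → x.1 R' = t • P + w • R' → x.1 (x.1 (x.1 (x.1 P))) = P ∧
        x.1 (x.1 (x.1 (x.1 R'))) = R' := by
    intro s t w P R' h1 h3 h4 hP hR'
    rcases eq_or_ne t 0 with rfl | ht
    · have hs : s * s = 1 := by linear_combination h1
      have hw : w * w = 1 := by linear_combination h4
      constructor
      · simp [hP, map_smul, smul_smul, hs]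
      · simp [hR', map_smul, smul_smul, hw]
    · have hws : w = s := (sub_eq_zero.mp ((mul_eq_zero.mp h3).resolve_left ht)).symm
      have hs0 : s = 0 := by
        by_contra hs
        exact hrot s t hs ht h1
      have htt : t * t = 1 := by rw [hs0] at h1; linear_combination h1
      rw [hs0] at hP hws
      rw [hws] at hR'
      constructor
      · simp [hP, hR', map_smul, map_neg, smul_smul, htt]
      · simp [hP, hR', map_smul, map_neg, smul_smul, htt]
  obtain ⟨k11, k22⟩ := key a b d _ _ hA1 hA2 hA3 hx11 hx22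
  obtain ⟨k12, k21⟩ := key a' b' d' _ _ hB1 hB2 hB3 hx12 hx21
  have h4 : (x * x) * (x * x) = 1 := hext _ (mul_mem (mul_mem hxS hxS) (mul_mem hxS hxS)) k11 k22 k12 k21
  exact hsq x hxS (hsq _ (mul_mem hxS hxS) h4)

/-- The centraliser of the two half turns about the first axes. -/
theorem centMixed₀ {y : ↥(Iso (Qn F))} (hy : y ∈ K) (h0 : Commute y (zL e₀)) (h0' : Commute y (zR e₀)) :
    y ∈ wreath F := by
  obtain ⟨u, hu⟩ : ∃ u : Row F, u = fun i => y.1 (vecMulVec (Pi.single 1 1) e₀) i 0 := ⟨_, rfl⟩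
  have hc10 := class_zero h0 h0' false true (X := vecMulVec (Pi.single 1 1) e₀) (fun i j hij => by
    by_cases hi : i = 1
    · subst hi
      have hj : j ≠ 0 := fun e => hij (by simp [e])
      simp [vecMulVec_apply, e₀, hj]
    · simp [vecMulVec_apply, hi])
  have hu0 : u 0 = 0 := by rw [hu]; exact hc10 0 0 (by simp)
  have hy10 : y.1 (vecMulVec (Pi.single 1 1) e₀) = vecMulVec u e₀ := by
    ext i j
    by_cases hj : j = 0
    · subst hj; simp [vecMulVec_apply, e₀, hu]
    · rw [hc10 i j (by simp [hj])]; simp [vecMulVec_apply, e₀, hj]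
  have hQu : Qt F u = 1 := by
    have := y.2 (vecMulVec (Pi.single 1 1) e₀)
    rw [hy10, Qn_ot, Qn_ot, Qt_e₀, Qt_single, mul_one, mul_one] at this
    exact this
  -- `y` carries the second half turn to the half turn about `u` on the first row and column
  have hrel : ∀ X : Mat F, (∀ i j, i ≠ 0 → j ≠ 0 → X i j = 0) →
      y.1 ((zL (Pi.single 1 1)).1 X) = (zL u).1 (y.1 X) := by
    intro X hX
    have hsplit : X = vecMulVec e₀ (X 0) + (X 1 0) • vecMulVec (Pi.single 1 1) e₀ +
        (X 2 0) • vecMulVec (Pi.single 2 1) e₀ := by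
      ext i j
      simp only [Matrix.add_apply, Matrix.smul_apply, vecMulVec_apply, smul_eq_mul]
      by_cases hj : j = 0
      · subst hj; fin_cases i <;> simp [e₀]
      · by_cases hi : i = 0
        · subst hi; simp [e₀]
        · rw [hX i j hi hj]; simp [e₀, hi, hj]
    have hzu : ∀ Y : Mat F, (∀ i j, i ≠ 0 → Y i j = 0) → (zL u).1 Y = -Y := fun Y hY => by
      ext i j
      rw [zL, pair_apply, mat_one, Matrix.transpose_one, Matrix.mul_one, Matrix.mul_apply, Fin.sum_univ_three,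
        hY 1 j (by decide), hY 2 j (by decide), mat_ax]
      by_cases hi : i = 0
      · subst hi; simp [vecMulVec_apply, hu0]
      · simp [vecMulVec_apply, hu0, Matrix.one_apply, hi, hY i j hi]
    have hrow : ∀ w : Row F, y.1 ((zL (Pi.single 1 1)).1 (vecMulVec e₀ w)) = (zL u).1 (y.1 (vecMulVec e₀ w)) := by
      intro w
      have hz : (zL (Pi.single 1 1)).1 (vecMulVec e₀ w) = -vecMulVec e₀ w := by
        rw [zL, pair_ot, ax_perp (by simp [e₀]), Matrix.neg_vecMulVec]; rfl
      rw [hz, map_neg, hzu _ fun i j hi => ?_]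
      have hsum : vecMulVec e₀ w =
          vecMulVec e₀ (Pi.single 0 (w 0)) + vecMulVec e₀ (w - Pi.single 0 (w 0)) := by
        rw [← Matrix.vecMulVec_add, add_sub_cancel]
      rw [hsum, map_add, Matrix.add_apply,
        class_zero h0 h0' true true (fun p q hpq => by
          by_cases hp : p = 0
          · subst hp
            have hq : q ≠ 0 := fun e => hpq (by simp [e])
            simp [vecMulVec_apply, hq]
          · simp [vecMulVec_apply, e₀, hp]) i j (by simp [hi]),
        class_zero h0 h0' true false (fun p q hpq => by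
          by_cases hp : p = 0
          · subst hp
            have hq : q = 0 := by_contra fun e => hpq (by simp [e])
            simp [vecMulVec_apply, hq]
          · simp [vecMulVec_apply, e₀, hp]) i j (by simp [hi]), add_zero]
    have h1 : y.1 ((zL (Pi.single 1 1)).1 (vecMulVec (Pi.single 1 1) e₀)) =
        (zL u).1 (y.1 (vecMulVec (Pi.single 1 1) e₀)) := by
      rw [zL, pair_ot, ax_self (by rw [Qt_single]; exact one_ne_zero), show (1 : ↥(Iso (Qt F))).1 e₀ = e₀ from rfl,
        hy10, zL, pair_ot, ax_self (by rw [hQu]; exact one_ne_zero)]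
      rfl
    have hc20 := class_zero h0 h0' false true (X := vecMulVec (Pi.single 2 1) e₀) (fun i j hij => by
      by_cases hi : i = 2
      · subst hi
        have hj : j ≠ 0 := fun e => hij (by simp [e])
        simp [vecMulVec_apply, e₀, hj]
      · simp [vecMulVec_apply, hi])
    obtain ⟨w, hw⟩ : ∃ w : Row F, w = fun i => y.1 (vecMulVec (Pi.single 2 1) e₀) i 0 := ⟨_, rfl⟩
    have hy20 : y.1 (vecMulVec (Pi.single 2 1) e₀) = vecMulVec w e₀ := by
      ext i j
      by_cases hj : j = 0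
      · subst hj; simp [vecMulVec_apply, e₀, hw]
      · rw [hc20 i j (by simp [hj])]; simp [vecMulVec_apply, e₀, hj]
    have huw : u ⬝ᵥ w = 0 := by
      have := ORefl.polar_iso y.2 (vecMulVec (Pi.single 1 1) e₀) (vecMulVec (Pi.single 2 1) e₀)
      rw [hy10, hy20, polar_ot, polar_ot, Matrix.vecMulVec_mulVec, Matrix.vecMulVec_mulVec] at this
      simp [e₀, h2.out] at this
      exact this
    have h3 : y.1 ((zL (Pi.single 1 1)).1 (vecMulVec (Pi.single 2 1) e₀)) =
        (zL u).1 (y.1 (vecMulVec (Pi.single 2 1) e₀)) := by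
      rw [zL, pair_ot, ax_perp (by simp), Matrix.neg_vecMulVec, show (1 : ↥(Iso (Qt F))).1 e₀ = e₀ from rfl, map_neg,
        hy20, zL, pair_ot, ax_perp huw, Matrix.neg_vecMulVec]
      rfl
    rw [hsplit, map_add, map_add, map_smul, map_smul, map_add, map_add, map_smul, map_smul, map_add, map_add,
      map_smul, map_smul, map_add, map_add, map_smul, map_smul, hrow, h1, h3]
  obtain ⟨c, hc⟩ : ∃ c, c = y * zL (Pi.single 1 1) * y⁻¹ * zL u := ⟨_, rfl⟩
  have hz1 := zL_mem (Qt_single (F := F) 1)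
  have hzu := zL_mem hQu
  have hc0 : ∀ w : Row F, e₀ ⬝ᵥ w = 0 → Commute (zL w) (zL e₀) := fun w hw => by
    show pair (_, _) * pair (_, _) = pair (_, _) * pair (_, _)
    rw [← map_mul, ← map_mul, Prod.mk_mul_mk, Prod.mk_mul_mk, (ax_commute hw).eq]
  have hcL : Commute c (zL e₀) := hc ▸ ((h0.mul_left (hc0 _ (by simp [e₀]))).mul_left h0.inv_left).mul_left
    (hc0 _ (by simp [e₀, hu0]))
  have hcR : Commute c (zR e₀) := hc ▸ ((h0'.mul_left (zL_zR_commute _ _)).mul_left h0'.inv_left).mul_left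
    (zL_zR_commute _ _)
  have hc1 : c = 1 := S.fix_cross (hc ▸ mul_mem (mul_mem (mul_mem hy (S.ge hz1)) (inv_mem hy)) (S.ge hzu)) hcL hcR
    fun X hX => by
      rw [hc]
      show y.1 ((zL (Pi.single 1 1)).1 (y.1.symm ((zL u).1 X))) = X
      have hzX : ∀ i j, i ≠ 0 → j ≠ 0 → (zL u).1 X i j = 0 := fun i j hi hj => by
        rw [zL, pair_apply, mat_one, Matrix.transpose_one, Matrix.mul_one, Matrix.mul_apply, Fin.sum_univ_three,
          show mat (ax u) i 0 = 0 by
            rw [mat_ax]; simp [vecMulVec_apply, hu0, Matrix.one_apply, hi],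
          hX 1 j (by decide) hj, hX 2 j (by decide) hj]
        ring
      obtain ⟨Z, hZ⟩ : ∃ Z, Z = y.1.symm ((zL u).1 X) := ⟨_, rfl⟩
      have hZc : ∀ i j, i ≠ 0 → j ≠ 0 → Z i j = 0 := by
        intro i j hi hj
        have hP : ∀ (W : Mat F) A B, (∀ p q, (decide (p = 0), decide (q = 0)) ≠ (A, B) → W p q = 0) →
            (A, B) ≠ (false, false) → y.1.symm W i j = 0 := fun W A B hW hAB =>
          class_zero (g := y⁻¹) h0.inv_left h0'.inv_left A B hW i j (by simpa [hi, hj] using hAB.symm)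
        obtain ⟨W, hW⟩ : ∃ W, W = (zL u).1 X := ⟨_, rfl⟩
        rw [hZ, ← hW, show W = (Matrix.of fun p q => if p = 0 ∧ q = 0 then W p q else 0) +
          (Matrix.of fun p q => if p = 0 ∧ q ≠ 0 then W p q else 0) +
          (Matrix.of fun p q => if p ≠ 0 ∧ q = 0 then W p q else 0) by
            ext p q
            by_cases hp : p = 0 <;> by_cases hq : q = 0 <;> simp [hp, hq]
            rw [hW, hzX p q hp hq], map_add, map_add, Matrix.add_apply, Matrix.add_apply,
          hP _ true true (fun p q h => by simp at h ⊢; tauto) (by simp),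
          hP _ true false (fun p q h => by simp at h ⊢; tauto) (by simp),
          hP _ false true (fun p q h => by simp at h ⊢; tauto) (by simp), add_zero, add_zero]
      have := hrel Z hZc
      rw [hZ, LinearEquiv.apply_symm_apply] at this
      rw [this]
      show ((zL u) * (zL u)).1 X = X
      rw [show zL u * zL u = 1 by rw [zL, ← map_mul, Prod.mk_mul_mk, ax_mul_self, mul_one]; exact map_one pair]
      rfl
  have hy1 : y * zL (Pi.single 1 1) * y⁻¹ = zL u := by
    rw [hc] at hc1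
    rw [eq_inv_of_mul_eq_one_left hc1]
    exact inv_eq_of_mul_eq_one_left (by rw [zL, ← map_mul, Prod.mk_mul_mk, ax_mul_self, mul_one]; exact map_one pair)
  obtain ⟨a, ha0, ha1⟩ := exists_frame Qt_e₀ hQu (by simp [e₀, hu0] : (e₀ : Row F) ⬝ᵥ u = 0)
  have hpm : pair (a, a) ∈ wreath F ⊓ omegaN F := ⟨pair_mem_wreath _ _, pair_self_mem_omega _⟩
  have hpa : Commute (pair (a, a)) (zL e₀) := by
    have := conj_zL a a e₀
    rw [show a.1 e₀ = e₀ from ha0] at this
    exact mul_inv_eq_iff_eq_mul.mp this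
  have hmem : (pair (a, a))⁻¹ * y ∈ wreath F := by
    refine S.centL (mul_mem (inv_mem (S.ge hpm)) hy) Qt_e₀ (Qt_single 1) (by simp [e₀])
      (hpa.inv_left.mul_left h0) ?_
    show (pair (a, a))⁻¹ * y * zL (Pi.single 1 1) = zL (Pi.single 1 1) * ((pair (a, a))⁻¹ * y)
    have e1 : y * zL (Pi.single 1 1) = zL u * y := mul_inv_eq_iff_eq_mul.mp hy1
    have e3 : zL u * pair (a, a) = pair (a, a) * zL (Pi.single 1 (1 : F)) := by
      rw [← ha1]; exact (mul_inv_eq_iff_eq_mul.mp (conj_zL a a (Pi.single 1 1))).symm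
    rw [mul_assoc, e1, ← mul_assoc, ← mul_assoc]
    congr 1
    rw [inv_mul_eq_iff_eq_mul, ← mul_assoc, ← e3, mul_inv_cancel_right]
  have := mul_mem hpm.1 hmem
  rwa [mul_inv_cancel_left] at this

/-- The centraliser of a half turn of each factor. -/
theorem centMixed {g : ↥(Iso (Qn F))} (hg : g ∈ K) {u v : Row F} (hu : Qt F u = 1) (hv : Qt F v = 1)
    (h0 : Commute g (zL u)) (h1 : Commute g (zR v)) : g ∈ wreath F := by
  obtain ⟨a, b, ha, hb, hab⟩ := exists_move hu hv
  obtain ⟨c, hc⟩ : ∃ c, c = pair (a⁻¹, b⁻¹) := ⟨_, rfl⟩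
  have hcm : c ∈ wreath F ⊓ omegaN F := hc ▸ ⟨pair_mem_wreath _ _, pair_mem_omega.mpr (by rw [map_inv, map_inv, hab])⟩
  refine conj_mem_wreath hcm.1 (S.centMixed₀ (S.conj_mem_K hcm hg) ?_ ?_)
  · have := commute_conj h0 c
    rwa [hc, conj_zL, show a⁻¹.1 u = e₀ from ha ▸ a.1.symm_apply_apply _, ← hc] at this
  · have := commute_conj h1 c
    rwa [hc, conj_zR, show b⁻¹.1 v = e₀ from hb ▸ b.1.symm_apply_apply _, ← hc] at this

end Setup

end Cfsg.Agent.Classical.TensorNine
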