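import Cfsg.Agent.Lib.Classical.TensorNine.Main
import Cfsg.Agent.Lib.Classical.TensorPower
import Cfsg.Agent.Lib.Classical.OrthMatrix

/-!
# The tensor square subgroup of `Ω₉` is maximal
-/

set_option autoImplicit false
set_option linter.unusedSectionVars false

namespace Cfsg.Agent.Classical.TensorNine

open Matrix Module QuadraticMap Cfsg.Geo
open Cfsg.Agent.Classical
open Cfsg.Agent.Classical.OCount (PND)
open Cfsg.Agent.Classical.ORefl (Iso refl refl_apply)
open Cfsg.Agent.Classical.OOmega (rf both negI classGroup)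
open Cfsg.Agent.Classical.ORefl (toMat)

variable {F : Type*} [Field F] [Fintype F] [h2 : Fact ((2 : F) ≠ 0)]

/-- Every non-degenerate form in three variables has a hyperbolic frame. -/
theorem exists_frame_form {Q : QuadraticForm F (Row F)} (hQ : PND Q) :
    ∃ (γ : F) (L : (Unit ⊕ (Fin 1 ⊕ Fin 1) → F) ≃ₗ[F] Row F), γ ≠ 0 ∧ ∀ x, Q (L x) = γ * SmallIso.Q3 F x := by
  obtain ⟨e, he0, he⟩ := OOmega.exists_singular h2.out hQ (by simp)
  obtain ⟨f, -, hf, hef⟩ := OOmega.exists_pair hQ he0 he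
  change Q f = 0 at hf
  change polar Q e f = 1 at hef
  let Φ : Row F →ₗ[F] F × F := (Q.polarBilin e).prod (Q.polarBilin f)
  obtain ⟨g, hgK, hg0⟩ : ∃ g ∈ LinearMap.ker Φ, g ≠ 0 := by
    refine Submodule.exists_mem_ne_zero_of_ne_bot fun h0 => ?_
    have h1 := LinearMap.finrank_range_add_finrank_ker Φ
    have h3 := Submodule.finrank_le (LinearMap.range Φ)
    rw [h0, finrank_bot] at h1
    simp at h1 h3
    omega
  rw [LinearMap.mem_ker] at hgK
  have hge : polar Q e g = 0 := congrArg Prod.fst hgK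
  have hgf : polar Q f g = 0 := congrArg Prod.snd hgK
  have hee : polar Q e e = 0 := by rw [ORefl.polar_self_two, he, mul_zero]
  have hff : polar Q f f = 0 := by rw [ORefl.polar_self_two, hf, mul_zero]
  have hind : ∀ a b c : F, a • g + b • e + c • f = 0 → a * Q g = 0 ∧ b = 0 ∧ c = 0 := by
    intro a b c h
    have h1 := congrArg (polar Q e) h
    have h3 := congrArg (polar Q f) h
    have h4 := congrArg (polar Q g) h
    simp only [polar_add_right, polar_smul_right, polar_zero_right, smul_eq_mul, hge, hgf, hee, hff, hef,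
      ORefl.polar_self_two, polar_comm (⇑Q) f e, polar_comm (⇑Q) g e, polar_comm (⇑Q) g f] at h1 h3 h4
    exact ⟨(mul_eq_zero.mp (show 2 * (a * Q g) = 0 by linear_combination h4)).resolve_left h2.out,
      by linear_combination h3, by linear_combination h1⟩
  obtain ⟨γ, hγ⟩ : ∃ γ, γ = Q g := ⟨_, rfl⟩
  have hγ0 : γ ≠ 0 := by
    intro h0
    refine hg0 (hQ g fun x => ?_)
    have hli : Function.Injective (fun c : Fin 3 → F => c 0 • g + c 1 • e + c 2 • f) := by
      intro c d h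
      have h' : (c 0 - d 0) • g + (c 1 - d 1) • e + (c 2 - d 2) • f = 0 := by
        rw [← sub_eq_zero] at h
        rw [← h]; module
      obtain ⟨-, hb, hc⟩ := hind _ _ _ h'
      funext i
      fin_cases i
      · have h3 : (c 0 - d 0) • g = 0 := by rw [hb, hc] at h'; simpa using h'
        exact sub_eq_zero.mp ((smul_eq_zero.mp h3).resolve_right hg0)
      · exact sub_eq_zero.mp hb
      · exact sub_eq_zero.mp hc
    obtain ⟨c, rfl⟩ := (Finite.surjective_of_injective hli : Function.Surjective _) x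
    simp only [polar_add_right, polar_smul_right, smul_eq_mul, polar_comm (⇑Q) g e, polar_comm (⇑Q) g f, hge, hgf,
      ORefl.polar_self_two, ← hγ, h0]
    ring
  let L : (Unit ⊕ (Fin 1 ⊕ Fin 1) → F) →ₗ[F] Row F :=
    { toFun := fun x => x (.inl ()) • g + x (.inr (.inl 0)) • (γ • e) + x (.inr (.inr 0)) • f
      map_add' := fun c d => by simp only [Pi.add_apply]; module
      map_smul' := fun t c => by simp only [Pi.smul_apply, RingHom.id_apply, smul_eq_mul]; module }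
  have hL : Function.Injective L := by
    refine (injective_iff_map_eq_zero L).mpr fun c hc => ?_
    change c (.inl ()) • g + c (.inr (.inl 0)) • (γ • e) + c (.inr (.inr 0)) • f = 0 at hc
    rw [smul_smul] at hc
    obtain ⟨h1, h3, h4⟩ := hind _ _ _ hc
    funext i
    rcases i with i | i | i
    · exact (mul_eq_zero.mp (hγ ▸ h1)).resolve_right hγ0
    · rw [Subsingleton.elim i 0]; exact (mul_eq_zero.mp h3).resolve_right hγ0
    · rw [Subsingleton.elim i 0]; exact h4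
  refine ⟨γ, LinearMap.linearEquivOfInjective L hL (by simp), hγ0, fun x => ?_⟩
  show Q (x (.inl ()) • g + x (.inr (.inl 0)) • (γ • e) + x (.inr (.inr 0)) • f) = _
  rw [congrFun (OOmega.coe_odd (F := F) 1) x]
  simp only [QuadraticMap.map_add Q, QuadraticMap.map_smul, polar_add_left, polar_smul_left, polar_smul_right,
    polar_comm (⇑Q) g e, polar_comm (⇑Q) g f, hge, hgf, he, hf, hef, ← hγ, smul_eq_mul]
  simp [Cfsg.quadFormOdd]
  ring

/-- A symmetric invertible ternary matrix is congruent to a scalar one. -/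
theorem exists_congr {G : Mat F} (hsym : Gᵀ = G) (hdet : G.det ≠ 0) :
    ∃ (k : F) (L : Mat F), k ≠ 0 ∧ L.det ≠ 0 ∧ Lᵀ * G * L = k • 1 := by
  obtain ⟨Qg, hQg⟩ : ∃ Qg : QuadraticForm F (Row F), Qg = (Matrix.toBilin' G).toQuadraticMap := ⟨_, rfl⟩
  have hval : ∀ x, Qg x = x ⬝ᵥ (G *ᵥ x) := fun x => by
    rw [hQg, LinearMap.BilinMap.toQuadraticMap_apply, Matrix.toBilin'_apply']
  have hs : ∀ x y : Row F, y ⬝ᵥ (G *ᵥ x) = x ⬝ᵥ (G *ᵥ y) := fun x y => by
    rw [Matrix.dotProduct_mulVec, ← Matrix.mulVec_transpose, hsym, dotProduct_comm]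
  have hpolar : ∀ x y, polar Qg x y = 2 * (x ⬝ᵥ (G *ᵥ y)) := fun x y => by
    simp only [polar, hval, Matrix.mulVec_add, dotProduct_add, add_dotProduct, hs x y]
    ring
  have hQ : PND Qg := fun v hv => by
    have h1 : G *ᵥ v = 0 := funext fun i => by
      have h := hv (Pi.single i 1)
      rw [QuadraticMap.polar_comm, hpolar, single_dotProduct, one_mul] at h
      exact (mul_eq_zero.mp h).resolve_left h2.out
    exact Matrix.eq_zero_of_mulVec_eq_zero hdet h1
  obtain ⟨γ, M, hγ, hM⟩ := exists_frame_form hQ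
  obtain ⟨γ', M', hγ', hM'⟩ := exists_frame_form (pnd_Qt (F := F) h2.out)
  obtain ⟨N, hN⟩ : ∃ N, N = M'.symm.trans M := ⟨_, rfl⟩
  obtain ⟨L, hL⟩ : ∃ L, L = LinearMap.toMatrix' N.toLinearMap := ⟨_, rfl⟩
  have hLx : ∀ x, L *ᵥ x = N x := fun x => by rw [hL, LinearMap.toMatrix'_mulVec]; rfl
  have hkey : ∀ x, Qg (L *ᵥ x) = γ / γ' * Qt F x := fun x => by
    have h3 : Qt F x = γ' * SmallIso.Q3 F (M'.symm x) := by rw [← hM', M'.apply_symm_apply]
    rw [hLx, hN, LinearEquiv.trans_apply, hM, h3]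
    field_simp
  refine ⟨γ / γ', L, div_ne_zero hγ hγ', fun h0 => ?_, ?_⟩
  · obtain ⟨v, hv, hv0⟩ := Matrix.exists_mulVec_eq_zero_iff.mpr h0
    rw [hLx] at hv0
    exact hv (N.injective (hv0.trans (map_zero N).symm))
  · ext i j
    have h1 : polar Qg (L *ᵥ Pi.single i 1) (L *ᵥ Pi.single j 1) =
        γ / γ' * polar (Qt F) (Pi.single i 1) (Pi.single j 1) := by
      simp only [polar, ← Matrix.mulVec_add, hkey]; ring
    rw [hpolar, polar_Qt, Matrix.mulVec_mulVec] at h1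
    refine mul_left_cancel₀ h2.out ?_
    have h3 : (L *ᵥ Pi.single i 1) ⬝ᵥ ((G * L) *ᵥ Pi.single j 1) = (Lᵀ * G * L) i j := by
      rw [Matrix.mul_assoc]
      simp [Matrix.mul_apply, dotProduct, Matrix.mulVec_single]
    rw [← h3, h1, Matrix.smul_apply, smul_eq_mul, single_dotProduct, one_mul, Pi.single_apply, Matrix.one_apply]
    ring

/-- A matrix as a vector indexed by pairs of indices. -/
def vec : Mat F ≃ₗ[F] ((Fin 2 → Fin 3) → F) where
  toFun Y a := Y (a 0) (a 1)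
  invFun v := Matrix.of fun i j => v ![i, j]
  map_add' _ _ := rfl
  map_smul' _ _ := rfl
  left_inv Y := by ext i j; simp
  right_inv v := by
    funext a
    show v ![a 0, a 1] = v a
    congr 1
    funext i; fin_cases i <;> rfl

theorem sum_pairs (f : (Fin 2 → Fin 3) → F) : ∑ a, f a = ∑ i, ∑ j, f ![i, j] := by
  rw [← (finTwoArrowEquiv (Fin 3)).symm.sum_comp, Fintype.sum_prod_type]
  rfl

theorem vec_apply (Y : Mat F) (i j : Fin 3) : vec Y ![i, j] = Y i j := rfl

theorem pure_mulVec (A : Fin 2 → Mat F) (Y : Mat F) :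
    Matrix.of (fun x y : Fin 2 → Fin 3 => ∏ i, A i (x i) (y i)) *ᵥ vec Y = vec (A 0 * Y * (A 1)ᵀ) := by
  funext a
  rw [Matrix.mulVec, dotProduct, sum_pairs]
  show _ = (A 0 * Y * (A 1)ᵀ) (a 0) (a 1)
  simp only [Matrix.of_apply, Fin.prod_univ_two, vec_apply, Matrix.mul_apply, Matrix.transpose_apply, Finset.sum_mul]
  rw [Finset.sum_comm]
  refine Finset.sum_congr rfl fun j _ => Finset.sum_congr rfl fun i _ => ?_
  simp
  ring

theorem vec_swap (Y : Mat F) (t : Fin 2 → Fin 3) : vec Y (t ∘ Equiv.swap (0 : Fin 2) 1) = vec Yᵀ t := by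
  show Y (t (Equiv.swap (0 : Fin 2) 1 0)) (t (Equiv.swap (0 : Fin 2) 1 1)) = Y (t 1) (t 0)
  simp

theorem swapGL_mulVec (Y : Mat F) :
    (factorPermGL 3 F (Equiv.swap (0 : Fin 2) 1)).1 *ᵥ vec Y = vec Yᵀ := by
  funext a
  show (factorPermM 3 F (Equiv.swap (0 : Fin 2) 1) *ᵥ vec Y) a = _
  rw [Matrix.mulVec, dotProduct, Finset.sum_eq_single (a ∘ Equiv.swap (0 : Fin 2) 1)]
  · rw [← vec_swap]; simp [factorPermM]
  · intro b _ hb; simp [factorPermM, hb]
  · simp

theorem inv_mul_assoc' (L : GL (Fin 3) F) (Z : Mat F) : (L⁻¹).1 * (L.1 * Z) = Z := by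
  rw [← Matrix.mul_assoc, ← Units.val_mul, inv_mul_cancel, Units.val_one, Matrix.one_mul]

theorem transpose_mul_assoc' (L : GL (Fin 3) F) (Z : Mat F) : L.1ᵀ * ((L⁻¹).1ᵀ * Z) = Z := by
  rw [← Matrix.mul_assoc, ← Matrix.transpose_mul, ← Units.val_mul, inv_mul_cancel, Units.val_one,
    Matrix.transpose_one, Matrix.one_mul]

theorem sandwich (L : GL (Fin 3) F) (Z : Mat F) : (L⁻¹).1 * (L.1 * Z * L.1ᵀ) * (L⁻¹).1ᵀ = Z := by
  simp only [Matrix.mul_assoc]
  rw [inv_mul_assoc', ← Matrix.transpose_mul, ← Units.val_mul, inv_mul_cancel, Units.val_one, Matrix.transpose_one,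
    Matrix.mul_one]

theorem sandwich_mul (L A B : GL (Fin 3) F) (Z : Mat F) :
    (L * A * L⁻¹).1 * (L.1 * Z * L.1ᵀ) * (L * B * L⁻¹).1ᵀ = L.1 * (A.1 * Z * B.1ᵀ) * L.1ᵀ := by
  simp only [Units.val_mul, Matrix.transpose_mul, Matrix.mul_assoc, inv_mul_assoc', transpose_mul_assoc']

/-- The two kinds of elements of the standard stabiliser. -/
def IsTensor (g : GL (Fin 2 → Fin 3) F) : Prop :=
  ∃ A B : GL (Fin 3) F, (∀ Y, g.1 *ᵥ vec Y = vec (A.1 * Y * B.1ᵀ)) ∨ ∀ Y, g.1 *ᵥ vec Y = vec (A.1 * Yᵀ * B.1ᵀ)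

theorem isTensor_of_mem {g : GL (Fin 2 → Fin 3) F} (hg : g ∈ tensorWreathStandard 3 2 F) : IsTensor g := by
  induction hg using Subgroup.closure_induction with
  | mem x hx =>
    rcases hx with ⟨gs, h⟩ | ⟨σ, h⟩
    · refine ⟨gs 0, gs 1, Or.inl fun Y => ?_⟩
      rw [← pure_mulVec (fun i => (gs i).1)]
      congr 1
      ext a b
      exact h a b
    · have hperm : ∀ Y, x.1 *ᵥ vec Y = fun a => vec Y (a ∘ σ) := fun Y => by
        funext a
        rw [Matrix.mulVec, dotProduct, Finset.sum_eq_single (a ∘ σ)]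
        · rw [h, if_pos rfl, one_mul]
        · intro b _ hb; rw [h, if_neg hb, zero_mul]
        · simp
      rcases (show ∀ σ : Equiv.Perm (Fin 2), σ = 1 ∨ σ = Equiv.swap 0 1 by decide) σ with rfl | rfl
      · exact ⟨1, 1, Or.inl fun Y => by rw [hperm]; simp⟩
      · refine ⟨1, 1, Or.inr fun Y => ?_⟩
        rw [hperm]
        funext a
        show Y (a (Equiv.swap 0 1 0)) (a (Equiv.swap 0 1 1)) = ((1 : GL (Fin 3) F).1 * Yᵀ * (1 : GL (Fin 3) F).1ᵀ) (a 0) (a 1)
        simp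
  | one => exact ⟨1, 1, Or.inl fun Y => by simp⟩
  | mul x y _ _ ihx ihy =>
    obtain ⟨A, B, hx⟩ := ihx
    obtain ⟨C, D, hy⟩ := ihy
    rcases hx with hx | hx <;> rcases hy with hy | hy
    · exact ⟨A * C, B * D, Or.inl fun Y => by
        rw [Units.val_mul, ← Matrix.mulVec_mulVec, hy, hx]
        simp [Matrix.mul_assoc, Matrix.transpose_mul]⟩
    · exact ⟨A * C, B * D, Or.inr fun Y => by
        rw [Units.val_mul, ← Matrix.mulVec_mulVec, hy, hx]
        simp [Matrix.mul_assoc, Matrix.transpose_mul]⟩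
    · exact ⟨A * D, B * C, Or.inr fun Y => by
        rw [Units.val_mul, ← Matrix.mulVec_mulVec, hy, hx]
        simp [Matrix.mul_assoc, Matrix.transpose_mul]⟩
    · exact ⟨A * D, B * C, Or.inl fun Y => by
        rw [Units.val_mul, ← Matrix.mulVec_mulVec, hy, hx]
        simp [Matrix.mul_assoc, Matrix.transpose_mul]⟩
  | inv x _ ih =>
    obtain ⟨A, B, hx⟩ := ih
    have hmove : ∀ Z Z', x.1 *ᵥ vec Z = vec Z' → (x⁻¹).1 *ᵥ vec Z' = vec Z := fun Z Z' h => by
      rw [← h, Matrix.mulVec_mulVec, ← Units.val_mul, inv_mul_cancel, Units.val_one, Matrix.one_mulVec]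
    rcases hx with hx | hx
    · refine ⟨A⁻¹, B⁻¹, Or.inl fun Y => hmove _ _ ?_⟩
      rw [hx, ← Matrix.mul_assoc, ← Matrix.mul_assoc, ← Units.val_mul, mul_inv_cancel, Units.val_one, Matrix.one_mul,
        Matrix.mul_assoc, ← Matrix.transpose_mul, ← Units.val_mul, mul_inv_cancel, Units.val_one,
        Matrix.transpose_one, Matrix.mul_one]
    · refine ⟨B⁻¹, A⁻¹, Or.inr fun Y => hmove _ _ ?_⟩
      rw [hx, Matrix.transpose_mul, Matrix.transpose_mul, Matrix.transpose_transpose, Matrix.transpose_transpose,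
        ← Matrix.mul_assoc, ← Matrix.mul_assoc, ← Units.val_mul, mul_inv_cancel, Units.val_one, Matrix.one_mul,
        Matrix.mul_assoc, ← Matrix.transpose_mul, ← Units.val_mul, mul_inv_cancel, Units.val_one,
        Matrix.transpose_one, Matrix.mul_one]

theorem pure_mem {g : GL (Fin 2 → Fin 3) F} (A B : GL (Fin 3) F) (h : ∀ Y, g.1 *ᵥ vec Y = vec (A.1 * Y * B.1ᵀ)) :
    g ∈ tensorWreathStandard 3 2 F := by
  refine Subgroup.subset_closure (Or.inl ⟨![A, B], fun x y => ?_⟩)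
  have e : g.1 = Matrix.of fun x y => ∏ i, (![A, B] i).1 (x i) (y i) := by
    refine Matrix.ext_of_mulVec_single fun a => ?_
    obtain ⟨Y, hY⟩ := vec.surjective (Pi.single a (1 : F))
    rw [← hY, h, pure_mulVec (fun i => (![A, B] i).1)]
    rfl
  rw [e]
  rfl

theorem swapped_mem {g : GL (Fin 2 → Fin 3) F} (A B : GL (Fin 3) F) (h : ∀ Y, g.1 *ᵥ vec Y = vec (A.1 * Yᵀ * B.1ᵀ)) :
    g ∈ tensorWreathStandard 3 2 F := by
  have hσ := swapGL_mulVec (F := F)
  have h1 : g * factorPermGL 3 F (Equiv.swap (0 : Fin 2) 1) ∈ tensorWreathStandard 3 2 F :=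
    pure_mem A B fun Y => by rw [Units.val_mul, ← Matrix.mulVec_mulVec, hσ, h, Matrix.transpose_transpose]
  have := mul_mem h1 (inv_mem (factorPermGL_mem (F := F) (m := 3) (Equiv.swap (0 : Fin 2) 1)))
  rwa [mul_inv_cancel_right] at this

/-- A tensor product preserving the sum of nine squares comes from two isometries. -/
theorem exists_pair_eq {g : ↥(Iso (Qn F))} {A B : Mat F} (h : ∀ X, g.1 X = A * X * Bᵀ) :
    ∃ a b, g = pair (a, b) := by
  have hiso : ∀ i k j l, (Aᵀ * A) i k * (Bᵀ * B) j l = (1 : Mat F) i k * (1 : Mat F) j l := by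
    intro i k j l
    have h1 := ORefl.polar_iso g.2 (vecMulVec (Pi.single i 1) (Pi.single j 1))
      (vecMulVec (Pi.single k 1) (Pi.single l (1 : F)))
    rw [h, h, Matrix.mul_vecMulVec, Matrix.mul_vecMulVec, Matrix.vecMulVec_mul, Matrix.vecMulVec_mul,
      Matrix.vecMul_transpose, Matrix.vecMul_transpose, polar_ot, polar_ot, Matrix.vecMulVec_mulVec,
      Matrix.vecMulVec_mulVec] at h1
    have h3 := mul_left_cancel₀ h2.out h1
    simp [dotProduct_smul, Matrix.mulVec_single] at h3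
    simp only [Matrix.mul_apply, Matrix.transpose_apply, dotProduct, Matrix.one_apply, Pi.single_apply] at h3 ⊢
    simp [mul_comm, eq_comm] at h3 ⊢
    linear_combination h3
  obtain ⟨c, hc⟩ : ∃ c, c = (Aᵀ * A) 0 0 := ⟨_, rfl⟩
  have hc1 : c * (Bᵀ * B) 0 0 = 1 := by rw [hc, hiso]; simp
  have hc0 : c ≠ 0 := fun e => by rw [e, zero_mul] at hc1; exact zero_ne_one hc1
  have hB : Bᵀ * B = c⁻¹ • (1 : Mat F) := by
    ext j l
    have := hiso 0 0 j l
    rw [← hc, Matrix.one_apply_eq, one_mul] at this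
    rw [Matrix.smul_apply, smul_eq_mul, eq_inv_mul_iff_mul_eq₀ hc0, this]
  have hA : Aᵀ * A = c • (1 : Mat F) := by
    ext i k
    have := hiso i k 0 0
    rw [hB, Matrix.smul_apply, Matrix.one_apply_eq, smul_eq_mul, mul_one, mul_one] at this
    rw [Matrix.smul_apply, smul_eq_mul, ← this]
    field_simp
  obtain ⟨s, hs⟩ : ∃ s : F, s = A.det / c := ⟨_, rfl⟩
  have hss : s * s = c := by
    have := congrArg Matrix.det hA
    rw [Matrix.det_mul, Matrix.det_transpose, Matrix.det_smul, Matrix.det_one, mul_one, Fintype.card_fin] at this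
    rw [hs]
    field_simp
    linear_combination this
  have hs0 : s ≠ 0 := fun e => hc0 (by rw [← hss, e, mul_zero])
  have hAs : (s⁻¹ • A)ᵀ * (s⁻¹ • A) = 1 := by
    rw [Matrix.transpose_smul, Matrix.smul_mul, Matrix.mul_smul, hA, smul_smul, smul_smul, ← hss,
      show s⁻¹ * s⁻¹ * (s * s) = 1 by field_simp, one_smul]
  have hBs : (s • B)ᵀ * (s • B) = 1 := by
    rw [Matrix.transpose_smul, Matrix.smul_mul, Matrix.mul_smul, hB, smul_smul, smul_smul, ← hss,
      show s * s * (s * s)⁻¹ = 1 by field_simp, one_smul]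
  refine ⟨ofMat _ hAs, ofMat _ hBs, Subtype.ext (LinearEquiv.ext fun X => ?_)⟩
  rw [pair_apply, mat_ofMat, mat_ofMat, h, Matrix.transpose_smul, Matrix.smul_mul, Matrix.smul_mul, Matrix.mul_smul,
    smul_smul, inv_mul_cancel₀ hs0, one_smul]

/-- A row block is not in the stabiliser. -/
theorem rows_not_mem : rows (Pi.mulSingle (0 : Fin 3) (cyc (F := F))) ∉ wreath F := by
  intro h
  have h0 : (rows (Pi.mulSingle (0 : Fin 3) (cyc (F := F)))).1 (vecMulVec (Pi.single 0 1) (Pi.single 0 1)) =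
      vecMulVec (Pi.single 0 1) (Pi.single 1 1) := by
    ext i j
    rw [rows_apply]
    fin_cases i
    · simp [cyc_apply, vecMulVec_apply]
      fin_cases j <;> simp
    · simp [vecMulVec_apply]
    · simp [vecMulVec_apply]
  have h1 : (rows (Pi.mulSingle (0 : Fin 3) (cyc (F := F)))).1 (vecMulVec (Pi.single 1 1) (Pi.single 0 1)) =
      vecMulVec (Pi.single 1 1) (Pi.single 0 1) := by
    ext i j
    rw [rows_apply]
    fin_cases i
    · simp [cyc_apply, vecMulVec_apply]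
      fin_cases j <;> simp
    · simp [vecMulVec_apply]
    · simp [vecMulVec_apply]
  obtain ⟨a, b, e | e⟩ := h
  · rw [e, pair_ot] at h0 h1
    have e0 := congrFun (congrFun h0 0) 1
    have e1 := congrFun (congrFun h1 1) 0
    have e3 := congrFun (congrFun h1 1) 1
    simp only [vecMulVec_apply, Pi.single_eq_same, Pi.single_eq_of_ne (show (1 : Fin 3) ≠ 0 by decide), mul_one,
      mul_zero] at e0 e1 e3
    rcases mul_eq_zero.mp e3 with z | z
    · rw [z, zero_mul] at e1; exact zero_ne_one e1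
    · rw [z, mul_zero] at e0; exact zero_ne_one e0
  · have hsw : ∀ u w : Row F, (swap F * pair (a, b)).1 (vecMulVec u w) = vecMulVec (b.1 w) (a.1 u) := fun u w => by
      show (swap F).1 ((pair (a, b)).1 _) = _
      rw [pair_ot, swap_apply, Matrix.transpose_vecMulVec]
    rw [e, hsw] at h0 h1
    have e0 := congrFun (congrFun h0 0) 1
    have e1 := congrFun (congrFun h1 1) 0
    have e3 := congrFun (congrFun h1 0) 0
    simp only [vecMulVec_apply, Pi.single_eq_same, Pi.single_eq_of_ne (show (0 : Fin 3) ≠ 1 by decide), mul_one,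
      zero_mul] at e0 e1 e3
    rcases mul_eq_zero.mp e3 with z | z
    · rw [z, zero_mul] at e0; exact zero_ne_one e0
    · rw [z, mul_zero] at e1; exact zero_ne_one e1

/-- The stabiliser of a tensor square decomposition is maximal in `Ω₉`. -/
theorem isMaximal (hcard : 5 ≤ Nat.card F) {ι : Type} [Fintype ι] [DecidableEq ι] (Q : QuadraticForm F (ι → F))
    (e : ι ≃ (Fin 2 → Fin 3)) (P : GL ι F) (f₁ : Row F → Row F → F) (hf : IsSymmetricForm f₁)
    (hP : IsTensorPowerFormStructure id (polar Q) f₁ e P) :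
    IsMaximalIn (omegaGL ⇑Q) (tensorWreathSubgroup 3 2 e P ⊓ omegaGL ⇑Q) := by
  classical
  obtain ⟨c, hc, hform⟩ := hP
  obtain ⟨G, hG⟩ : ∃ G : Mat F, G = gramMatrix f₁ := ⟨_, rfl⟩
  have hsym : Gᵀ = G := by rw [hG]; ext i j; exact hf.symm _ _
  have hzl : ∀ v, f₁ 0 v = 0 := fun v => by simpa using hf.bilinear.smul_left 0 0 v
  have hzr : ∀ v, f₁ v 0 = 0 := fun v => by simpa using hf.bilinear.smul_right 0 v 0
  have hdet : G.det ≠ 0 := by
    intro h0
    obtain ⟨v, hv, hv0⟩ := Matrix.exists_mulVec_eq_zero_iff.mpr h0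
    obtain ⟨x, hx⟩ := (hf.nondegenerate v hv).1
    refine hx ?_
    have hr : ∀ i, f₁ (Pi.single i 1) v = (G *ᵥ v) i := fun i => by
      have hv' : v = v 0 • Pi.single (0 : Fin 3) (1 : F) + v 1 • Pi.single 1 1 + v 2 • Pi.single 2 1 := by
        funext j; fin_cases j <;> simp
      conv_lhs => rw [hv', hf.bilinear.add_right, hf.bilinear.add_right, hf.bilinear.smul_right,
        hf.bilinear.smul_right, hf.bilinear.smul_right]
      rw [hG]
      simp [Matrix.mulVec, dotProduct, Fin.sum_univ_three, gramMatrix]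
      ring
    have hx' : x = x 0 • Pi.single (0 : Fin 3) (1 : F) + x 1 • Pi.single 1 1 + x 2 • Pi.single 2 1 := by
      funext j; fin_cases j <;> simp
    rw [hx', hf.bilinear.add_left, hf.bilinear.add_left, hf.bilinear.smul_left, hf.bilinear.smul_left,
      hf.bilinear.smul_left, hr, hr, hr, hv0]
    simp
  obtain ⟨k, L, hk, hLd, hLG⟩ := exists_congr hsym hdet
  obtain ⟨Lu, rfl⟩ : ∃ Lu : GL (Fin 3) F, Lu.1 = L :=
    ⟨Matrix.GeneralLinearGroup.mkOfDetNeZero L hLd, rfl⟩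
  -- coordinates
  let Φ₀ : Mat F →ₗ[F] (ι → F) :=
    { toFun := fun X => (P : Matrix ι ι F) *ᵥ (vec (Lu.1 * X * Lu.1ᵀ) ∘ e)
      map_add' := fun X Y => by
        rw [Matrix.mul_add, Matrix.add_mul, map_add, ← Matrix.mulVec_add]; rfl
      map_smul' := fun t X => by
        rw [Matrix.mul_smul, Matrix.smul_mul, map_smul, RingHom.id_apply, ← Matrix.mulVec_smul]; rfl }
  have hΦbij : Function.Bijective Φ₀ := by
    refine ⟨fun X Y h => ?_, fun v => ?_⟩
    · have h1 := congrArg ((↑P⁻¹ : Matrix ι ι F) *ᵥ ·) h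
      change (↑P⁻¹ : Matrix ι ι F) *ᵥ ((P : Matrix ι ι F) *ᵥ _) = (↑P⁻¹ : Matrix ι ι F) *ᵥ ((P : Matrix ι ι F) *ᵥ _) at h1
      rw [Matrix.mulVec_mulVec, Matrix.mulVec_mulVec, ← Units.val_mul, inv_mul_cancel, Units.val_one,
        Matrix.one_mulVec, Matrix.one_mulVec] at h1
      have h3 := vec.injective (e.surjective.injective_comp_right h1)
      have h4 := congrArg (fun Z => (Lu⁻¹).1 * Z * (Lu⁻¹).1ᵀ) h3
      simpa only [sandwich] using h4
    · refine ⟨(Lu⁻¹).1 * vec.symm (((↑P⁻¹ : Matrix ι ι F) *ᵥ v) ∘ e.symm) * (Lu⁻¹).1ᵀ, ?_⟩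
      show (P : Matrix ι ι F) *ᵥ _ = v
      rw [← Matrix.mul_assoc, ← Matrix.mul_assoc, ← Units.val_mul, mul_inv_cancel, Units.val_one, Matrix.one_mul,
        Matrix.mul_assoc, ← Matrix.transpose_mul, ← Units.val_mul, mul_inv_cancel, Units.val_one, Matrix.transpose_one,
        Matrix.mul_one, LinearEquiv.apply_symm_apply, Function.comp_assoc, Equiv.symm_comp_self, Function.comp_id,
        Matrix.mulVec_mulVec, ← Units.val_mul, mul_inv_cancel, Units.val_one, Matrix.one_mulVec]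
  let Φ : Mat F ≃ₗ[F] (ι → F) := LinearEquiv.ofBijective Φ₀ hΦbij
  have hΦ : ∀ X, Φ X = (P : Matrix ι ι F) *ᵥ (vec (Lu.1 * X * Lu.1ᵀ) ∘ e) := fun _ => rfl
  have hpol : ∀ X, polar Q (Φ X) (Φ X) = c * k * k * trace (X * Xᵀ) := by
    intro X
    rw [hΦ, hform]
    obtain ⟨Y, hY⟩ : ∃ Y, Y = Lu.1 * X * Lu.1ᵀ := ⟨_, rfl⟩
    have h1 : ∑ a : Fin 2 → Fin 3, ∑ b : Fin 2 → Fin 3,
        vec Y a * (∏ i, gramMatrix f₁ (a i) (b i)) * id (vec Y b) = trace (G * Y * Gᵀ * Yᵀ) := by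
      rw [sum_pairs]
      simp only [sum_pairs (fun b => vec Y ![_, _] * _ * _)]
      simp [← hG, vec_apply, Matrix.trace, Matrix.mul_apply, Fin.sum_univ_three]
      ring
    rw [← hY, h1, hY]
    have h3 : trace (G * (Lu.1 * X * Lu.1ᵀ) * Gᵀ * (Lu.1 * X * Lu.1ᵀ)ᵀ) =
        trace ((Lu.1ᵀ * G * Lu.1) * X * (Lu.1ᵀ * G * Lu.1) * Xᵀ) := by
      rw [hsym, Matrix.transpose_mul, Matrix.transpose_mul, Matrix.transpose_transpose]
      calc trace (G * (Lu.1 * X * Lu.1ᵀ) * G * (Lu.1 * (Xᵀ * Lu.1ᵀ)))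
          = trace ((G * Lu.1 * X * Lu.1ᵀ * G * Lu.1 * Xᵀ) * Lu.1ᵀ) := by simp only [Matrix.mul_assoc]
        _ = trace (Lu.1ᵀ * (G * Lu.1 * X * Lu.1ᵀ * G * Lu.1 * Xᵀ)) := Matrix.trace_mul_comm _ _
        _ = _ := by simp only [Matrix.mul_assoc]
    rw [h3, hLG, Matrix.smul_mul, Matrix.smul_mul, Matrix.one_mul, Matrix.mul_smul, Matrix.smul_mul, Matrix.mul_one,
      Matrix.trace_smul, Matrix.smul_mul, Matrix.trace_smul, smul_eq_mul, smul_eq_mul]
    ring
  obtain ⟨κ, hκ⟩ : ∃ κ : F, κ = 2⁻¹ * (c * k * k) := ⟨_, rfl⟩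
  have hκ0 : κ ≠ 0 := hκ ▸ mul_ne_zero (inv_ne_zero h2.out) (mul_ne_zero (mul_ne_zero hc hk) hk)
  have hQ : ∀ X, Q (Φ X) = κ * Qn F X := fun X => by
    have h1 := hpol X
    rw [ORefl.polar_self_two, ← Qn_apply] at h1
    rw [hκ, mul_assoc, ← h1, ← mul_assoc, inv_mul_cancel₀ h2.out, one_mul]
  have hQ' : ∀ y, κ * Qn F (Φ.symm y) = Q y := fun y => by rw [← hQ, Φ.apply_symm_apply]
  let Ψ : ↥(Iso (Qn F)) ≃* ↥(Iso Q) :=
    { toFun := fun g => ⟨Φ.symm.trans (g.1.trans Φ), fun x => by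
        show Q (Φ (g.1 (Φ.symm x))) = _
        rw [hQ, g.2, hQ']⟩
      invFun := fun g => ⟨Φ.trans (g.1.trans Φ.symm), fun x => by
        show Qn F (Φ.symm (g.1 (Φ x))) = _
        refine mul_left_cancel₀ hκ0 ?_
        rw [hQ', g.2, hQ]⟩
      left_inv := fun g => Subtype.ext (LinearEquiv.ext fun x => by
        show Φ.symm (Φ (g.1 (Φ.symm (Φ x)))) = _
        rw [Φ.symm_apply_apply, Φ.symm_apply_apply])
      right_inv := fun g => Subtype.ext (LinearEquiv.ext fun x => by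
        show Φ (Φ.symm (g.1 (Φ (Φ.symm x)))) = _
        rw [Φ.apply_symm_apply, Φ.apply_symm_apply])
      map_mul' := fun g g' => Subtype.ext (LinearEquiv.ext fun x => by
        show Φ (g.1 (g'.1 (Φ.symm x))) = Φ (g.1 (Φ.symm (Φ (g'.1 (Φ.symm x)))))
        rw [Φ.symm_apply_apply]) }
  let θ : ↥(Iso (Qn F)) →* GL ι F :=
    (Cfsg.isometryGroup F ⇑Q).subtype.comp ((toMat Q).toMonoidHom.comp Ψ.toMonoidHom)
  have hθinj : Function.Injective θ := fun a b h => Ψ.injective ((toMat Q).injective (Subtype.ext h))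
  have hθΦ : ∀ a X, (θ a : Matrix ι ι F) *ᵥ Φ X = Φ (a.1 X) := fun a X => by
    show ((toMat Q (Ψ a)).1 : Matrix ι ι F) *ᵥ Φ X = _
    rw [ORefl.toMat_apply]
    show Φ (a.1 (Φ.symm (Φ X))) = _
    rw [Φ.symm_apply_apply]
  have homega : omegaGL ⇑Q = (omegaN F).map θ := by
    rw [omegaGL, OOmega.omega_eq_map, Subgroup.map_map]
    have : commutator ↥(Iso Q) = (omegaN F).map Ψ.toMonoidHom := by
      rw [omegaN, commutator_def, commutator_def, Subgroup.map_commutator,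
        Subgroup.map_top_of_surjective _ Ψ.surjective]
    rw [this, Subgroup.map_map, MonoidHom.comp_assoc]
  -- the pulled back stabiliser
  let φ : GL (Fin 2 → Fin 3) F ≃* GL ι F := (glReindex (F := F) e.symm).trans (MulAut.conj P)
  have hφ : ∀ (g : GL (Fin 2 → Fin 3) F) (Y : Mat F),
      (φ g : Matrix ι ι F) *ᵥ ((P : Matrix ι ι F) *ᵥ (vec Y ∘ e)) = (P : Matrix ι ι F) *ᵥ ((g.1 *ᵥ vec Y) ∘ e) := by
    intro g Y
    show ((P * glReindex (F := F) e.symm g * P⁻¹ : GL ι F) : Matrix ι ι F) *ᵥ _ = _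
    have hcancel : ∀ v : ι → F, (↑P⁻¹ : Matrix ι ι F) *ᵥ ((P : Matrix ι ι F) *ᵥ v) = v := fun v => by
      rw [Matrix.mulVec_mulVec, ← Units.val_mul, inv_mul_cancel, Units.val_one, Matrix.one_mulVec]
    rw [Units.val_mul, Units.val_mul, ← Matrix.mulVec_mulVec, hcancel, ← Matrix.mulVec_mulVec]
    congr 1
    show Matrix.reindexAlgEquiv F F e.symm g.1 *ᵥ _ = _
    rw [Matrix.reindexAlgEquiv_apply, Matrix.reindex_apply, Equiv.symm_symm, Matrix.submatrix_mulVec_equiv,
      Function.comp_assoc, Equiv.self_comp_symm, Function.comp_id]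
  have hW : ∀ a, θ a ∈ tensorWreathSubgroup 3 2 e P ↔ a ∈ wreath F := by
    intro a
    constructor
    · rintro ⟨y, ⟨g, hg, rfl⟩, hy⟩
      have hy' : φ g = θ a := hy
      have hg' : ∀ X, g.1 *ᵥ vec (Lu.1 * X * Lu.1ᵀ) = vec (Lu.1 * a.1 X * Lu.1ᵀ) := by
        intro X
        have h1 := hθΦ a X
        rw [← hy', hΦ, hΦ, hφ] at h1
        have h3 := congrArg ((↑P⁻¹ : Matrix ι ι F) *ᵥ ·) h1
        simp only [Matrix.mulVec_mulVec, ← Units.val_mul, inv_mul_cancel, Units.val_one, Matrix.one_mulVec] at h3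
        exact e.surjective.injective_comp_right h3
      obtain ⟨A, B, hAB⟩ := isTensor_of_mem hg
      have hstrip : ∀ Z Z' : Mat F, Lu.1 * Z * Lu.1ᵀ = Z' → Z = (Lu⁻¹).1 * Z' * (Lu⁻¹).1ᵀ := by
        intro Z Z' h
        rw [← h, ← Matrix.mul_assoc, ← Matrix.mul_assoc, ← Units.val_mul, inv_mul_cancel, Units.val_one,
          Matrix.one_mul, Matrix.mul_assoc, ← Matrix.transpose_mul, ← Units.val_mul, inv_mul_cancel, Units.val_one,
          Matrix.transpose_one, Matrix.mul_one]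
      rcases hAB with hAB | hAB
      · obtain ⟨p, q, rfl⟩ := exists_pair_eq (g := a) (A := (Lu⁻¹).1 * A.1 * Lu.1) (B := (Lu⁻¹).1 * B.1 * Lu.1)
          fun X => by
            rw [hstrip _ _ (vec.injective ((hg' X).symm.trans (hAB _)))]
            simp [Matrix.mul_assoc, Matrix.transpose_mul]
        exact pair_mem_wreath _ _
      · obtain ⟨p, q, hpq⟩ := exists_pair_eq (g := a * swap F) (A := (Lu⁻¹).1 * A.1 * Lu.1)
          (B := (Lu⁻¹).1 * B.1 * Lu.1) fun X => by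
            show a.1 Xᵀ = _
            rw [hstrip _ _ (vec.injective ((hg' Xᵀ).symm.trans (hAB _)))]
            simp [Matrix.mul_assoc, Matrix.transpose_mul]
        have := mul_mem (hpq ▸ pair_mem_wreath p q : a * swap F ∈ wreath F) (inv_mem (swap_mem_wreath (F := F)))
        rwa [mul_inv_cancel_right] at this
    · intro ha
      have hg : ∀ g : GL (Fin 2 → Fin 3) F, g ∈ tensorWreathStandard 3 2 F →
          (∀ X, g.1 *ᵥ vec (Lu.1 * X * Lu.1ᵀ) = vec (Lu.1 * a.1 X * Lu.1ᵀ)) →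
            θ a ∈ tensorWreathSubgroup 3 2 e P := by
        intro g hgs hgX
        refine ⟨_, ⟨g, hgs, rfl⟩, ?_⟩
        show φ g = θ a
        refine Units.ext (Matrix.ext_of_mulVec_single fun i => ?_)
        obtain ⟨X, hX⟩ := Φ.surjective (Pi.single i (1 : F))
        rw [← hX, hθΦ, hΦ, hφ, hgX, hΦ]
      obtain ⟨p, q, hpq⟩ := ha
      obtain ⟨Ap, hAp⟩ : ∃ A : GL (Fin 3) F, A.1 = mat p :=
        ⟨⟨mat p, (mat p)ᵀ, mat_orth' h2.out p, mat_orth h2.out p⟩, rfl⟩
      obtain ⟨Aq, hAq⟩ : ∃ A : GL (Fin 3) F, A.1 = mat q :=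
        ⟨⟨mat q, (mat q)ᵀ, mat_orth' h2.out q, mat_orth h2.out q⟩, rfl⟩
      let G₀ : GL (Fin 3) F → GL (Fin 3) F → GL (Fin 2 → Fin 3) F := fun A B =>
        ⟨Matrix.of fun x y => ∏ i, (![A, B] i).1 (x i) (y i), Matrix.of fun x y => ∏ i, (![A⁻¹, B⁻¹] i).1 (x i) (y i),
          by rw [← pureM_one]
             show pureM _ * pureM _ = _
             rw [pureM_mul]; congr 1; funext i
             fin_cases i <;> simp,
          by rw [← pureM_one]
             show pureM _ * pureM _ = _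
             rw [pureM_mul]; congr 1; funext i
             fin_cases i <;> simp⟩
      have hG₀ : ∀ A B Y, (G₀ A B).1 *ᵥ vec Y = vec (A.1 * Y * B.1ᵀ) := fun A B Y =>
        pure_mulVec (fun i => (![A, B] i).1) Y
      rcases hpq with rfl | rfl
      · refine hg (G₀ (Lu * Ap * Lu⁻¹) (Lu * Aq * Lu⁻¹)) (pure_mem _ _ (hG₀ _ _)) fun X => ?_
        rw [hG₀, pair_apply, ← hAp, ← hAq, sandwich_mul]
      · refine hg (G₀ (Lu * Aq * Lu⁻¹) (Lu * Ap * Lu⁻¹) * factorPermGL 3 F (Equiv.swap (0 : Fin 2) 1))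
          (mul_mem (pure_mem _ _ (hG₀ _ _)) (factorPermGL_mem _)) fun X => ?_
        have hσ := swapGL_mulVec (F := F)
        rw [Units.val_mul, ← Matrix.mulVec_mulVec, hσ, hG₀]
        show _ = vec (Lu.1 * ((swap F).1 ((pair (p, q)).1 X)) * Lu.1ᵀ)
        rw [pair_apply, swap_apply, ← hAp, ← hAq,
          show (Lu.1 * X * Lu.1ᵀ)ᵀ = Lu.1 * Xᵀ * Lu.1ᵀ by
            rw [Matrix.transpose_mul, Matrix.transpose_mul, Matrix.transpose_transpose, Matrix.mul_assoc],
          sandwich_mul]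
        rw [Matrix.transpose_mul, Matrix.transpose_mul, Matrix.transpose_transpose, Matrix.mul_assoc Aq.1]
  refine ⟨lt_of_le_of_ne inf_le_right fun h => ?_, fun M hM hMΩ => ?_⟩
  · have hcyc := rows_single_mem_omega hcard 0 (cyc_mem (F := F))
    have h1 : θ (rows (Pi.mulSingle 0 cyc)) ∈ tensorWreathSubgroup 3 2 e P ⊓ omegaGL ⇑Q :=
      h.symm ▸ (homega ▸ Subgroup.mem_map_of_mem θ hcyc)
    exact rows_not_mem ((hW _).mp h1.1)
  by_cases hall : omegaGL ⇑Q ≤ M
  · exact Or.inr (le_antisymm hMΩ hall)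
  left
  have S : Setup (M.comap θ) := by
    refine ⟨hcard, fun a ha => ?_, fun a ha => hM ⟨(hW a).mpr ha.1, homega ▸ Subgroup.mem_map_of_mem θ ha.2⟩,
      fun h => hall (homega ▸ Subgroup.map_le_iff_le_comap.mpr h)⟩
    obtain ⟨b, hb, hab⟩ := (homega ▸ hMΩ ha : θ a ∈ (omegaN F).map θ)
    exact hθinj hab ▸ hb
  refine le_antisymm (fun g hg => ⟨?_, hMΩ hg⟩) hM
  obtain ⟨a, -, rfl⟩ := (homega ▸ hMΩ hg : g ∈ (omegaN F).map θ)
  exact (hW a).mpr (S.le_wreath hg)

end Cfsg.Agent.Classical.TensorNine
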