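import Cfsg.Agent.Lib.Classical.TensorNine.Moves

/-!
# An overgroup of `Ω₃ ≀ 2` in `Ω₉` stabilises the tensor decomposition
-/

set_option autoImplicit false
set_option linter.unusedSectionVars false

namespace Cfsg.Agent.Classical.TensorNine

open Matrix Module QuadraticMap
open Cfsg.Agent.Classical
open Cfsg.Agent.Classical.OCount (PND)
open Cfsg.Agent.Classical.ORefl (Iso refl refl_apply)
open Cfsg.Agent.Classical.OOmega (rf both negI classGroup)

variable {F : Type*} [Field F] [Fintype F] [h2 : Fact ((2 : F) ≠ 0)]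

namespace Setup

variable {K : Subgroup ↥(Iso (Qn F))} (S : Setup K)

include S

/-- The centraliser of the mixed half turn about the first axes. -/
theorem centGood₀ {x : ↥(Iso (Qn F))} (hx : x ∈ K) (hxc : Commute x (zL e₀ * zR e₀)) : x ∈ wreath F := by
  obtain ⟨c, hc⟩ : ∃ c, c = zL (e₀ : Row F) * zR e₀ := ⟨_, rfl⟩
  rw [← hc] at hxc
  obtain ⟨s, hs⟩ : ∃ s, s = zL (e₀ : Row F) := ⟨_, rfl⟩
  obtain ⟨t, ht⟩ : ∃ t, t = x * zL (Pi.single 1 (1 : F)) * x⁻¹ := ⟨_, rfl⟩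
  suffices h : t ∈ wreath F from S.moves hx (Qt_single 1) (ht ▸ h)
  have hsc : Commute s c := hs ▸ hc ▸ (Commute.refl _).mul_right (zL_zR_commute _ _)
  have h1c : Commute (zL (Pi.single 1 (1 : F))) c := by
    rw [hc]
    refine Commute.mul_right ?_ (zL_zR_commute _ _)
    show pair (_, _) * pair (_, _) = pair (_, _) * pair (_, _)
    rw [← map_mul, ← map_mul, Prod.mk_mul_mk, Prod.mk_mul_mk, (ax_commute (by simp [e₀])).eq]
  have htc : Commute t c := ht ▸ (hxc.mul_left h1c).mul_left hxc.inv_left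
  have hsK : s ∈ K := hs ▸ S.zL_mem_K Qt_e₀
  have htK : t ∈ K := ht ▸ mul_mem (mul_mem hx (S.zL_mem_K (Qt_single 1))) (inv_mem hx)
  have htt' : trN t = -3 := by rw [ht, trN_conj, trN_zL (unit_ne (Qt_single 1))]
  have hst : trN s = -3 := by rw [hs, trN_zL (unit_ne Qt_e₀)]
  have hcs : c * s = zR (e₀ : Row F) := by
    rw [hc, hs, mul_assoc, ← (zL_zR_commute _ _).eq, ← mul_assoc, zL_mul_self, one_mul]
  have hc1 : trN (c * zL (Pi.single 1 (1 : F))) = 1 := by
    rw [hc, mul_assoc, ← (zL_zR_commute _ _).eq, ← mul_assoc, zL_e₀_e₁, ← pair_eq_mul,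
      trN_ax_ax (unit_ne (Qt_single 2)) (unit_ne Qt_e₀)]
  have key : ∀ (h p q : ↥(Iso (Qn F))), Commute h c → h * p * h⁻¹ = q → trN (c * p) = trN (c * q) := by
    intro h p q hh e
    rw [← trN_conj h (c * p), show h * (c * p) * h⁻¹ = (h * c * h⁻¹) * (h * p * h⁻¹) by group, conj_eq_self hh, e]
  have hnc : ∀ d ∈ Subgroup.closure ({s, t} : Set _), d * s * d⁻¹ ≠ t := by
    intro d hd e
    obtain ⟨-, hdc⟩ := S.closure_le_cent hsK htK hsc htc hd
    have h1 := key (x⁻¹ * d) s (zL (Pi.single 1 1)) (hxc.inv_left.mul_left hdc) (by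
      rw [_root_.mul_inv_rev, inv_inv, show x⁻¹ * d * s * (d⁻¹ * x) = x⁻¹ * (d * s * d⁻¹) * x by group, e, ht]
      group)
    rw [hcs, trN_zR (unit_ne Qt_e₀), hc1] at h1
    exact neg_three_ne_one h1
  obtain ⟨j, hjcl, hjj, hjne, hjs, hjt, hd⟩ := dihedral_pair (s := s) (t := t) (by rw [hs]; exact zL_mul_self _)
    (ht ▸ conj_sq_one (zL_mul_self _) x) hnc
  obtain ⟨hjK, hjc⟩ := S.closure_le_cent hsK htK hsc htc hjcl
  have hsjtr : trN (s * j) = -3 := by
    rcases hd with ⟨⟨d, -, hd⟩, -⟩ | ⟨d, -, hd⟩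
    · rw [← hd, trN_conj, hst]
    · rwa [← hd, trN_conj] at htt'
  have hsj1 : s * j ≠ 1 := by
    rcases hd with ⟨⟨d, -, hd⟩, -⟩ | ⟨d, -, hd⟩
    · exact ne_one_of_trace Qt_e₀ d (by rw [← hs]; exact hd)
    · refine ne_one_of_trace (Qt_single 1) (d⁻¹ * x) ?_
      rw [_root_.mul_inv_rev, inv_inv, show d⁻¹ * x * zL (Pi.single 1 (1 : F)) * (x⁻¹ * d) =
        d⁻¹ * (x * zL (Pi.single 1 (1 : F)) * x⁻¹) * d by group, ← ht, ← hd]
      group
  obtain ⟨a, b, hab⟩ := pair_of_commute (S.centZL hjK Qt_e₀ (hs ▸ hjs)) (unit_ne Qt_e₀) (hs ▸ hjs.eq)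
  have hsj : s * j = pair (ax e₀ * a, 1 * b) := by rw [hs, hab, zL, ← map_mul, Prod.mk_mul_mk]
  have hsjsq : s * j * (s * j) = 1 := by
    rw [show s * j * (s * j) = s * (j * s) * j by group, hjs.eq, show s * (s * j) * j = (s * s) * (j * j) by group,
      hjj, mul_one, hs, zL_mul_self]
  have hjo : j ∈ omegaN F := S.le hjK
  rcases (hsj ▸ isHalf_of_trace (hsj ▸ mul_mem (S.le hsK) hjo) (hsj ▸ hsjsq) (hsj ▸ hsj1) (hsj ▸ hsjtr) :
    IsHalf (s * j)) with ⟨u, hu, e⟩ | ⟨v, hv, e⟩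
  · -- a half turn of the left factor
    have ej : j = pair (ax e₀ * ax u, 1) := by
      calc j = (s * s) * j := by rw [hs, zL_mul_self, one_mul]
        _ = s * (s * j) := by group
        _ = _ := by rw [e, hs, zL, zL, ← map_mul, Prod.mk_mul_mk, mul_one]
    have hne : ax (e₀ : Row F) * ax u ≠ 1 := by
      intro h0
      have hj1 : j = 1 := by rw [ej, h0]; exact map_one pair
      exact hjne hj1
    have hmem : ax (e₀ : Row F) * ax u ∈ omegaT F := mul_mem (ax_mem_omegaT Qt_e₀) (ax_mem_omegaT hu)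
    have hsq : ax (e₀ : Row F) * ax u * (ax e₀ * ax u) = 1 := by
      rw [ej, ← map_mul, Prod.mk_mul_mk] at hjj
      rcases pair_eq_one hjj with ⟨h', -⟩ | ⟨-, h'⟩
      · exact h'
      · have := congrArg (fun g => (bothT F g).1) h'
        simp only [mul_one, map_one, bothT_negI, Prod.fst_one] at this
        exact absurd this (by decide)
    obtain ⟨w, hw, hw'⟩ := exists_ax_unit hmem hsq hne
    exact S.centZL htK hw (by rw [ej, hw'] at hjt; exact hjt.symm)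
  have ej : j = pair (ax e₀, ax v) := by
    calc j = (s * s) * j := by rw [hs, zL_mul_self, one_mul]
      _ = s * (s * j) := by group
      _ = _ := by rw [e, hs, pair_eq_mul]
  have hvc : ax v * ax (e₀ : Row F) = ax e₀ * ax v := by
    have h1 := hjc
    rw [ej, hc, ← pair_eq_mul] at h1
    exact (commute_of_pair (ax_det (unit_ne Qt_e₀)) (ax_det (unit_ne Qt_e₀)) h1).2
  rcases axes_of_commute (unit_ne hv) (unit_ne Qt_e₀) hvc with hperp | hsame
  · obtain ⟨w, hw, hw'⟩ := exists_ax_unit (mul_mem (ax_mem_omegaT (Qt_e₀ (F := F))) (ax_mem_omegaT hv))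
      (by rw [show ax (e₀ : Row F) * ax v * (ax e₀ * ax v) = ax e₀ * (ax v * ax e₀) * ax v by group, hvc,
        show ax (e₀ : Row F) * (ax e₀ * ax v) * ax v = (ax e₀ * ax e₀) * (ax v * ax v) by group, ax_mul_self,
        ax_mul_self, one_mul])
      (fun e' => by
        have h1 : ax (e₀ : Row F) = ax v := by
          rw [eq_inv_of_mul_eq_one_left e', inv_eq_of_mul_eq_one_left (ax_mul_self v)]
        have h3 := LinearEquiv.congr_fun (congrArg Subtype.val h1) (e₀ : Row F)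
        change (ax (e₀ : Row F)).1 (e₀ : Row F) = (ax v).1 (e₀ : Row F) at h3
        rw [ax_self (unit_ne Qt_e₀), ax_perp hperp] at h3
        exact unit_ne (Qt_e₀ (F := F)) (by rw [OOmega.neg_fixed_free h2.out h3.symm, QuadraticMap.map_zero]))
    refine S.centZR htK hw ?_
    have h4 : zR w = c * j := by
      rw [hc, ej, ← pair_eq_mul, ← map_mul, Prod.mk_mul_mk, ax_mul_self, hw', zR]
    rw [h4]
    exact htc.mul_right hjt.symm
  exfalso
  have ejc : j = c := by rw [ej, hc, ← pair_eq_mul, hsame]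
  rcases hd with ⟨-, d, -, hd⟩ | ⟨d, hd', hd⟩
  · have h1 : trN (t * j) = -3 := by rw [← hd, trN_conj, htt']
    rw [ejc, ← htc.symm.eq, ht, show c * (x * zL (Pi.single 1 (1 : F)) * x⁻¹) =
      x * (c * zL (Pi.single 1 (1 : F))) * x⁻¹ by
        rw [show x * (c * zL (Pi.single 1 (1 : F))) * x⁻¹ = (x * c * x⁻¹) * (x * zL (Pi.single 1 (1 : F)) * x⁻¹) by
          group, conj_eq_self hxc],
      trN_conj, hc1] at h1
    exact neg_three_ne_one h1.symm
  · obtain ⟨-, hdc⟩ := S.closure_le_cent hsK htK hsc htc hd'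
    have esj : s * j = zR (e₀ : Row F) := by rw [ejc, hsc.eq, hcs]
    have h1 := key (x⁻¹ * d) (zR e₀) (zL (Pi.single 1 1)) (hxc.inv_left.mul_left hdc) (by
      rw [← esj, _root_.mul_inv_rev, inv_inv,
        show x⁻¹ * d * (s * j) * (d⁻¹ * x) = x⁻¹ * (d * (s * j) * d⁻¹) * x by group, hd, ht]
      group)
    rw [show c * zR (e₀ : Row F) = zL e₀ by rw [hc, mul_assoc, zR_mul_self, mul_one], trN_zL (unit_ne Qt_e₀),
      hc1] at h1
    exact neg_three_ne_one h1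

/-- The centraliser of a mixed half turn. -/
theorem centGood {g : ↥(Iso (Qn F))} (hg : g ∈ K) {u v : Row F} (hu : Qt F u = 1) (hv : Qt F v = 1)
    (h : Commute g (zL u * zR v)) : g ∈ wreath F := by
  obtain ⟨a, b, ha, hb, hab⟩ := exists_move hu hv
  obtain ⟨c, hc⟩ : ∃ c, c = pair (a⁻¹, b⁻¹) := ⟨_, rfl⟩
  have hcm : c ∈ wreath F ⊓ omegaN F := hc ▸ ⟨pair_mem_wreath _ _, pair_mem_omega.mpr (by rw [map_inv, map_inv, hab])⟩
  refine conj_mem_wreath hcm.1 (S.centGood₀ (S.conj_mem_K hcm hg) ?_)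
  have h1 := commute_conj h c
  rwa [show c * (zL u * zR v) * c⁻¹ = (c * zL u * c⁻¹) * (c * zR v * c⁻¹) by group, hc, conj_zL, conj_zR,
    show a⁻¹.1 u = e₀ from ha ▸ a.1.symm_apply_apply _, show b⁻¹.1 v = e₀ from hb ▸ b.1.symm_apply_apply _,
    ← hc] at h1

/-- Every element of the overgroup keeps the mixed half turn in the stabiliser. -/
theorem conj_good_mem {g : ↥(Iso (Qn F))} (hg : g ∈ K) : g * (zL e₀ * zR e₀) * g⁻¹ ∈ wreath F := by
  obtain ⟨c, hc⟩ : ∃ c, c = zL (e₀ : Row F) * zR e₀ := ⟨_, rfl⟩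
  rw [← hc]
  obtain ⟨s, hs⟩ : ∃ s, s = zL (e₀ : Row F) := ⟨_, rfl⟩
  obtain ⟨t, ht⟩ : ∃ t, t = g * c * g⁻¹ := ⟨_, rfl⟩
  rw [← ht]
  have hcc : c * c = 1 := by
    rw [hc, ← pair_eq_mul, ← map_mul, Prod.mk_mul_mk, ax_mul_self]; exact map_one pair
  have hcK : c ∈ K := hc ▸ mul_mem (S.zL_mem_K Qt_e₀) (S.zR_mem_K Qt_e₀)
  have htr : trN t = 1 := by rw [ht, trN_conj, hc, ← pair_eq_mul, trN_ax_ax (unit_ne Qt_e₀) (unit_ne Qt_e₀)]
  have hst : trN s = -3 := by rw [hs, trN_zL (unit_ne Qt_e₀)]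
  have hsK : s ∈ K := hs ▸ S.zL_mem_K Qt_e₀
  have htK : t ∈ K := ht ▸ mul_mem (mul_mem hg hcK) (inv_mem hg)
  obtain ⟨j, hjcl, hjj, hj1, hjs, hjt, hd⟩ := dihedral_pair (s := s) (t := t) (by rw [hs]; exact zL_mul_self _)
    (ht ▸ conj_sq_one hcc g) (fun d _ e => by
      rw [← e, trN_conj, hst] at htr; exact neg_three_ne_one htr)
  obtain ⟨hjK, -⟩ := S.closure_le_cent hsK htK (Commute.one_right _) (Commute.one_right _) hjcl
  obtain ⟨a, b, hab⟩ := pair_of_commute (S.centZL hjK Qt_e₀ (hs ▸ hjs)) (unit_ne Qt_e₀) (hs ▸ hjs.eq)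
  have hkinds : IsHalf (s * j) ∨ ∃ u v, Qt F u = 1 ∧ Qt F v = 1 ∧ s * j = zL u * zR v := by
    rcases hd with ⟨⟨d, -, hd⟩, -⟩ | ⟨d, hd', hd⟩
    · left
      have hsj : s * j = pair (ax e₀ * a, 1 * b) := by rw [hs, hab, zL, ← map_mul, Prod.mk_mul_mk]
      have hsq : s * j * (s * j) = 1 := by rw [← hd]; exact conj_sq_one (by rw [hs]; exact zL_mul_self _) d
      have hne : s * j ≠ 1 := ne_one_of_trace Qt_e₀ d (by rw [← hs]; exact hd)
      have htrj : trN (s * j) = -3 := by rw [← hd, trN_conj, hst]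
      exact (hsj ▸ isHalf_of_trace (hsj ▸ mul_mem (S.le hsK) (S.le hjK)) (hsj ▸ hsq) (hsj ▸ hne) (hsj ▸ htrj) :)
    · right
      obtain ⟨hdK, -⟩ := S.closure_le_cent hsK htK (Commute.one_right _) (Commute.one_right _) hd'
      obtain ⟨y, hy⟩ : ∃ y, y = d⁻¹ * g := ⟨_, rfl⟩
      have hyK : y ∈ K := hy ▸ mul_mem (inv_mem hdK) hg
      have hyc : y * c * y⁻¹ = s * j := by
        rw [hy, _root_.mul_inv_rev, inv_inv, show d⁻¹ * g * c * (g⁻¹ * d) = d⁻¹ * (g * c * g⁻¹) * d by group, ← ht,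
          ← hd]
        group
      have hys : Commute (y⁻¹ * s * y) c := by
        have h1 : Commute s (s * j) := (Commute.refl s).mul_right hjs.symm
        rw [← hyc] at h1
        have h3 := commute_conj h1 y⁻¹
        rwa [inv_inv, show y⁻¹ * (y * c * y⁻¹) * y = c by group] at h3
      have hyw : y⁻¹ * s * y ∈ wreath F :=
        S.centGood₀ (mul_mem (mul_mem (inv_mem hyK) hsK) hyK) (hc ▸ hys)
      have hyw' : y⁻¹ ∈ wreath F := S.moves (inv_mem hyK) Qt_e₀ (by rw [inv_inv, ← hs]; exact hyw)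
      obtain ⟨p, q, hpq⟩ : ∃ p q, y = pair (p, q) ∨ y = swap F * pair (p, q) := inv_mem_iff.mp hyw'
      rcases hpq with rfl | rfl
      · refine ⟨p.1 e₀, q.1 e₀, by rw [p.2, Qt_e₀], by rw [q.2, Qt_e₀], ?_⟩
        rw [← hyc, hc, ← conj_zL p q, ← conj_zR p q]; group
      · refine ⟨q.1 e₀, p.1 e₀, by rw [q.2, Qt_e₀], by rw [p.2, Qt_e₀], ?_⟩
        rw [← hyc, hc, show swap F * pair (p, q) * (zL (e₀ : Row F) * zR e₀) * (swap F * pair (p, q))⁻¹ =
          (swap F * (pair (p, q) * zL (e₀ : Row F) * (pair (p, q))⁻¹) * (swap F)⁻¹) *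
            (swap F * (pair (p, q) * zR (e₀ : Row F) * (pair (p, q))⁻¹) * (swap F)⁻¹) by group,
          conj_zL, conj_zR, zL, zR, conj_swap_pair, conj_swap_pair]
        exact (zL_zR_commute _ _).symm
  have ej : ∀ w, s * j = w → j = s * w := fun w e => by
    rw [← e, ← mul_assoc, hs, zL_mul_self, one_mul]
  rcases hkinds with (⟨u, hu, e⟩ | ⟨v, hv, e⟩) | ⟨u, v, hu, hv, e⟩
  · have h1 : j = pair (ax e₀ * ax u, 1) := by rw [ej _ e, hs, zL, zL, ← map_mul, Prod.mk_mul_mk, mul_one]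
    have hsq : ax (e₀ : Row F) * ax u * (ax e₀ * ax u) = 1 := by
      rw [h1, ← map_mul, Prod.mk_mul_mk] at hjj
      rcases pair_eq_one hjj with ⟨h', -⟩ | ⟨-, h'⟩
      · exact h'
      · have := congrArg (fun g => (bothT F g).1) h'
        simp only [mul_one, map_one, bothT_negI, Prod.fst_one] at this
        exact absurd this (by decide)
    obtain ⟨w, hw, hw'⟩ := exists_ax_unit (mul_mem (ax_mem_omegaT (Qt_e₀ (F := F))) (ax_mem_omegaT hu)) hsq
      (fun h0 => hj1 (by rw [h1, h0]; exact map_one pair))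
    exact S.centZL htK hw (by rw [h1, hw'] at hjt; exact hjt.symm)
  · exact S.centGood htK Qt_e₀ hv (by rw [← hs, ← ej _ e]; exact hjt.symm)
  · have h1 : j = pair (ax e₀ * ax u, ax v) := by
      rw [ej _ e, hs, ← pair_eq_mul, zL, ← map_mul, Prod.mk_mul_mk, one_mul]
    by_cases h0 : ax (e₀ : Row F) * ax u = 1
    · exact S.centZR htK hv (by rw [h1, h0] at hjt; exact hjt.symm)
    have hsq : ax (e₀ : Row F) * ax u * (ax e₀ * ax u) = 1 := by
      rw [h1, ← map_mul, Prod.mk_mul_mk, ax_mul_self] at hjj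
      rcases pair_eq_one hjj with ⟨h', -⟩ | ⟨-, h'⟩
      · exact h'
      · have := congrArg (fun g => (bothT F g).1) h'
        simp only [map_one, bothT_negI, Prod.fst_one] at this
        exact absurd this (by decide)
    obtain ⟨w, hw, hw'⟩ := exists_ax_unit (mul_mem (ax_mem_omegaT (Qt_e₀ (F := F))) (ax_mem_omegaT hu)) hsq h0
    exact S.centGood htK hw hv (by rw [h1, hw', pair_eq_mul] at hjt; exact hjt.symm)

/-- An overgroup of `Ω₃ ≀ 2` other than `Ω₉` stabilises the decomposition. -/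
theorem le_wreath : K ≤ wreath F := by
  intro g hg
  refine S.moves hg (Qt_single 2) ?_
  obtain ⟨a, ha0, ha1⟩ := exists_frame (F := F) (u := Pi.single 1 1) (u' := e₀) (Qt_single 1) Qt_e₀ (by simp [e₀])
  obtain ⟨b, hb, hab⟩ := exists_fix (F := F) (bothT F a)
  have hpm : pair (a, b) ∈ wreath F ⊓ omegaN F := ⟨pair_mem_wreath _ _, pair_mem_omega.mpr hab.symm⟩
  have h1 := S.conj_good_mem hg
  have h3 := S.conj_good_mem (mul_mem hg (S.ge hpm))
  rw [_root_.mul_inv_rev, show g * pair (a, b) * (zL (e₀ : Row F) * zR e₀) * ((pair (a, b))⁻¹ * g⁻¹) =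
    g * ((pair (a, b) * zL (e₀ : Row F) * (pair (a, b))⁻¹) * (pair (a, b) * zR (e₀ : Row F) * (pair (a, b))⁻¹)) * g⁻¹
    by group, conj_zL, conj_zR, hb, show a.1 e₀ = Pi.single 1 1 from ha0] at h3
  have h4 := mul_mem h1 h3
  rwa [show g * (zL (e₀ : Row F) * zR e₀) * g⁻¹ * (g * (zL (Pi.single 1 (1 : F)) * zR e₀) * g⁻¹) =
    g * zL (Pi.single 2 (1 : F)) * g⁻¹ by
      rw [← zL_e₀_e₁, show g * (zL (e₀ : Row F) * zR e₀) * g⁻¹ * (g * (zL (Pi.single 1 (1 : F)) * zR e₀) * g⁻¹) =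
        g * (zL (e₀ : Row F) * (zR e₀ * zL (Pi.single 1 (1 : F))) * zR e₀) * g⁻¹ by group,
        ← (zL_zR_commute _ _).eq,
        show g * (zL (e₀ : Row F) * (zL (Pi.single 1 (1 : F)) * zR e₀) * zR e₀) * g⁻¹ =
          g * (zL (e₀ : Row F) * zL (Pi.single 1 (1 : F)) * (zR e₀ * zR e₀)) * g⁻¹ by group, zR_mul_self,
        mul_one]] at h4

end Setup

end Cfsg.Agent.Classical.TensorNine
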