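import Cfsg.Agent.Lib.Classical.TensorNine.CentOne

/-!
# Moving one half turn
-/

set_option autoImplicit false
set_option linter.unusedSectionVars false

namespace Cfsg.Agent.Classical.TensorNine

open Matrix Module QuadraticMap
open Cfsg.Agent.Classical
open Cfsg.Agent.Classical.OCount (PND)
open Cfsg.Agent.Classical.ORefl (Iso refl refl_apply)
open Cfsg.Agent.Classical.OOmega (rf both negI classGroup)

variable {F : Type*} [Field F] [Fintype F] [h2 : Fact ((2 : F) ≠ 0)]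

namespace Setup

variable {K : Subgroup ↥(Iso (Qn F))} (S : Setup K)

include S

/-- An element keeping one half turn in the stabiliser lies in it. -/
theorem moves₀ {g : ↥(Iso (Qn F))} (hg : g ∈ K) (h : g * zL e₀ * g⁻¹ ∈ wreath F) : g ∈ wreath F := by
  obtain ⟨σ, hσ⟩ : ∃ σ, σ = g * zL (e₀ : Row F) * g⁻¹ := ⟨_, rfl⟩
  rw [← hσ] at h
  have hσK : σ ∈ K := hσ ▸ mul_mem (mul_mem hg (S.zL_mem_K Qt_e₀)) (inv_mem hg)
  have hσσ : σ * σ = 1 := hσ ▸ conj_sq_one (zL_mul_self _) g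
  have hσ1 : σ ≠ 1 := ne_one_of_trace Qt_e₀ g hσ.symm
  have hσt : trN σ = -3 := by rw [hσ, trN_conj, trN_zL (unit_ne Qt_e₀)]
  have main : ∀ g : ↥(Iso (Qn F)), g ∈ K → ∀ u, Qt F u = 1 → g * zL (e₀ : Row F) * g⁻¹ = zL u → g ∈ wreath F := by
    intro g hg u hu e
    obtain ⟨a, b, ha, -, hab⟩ := exists_move hu (Qt_e₀ (F := F))
    have hpm : pair (a, b) ∈ wreath F ⊓ omegaN F := ⟨pair_mem_wreath _ _, pair_mem_omega.mpr hab⟩
    have h1 : (pair (a, b))⁻¹ * g ∈ wreath F := by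
      refine S.centZL (mul_mem (inv_mem (S.ge hpm)) hg) Qt_e₀ ?_
      show (pair (a, b))⁻¹ * g * zL e₀ = zL e₀ * ((pair (a, b))⁻¹ * g)
      have e1 : g * zL (e₀ : Row F) = zL u * g := mul_inv_eq_iff_eq_mul.mp e
      have e3 : pair (a, b) * zL e₀ = zL u * pair (a, b) := by
        have := conj_zL a b e₀
        rw [ha] at this
        exact mul_inv_eq_iff_eq_mul.mp this
      rw [mul_assoc, e1, ← mul_assoc, ← mul_assoc]
      congr 1
      rw [inv_mul_eq_iff_eq_mul, ← mul_assoc, e3, mul_inv_cancel_right]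
    have := mul_mem hpm.1 h1
    rwa [mul_inv_cancel_left] at this
  obtain ⟨a, b, hab | hab⟩ := h
  · rcases (hab ▸ isHalf_of_trace (hab ▸ S.le hσK) (hab ▸ hσσ) (hab ▸ hσ1) (hab ▸ hσt) : IsHalf σ) with
      ⟨u, hu, e⟩ | ⟨v, hv, e⟩
    · exact main g hg u hu (hσ.symm.trans e)
    · have h1 : eta * g ∈ wreath F := main _ (mul_mem S.eta_mem' hg) v hv (by
        rw [_root_.mul_inv_rev, show eta * g * zL (e₀ : Row F) * (g⁻¹ * (eta (F := F))⁻¹) =
          eta * (g * zL (e₀ : Row F) * g⁻¹) * (eta (F := F))⁻¹ by group, ← hσ, e, conj_eta_zR])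
      have := mul_mem (inv_mem (show eta ∈ wreath F from (eta_mem (F := F)).1)) h1
      rwa [inv_mul_cancel_left] at this
  exfalso
  -- `σ` swaps the factors; then a copy of `Ω₃` centralises it
  have hb : b * a = 1 ∨ b * a = negI (Qt F) := by
    have h1 : pair (b * a, a * b) = 1 := by
      rw [← hσσ, hab, show swap F * pair (a, b) * (swap F * pair (a, b)) =
        swap F * pair (a, b) * swap F * pair (a, b) by group, swap_pair, mul_assoc (pair (b, a)), swap_mul_self,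
        mul_one, ← map_mul, Prod.mk_mul_mk]
    rcases pair_eq_one h1 with ⟨h3, -⟩ | ⟨h3, -⟩
    exacts [Or.inl h3, Or.inr h3]
  have hb' : ∀ q, b * q * b⁻¹ = a⁻¹ * q * a := by
    intro q
    rcases hb with h' | h'
    · rw [eq_inv_of_mul_eq_one_left h', inv_inv]
    · have e : b = negI (Qt F) * a⁻¹ := by rw [← h', mul_inv_cancel_right]
      rw [e, _root_.mul_inv_rev, inv_inv,
        show negI (Qt F) * a⁻¹ * q * (a * (negI (Qt F))⁻¹) = negI (Qt F) * (a⁻¹ * q * a) * (negI (Qt F))⁻¹ by group,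
        negI_central, mul_inv_cancel_right]
  obtain ⟨D, hD⟩ : ∃ D : ↥(omegaT F) → ↥(Iso (Qn F)), D = fun h => pair (h.1, a * h.1 * a⁻¹) := ⟨_, rfl⟩
  have hDσ : ∀ h, Commute (D h) σ := by
    intro h
    have h1 : σ * D h * σ⁻¹ = D h := by
      rw [hab, hD, show swap F * pair (a, b) * pair (h.1, a * h.1 * a⁻¹) * (swap F * pair (a, b))⁻¹ =
        swap F * (pair (a, b) * pair (h.1, a * h.1 * a⁻¹) * (pair (a, b))⁻¹) * (swap F)⁻¹ by group,
        ← map_inv, ← map_mul, ← map_mul, Prod.inv_mk, Prod.mk_mul_mk, Prod.mk_mul_mk, conj_swap_pair, hb']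
      refine congrArg pair (Prod.ext ?_ rfl)
      show a⁻¹ * (a * h.1 * a⁻¹) * a = h.1
      group
    exact (mul_inv_eq_iff_eq_mul.mp h1).symm
  have hDmul : ∀ h k, D (h * k) = D h * D k := fun h k => by
    rw [hD]
    show pair ((h * k : ↥(omegaT F)).1, a * (h * k : ↥(omegaT F)).1 * a⁻¹) = _
    rw [← map_mul, Prod.mk_mul_mk]
    refine congrArg pair (Prod.ext rfl ?_)
    show a * (h.1 * k.1) * a⁻¹ = a * h.1 * a⁻¹ * (a * k.1 * a⁻¹)
    group
  have hDK : ∀ h, D h ∈ K := fun h => by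
    rw [hD]
    exact S.pair_mem (by rw [map_mul, map_mul, map_inv, mul_inv_cancel_comm])
  have hX : ∀ h, (D h).1 (mat a⁻¹) = mat a⁻¹ := fun h => by
    rw [hD, pair_apply, ← mat_inv h2.out (a * h.1 * a⁻¹), ← mat_mul, ← mat_mul]
    congr 1
    group
  obtain ⟨Ψ, hΨ⟩ : ∃ Ψ : ↥(omegaT F) → ↥(Iso (Qn F)), Ψ = fun h => g⁻¹ * D h * g := ⟨_, rfl⟩
  have hΨ0 : ∀ h, Commute (Ψ h) (zL e₀) := fun h => by
    have h1 := commute_conj (hDσ h) g⁻¹
    rw [inv_inv, show g⁻¹ * σ * g = zL (e₀ : Row F) by rw [hσ]; group] at h1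
    exact hΨ ▸ h1
  have hΨmul : ∀ h k, Ψ (h * k) = Ψ h * Ψ k := fun h k => by
    simp only [hΨ, hDmul]; group
  have hex : ∀ h, ∃ c d, pair (c, d) = Ψ h ∧ (bothT F c).1 = 1 ∧ bothT F c = bothT F d := by
    intro h
    have hK : Ψ h ∈ K := hΨ ▸ mul_mem (mul_mem (inv_mem hg) (hDK h)) hg
    obtain ⟨c, d, e⟩ := pair_of_commute (S.centZL hK Qt_e₀ (hΨ0 h)) (unit_ne Qt_e₀) (hΨ0 h).eq
    obtain ⟨c', d', e', h1, h3⟩ := exists_det_one (e ▸ S.le hK)
    exact ⟨c', d', e'.trans e.symm, h1, h3⟩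
  choose A B hAB hA hAB' using hex
  have hhom : ∀ h k, A (h * k) = A h * A k ∧ B (h * k) = B h * B k := by
    intro h k
    have e : pair (A h * A k, B h * B k) = pair (A (h * k), B (h * k)) := by
      rw [hAB, hΨmul, ← hAB, ← hAB, ← map_mul, Prod.mk_mul_mk]
    rcases pair_inj e with h' | ⟨h1, -⟩
    · exact h'
    · have := congrArg (fun g => (bothT F g).1) h1
      simp only [map_mul, Prod.fst_mul, hA, bothT_negI, mul_one] at this
      exact absurd this.symm (by decide)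
  let fA : ↥(omegaT F) →* ↥(Iso (Qt F)) := MonoidHom.mk' A fun h k => (hhom h k).1
  let fB : ↥(omegaT F) →* ↥(Iso (Qt F)) := MonoidHom.mk' B fun h k => (hhom h k).2
  have hpm : ∀ h, (A h).1 e₀ = e₀ ∨ (A h).1 e₀ = -e₀ := fun h => by
    have h1 := hΨ0 h
    rw [← hAB] at h1
    exact fix_of_commute (unit_ne Qt_e₀) (commute_of_pair (hA h) (ax_det (unit_ne Qt_e₀)) h1).1
  have hAfix : ∀ h, (A h).1 e₀ = e₀ := by
    let St : Subgroup ↥(omegaT F) :=
      { carrier := {h | (fA h).1 e₀ = e₀}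
        one_mem' := show (fA 1).1 e₀ = e₀ by rw [map_one]; rfl
        mul_mem' := fun {x y} (hx : (fA x).1 e₀ = e₀) (hy : (fA y).1 e₀ = e₀) =>
          show (fA (x * y)).1 e₀ = e₀ by
            rw [map_mul]; show (fA x).1 ((fA y).1 e₀) = e₀; rw [hy, hx]
        inv_mem' := fun {x} (hx : (fA x).1 e₀ = e₀) => show (fA x⁻¹).1 e₀ = e₀ by
          rw [map_inv]; exact (LinearEquiv.symm_apply_eq _).mpr hx.symm }
    have hst : St = ⊤ := by
      rw [eq_top_iff, ← commutator_omegaT S.h5, commutator_def, Subgroup.commutator_le]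
      intro x _ y _
      show (fA (x * y * x⁻¹ * y⁻¹)).1 e₀ = e₀
      rw [map_mul, map_mul, map_mul]
      show (fA x).1 ((fA y).1 ((fA x⁻¹).1 ((fA y⁻¹).1 e₀))) = e₀
      have hsgn : ∀ z, ∃ c : F, (fA z).1 e₀ = c • e₀ ∧ (fA z⁻¹).1 e₀ = c • e₀ := by
        intro z
        have hinv : (fA z⁻¹).1 ((fA z).1 e₀) = e₀ := by
          rw [map_inv]; exact (fA z).1.symm_apply_apply _
        rcases hpm z with e | e <;> change (fA z).1 e₀ = _ at e
        · exact ⟨1, by rw [e, one_smul], by rw [e] at hinv; rw [hinv, one_smul]⟩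
        · refine ⟨-1, by rw [e, neg_one_smul], ?_⟩
          rw [e, map_neg] at hinv
          rw [neg_one_smul, eq_neg_iff_add_eq_zero, ← neg_eq_iff_add_eq_zero, hinv]
      have hcc : ∀ z (c : F), (fA z).1 e₀ = c • e₀ → c * c = 1 := by
        intro z c hz
        have h4 : Qt F ((fA z).1 e₀) = Qt F e₀ := (fA z).2 _
        rw [hz, QuadraticMap.map_smul, Qt_e₀, smul_eq_mul, mul_one] at h4
        exact h4
      obtain ⟨c, hc, hc'⟩ := hsgn x
      obtain ⟨d, hd, hd'⟩ := hsgn y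
      simp only [hd', map_smul, hc', hd, hc, smul_smul]
      rw [show d * c * d * c = (d * d) * (c * c) by ring, hcc y d hd, hcc x c hc, one_mul, one_smul]
    exact fun h => (hst ▸ Subgroup.mem_top h : h ∈ St)
  have hA1 : ∀ h, A h = 1 := fun h => hom_trivial S.h5 fA
    (fun x y => commute_of_fix (hA x) (hA y) (fun e => unit_ne (Qt_e₀ (F := F)) (by rw [e, QuadraticMap.map_zero]))
      (hAfix x) (hAfix y)) h
  obtain ⟨M, hM⟩ : ∃ M, M = g.1.symm (mat a⁻¹) := ⟨_, rfl⟩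
  have hgM : g.1 M = mat a⁻¹ := by rw [hM, LinearEquiv.apply_symm_apply]
  obtain ⟨i, hi⟩ : ∃ i, M i ≠ 0 := by
    by_contra hcon
    push Not at hcon
    have h0 : M = 0 := funext hcon
    rw [h0, map_zero] at hgM
    have h1 : mat a⁻¹ * mat a = 1 := by rw [← mat_mul, inv_mul_cancel, mat_one]
    rw [← hgM, Matrix.zero_mul] at h1
    exact zero_ne_one h1
  have hBfix : ∀ h, (B h).1 (M i) = M i := by
    intro h
    have h1 : (Ψ h).1 M = M := by
      rw [hΨ]
      show g.1.symm ((D h).1 (g.1 M)) = M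
      rw [hgM, hX, hM]
    rw [← hAB, hA1, ← rows_const] at h1
    exact congrFun h1 i
  have hB1 : ∀ h, B h = 1 := fun h => hom_trivial S.h5 fB
    (fun x y => commute_of_fix (hAB' x ▸ hA x) (hAB' y ▸ hA y) hi (hBfix x) (hBfix y)) h
  have hD1 : D ⟨_, ax_mem_omegaT (Qt_e₀ (F := F))⟩ = 1 := by
    have h1 := hAB ⟨_, ax_mem_omegaT (Qt_e₀ (F := F))⟩
    rw [hA1, hB1] at h1
    calc D _ = g * Ψ ⟨_, ax_mem_omegaT (Qt_e₀ (F := F))⟩ * g⁻¹ := by simp only [hΨ]; group
      _ = 1 := by rw [← h1]; rw [show pair ((1 : ↥(Iso (Qt F))), (1 : ↥(Iso (Qt F)))) = 1 from map_one pair]; group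
  rw [hD] at hD1
  rcases pair_eq_one hD1 with ⟨h1, -⟩ | ⟨h1, -⟩
  · exact ax_ne_one (unit_ne Qt_e₀) h1
  · have := congrArg (fun g => (bothT F g).1) h1
    simp only [bothT_negI, ax_det (unit_ne Qt_e₀)] at this
    exact absurd this (by decide)

/-- An element keeping one half turn in the stabiliser lies in it. -/
theorem moves {g : ↥(Iso (Qn F))} (hg : g ∈ K) {u : Row F} (hu : Qt F u = 1) (h : g * zL u * g⁻¹ ∈ wreath F) :
    g ∈ wreath F := by
  obtain ⟨a, b, ha, -, hab⟩ := exists_move hu (Qt_e₀ (F := F))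
  have hpm : pair (a, b) ∈ wreath F ⊓ omegaN F := ⟨pair_mem_wreath _ _, pair_mem_omega.mpr hab⟩
  have h1 : g * pair (a, b) ∈ wreath F := by
    refine S.moves₀ (mul_mem hg (S.ge hpm)) ?_
    rwa [_root_.mul_inv_rev, show g * pair (a, b) * zL (e₀ : Row F) * ((pair (a, b))⁻¹ * g⁻¹) =
      g * (pair (a, b) * zL (e₀ : Row F) * (pair (a, b))⁻¹) * g⁻¹ by group, conj_zL, ha]
  have := mul_mem h1 (inv_mem (show pair (a, b) ∈ wreath F from hpm.1))
  rwa [mul_inv_cancel_right] at this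

end Setup

end Cfsg.Agent.Classical.TensorNine
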