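import Cfsg.Agent.Lib.Classical.TensorNine.Centr

/-!
# Half turns of the two factors
-/

set_option autoImplicit false
set_option linter.unusedSectionVars false

namespace Cfsg.Agent.Classical.TensorNine

open Matrix Module QuadraticMap
open Cfsg.Agent.Classical
open Cfsg.Agent.Classical.OCount (PND)
open Cfsg.Agent.Classical.ORefl (Iso refl refl_apply)
open Cfsg.Agent.Classical.OOmega (rf both negI classGroup)

variable {F : Type*} [Field F] [Fintype F] [h2 : Fact ((2 : F) ≠ 0)]

instance finite_iso : Finite ↥(Iso (Qn F)) :=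
  Finite.of_injective (fun g => (⇑g.1 : Mat F → Mat F)) fun _ _ e => Subtype.ext (LinearEquiv.ext (congrFun e))

theorem pair_eq_mul (u v : Row F) : pair (ax u, ax v) = zL u * zR v := by
  rw [zL, zR, ← map_mul, Prod.mk_mul_mk, mul_one, one_mul]

theorem zL_mul_self (u : Row F) : zL u * zL u = 1 := by
  rw [zL, ← map_mul, Prod.mk_mul_mk, ax_mul_self, mul_one]; exact map_one pair

theorem zR_mul_self (v : Row F) : zR v * zR v = 1 := by
  rw [zR, ← map_mul, Prod.mk_mul_mk, ax_mul_self, mul_one]; exact map_one pair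

theorem unit_ne {u : Row F} (hu : Qt F u = 1) : Qt F u ≠ 0 := by rw [hu]; exact one_ne_zero

theorem zL_ne_zR {u v : Row F} (hu : Qt F u ≠ 0) : zL u ≠ zR v := by
  intro e
  rcases pair_inj e with ⟨h1, -⟩ | ⟨h1, -⟩
  · exact ax_ne_one hu h1.symm
  · have h3 : ax u = negI (Qt F) := by
      calc ax u = negI (Qt F) * (negI (Qt F) * ax u) := by rw [← mul_assoc, negI_mul_self, one_mul]
        _ = negI (Qt F) := by rw [← h1, mul_one]
    have ht := trace_ax hu
    rw [h3, mat_negI, Matrix.trace_neg, Matrix.trace_one, Fintype.card_fin] at ht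
    exact h2.out (by push_cast at ht; linear_combination -ht)

/-- Normalised pairs commute factor by factor. -/
theorem commute_of_pair {a b c d : ↥(Iso (Qt F))} (ha : (bothT F a).1 = 1) (hc : (bothT F c).1 = 1)
    (h : Commute (pair (a, b)) (pair (c, d))) : a * c = c * a ∧ b * d = d * b := by
  have e := h.eq
  rw [← map_mul, ← map_mul, Prod.mk_mul_mk, Prod.mk_mul_mk] at e
  rcases pair_inj e with ⟨h1, h3⟩ | ⟨h1, -⟩
  · exact ⟨h1.symm, h3.symm⟩
  · have := congrArg (fun g => (bothT F g).1) h1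
    simp only [map_mul, Prod.fst_mul, ha, hc, bothT_negI, mul_one] at this
    exact absurd this (by decide)

theorem ax_det {u : Row F} (hu : Qt F u ≠ 0) : (bothT F (ax u)).1 = 1 := by rw [bothT_ax hu]

theorem one_det : (bothT F (1 : ↥(Iso (Qt F)))).1 = 1 := by rw [map_one]; rfl

/-- Commuting half turns have equal or orthogonal axes. -/
theorem axes_of_commute {u w : Row F} (hu : Qt F u ≠ 0) (hw : Qt F w ≠ 0) (h : ax u * ax w = ax w * ax u) :
    u ⬝ᵥ w = 0 ∨ ax w = ax u := by
  rcases fix_of_commute hw h with e | e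
  · right
    rw [ax_apply, sub_eq_iff_eq_add, ← two_smul F w] at e
    have ht : w = (2⁻¹ * ((Qt F u)⁻¹ * (2 * (u ⬝ᵥ w)))) • u := by
      rw [mul_smul, e, smul_smul, inv_mul_cancel₀ h2.out, one_smul]
    rw [ht, ax_smul fun e0 => hw (by rw [ht, e0, zero_smul, QuadraticMap.map_zero])]
  · left
    rw [ax_apply, sub_eq_iff_eq_add, neg_add_cancel, smul_eq_zero] at e
    rcases e with e | e
    · exact (mul_eq_zero.mp ((mul_eq_zero.mp e).resolve_left (inv_ne_zero hu))).resolve_left h2.out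
    · rw [e, zero_dotProduct]

theorem ax_e₀_e₁ : ax (e₀ : Row F) * ax (Pi.single 1 1) = ax (Pi.single 2 (1 : F)) := by
  have hm : ∀ k : Fin 3, mat (ax (Pi.single k (1 : F))) =
      Matrix.diagonal fun i => if i = k then (1 : F) else -1 := fun k => by
    rw [mat_ax, Qt_single, inv_one, one_mul]
    ext i j
    by_cases hij : i = j
    · subst hij
      by_cases hik : i = k
      · subst hik; simp [vecMulVec_apply]; ring
      · simp [vecMulVec_apply, hik]
    · simp only [Matrix.sub_apply, Matrix.smul_apply, vecMulVec_apply, Matrix.one_apply_ne hij,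
        Matrix.diagonal_apply_ne _ hij]
      by_cases hik : i = k
      · subst hik; simp [Ne.symm hij]
      · simp [hik]
  refine mat_inj ?_
  rw [mat_mul, e₀, hm, hm, hm, Matrix.diagonal_mul_diagonal]
  congr 1
  funext i
  fin_cases i <;> simp

theorem zL_e₀_e₁ : zL (e₀ : Row F) * zL (Pi.single 1 1) = zL (Pi.single 2 (1 : F)) := by
  rw [zL, zL, zL, ← map_mul, Prod.mk_mul_mk, ax_e₀_e₁, mul_one]

/-- A half turn of either factor. -/
def IsHalf (g : ↥(Iso (Qn F))) : Prop :=
  (∃ u, Qt F u = 1 ∧ g = zL u) ∨ ∃ v, Qt F v = 1 ∧ g = zR v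

theorem isHalf_of_trace {a b : ↥(Iso (Qt F))} (h : pair (a, b) ∈ omegaN F) (hsq : pair (a, b) * pair (a, b) = 1)
    (hne : pair (a, b) ≠ 1) (ht : trN (pair (a, b)) = -3) : IsHalf (pair (a, b)) := by
  rcases invol_pair h hsq hne with h' | h' | ⟨u, v, -, -, -, h'⟩
  · exact Or.inl h'
  · exact Or.inr h'
  · exact absurd (ht.symm.trans h') neg_three_ne_one

theorem conj_sq_one {G : Type*} [Group G] {x : G} (h : x * x = 1) (y : G) : y * x * y⁻¹ * (y * x * y⁻¹) = 1 := by
  rw [show y * x * y⁻¹ * (y * x * y⁻¹) = y * (x * x) * y⁻¹ by group, h, mul_one, mul_inv_cancel]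

theorem conj_eq_self {G : Type*} [Group G] {x y : G} (h : Commute y x) : y * x * y⁻¹ = x :=
  mul_inv_eq_of_eq_mul h.eq

theorem ne_one_of_trace {g : ↥(Iso (Qn F))} {u : Row F} (hu : Qt F u = 1) (d : ↥(Iso (Qn F)))
    (h : d * zL u * d⁻¹ = g) : g ≠ 1 := by
  rintro rfl
  rcases pair_eq_one (show pair (ax u, 1) = 1 from by
    calc zL u = d⁻¹ * (d * zL u * d⁻¹) * d := by group
      _ = 1 := by rw [h]; group) with ⟨h1, -⟩ | ⟨-, h3⟩
  · exact ax_ne_one (unit_ne hu) h1
  · have := congrArg (fun g => (bothT F g).1) h3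
    simp only [map_one, bothT_negI, Prod.fst_one] at this
    exact absurd this (by decide)

theorem sqSign_unit {u : Row F} (hu : Qt F u = 1) : sqSign (Qt F u) = 1 := by
  rw [hu]; exact sqSign_eq_one.mpr IsSquare.one

theorem pair_ax_unit {u v : Row F} (hu : Qt F u = 1) (hv : Qt F v ≠ 0) (h : pair (ax u, ax v) ∈ omegaN F) :
    ∃ v', Qt F v' = 1 ∧ ax v = ax v' := by
  have hb := pair_mem_omega.mp h
  rw [bothT_ax (unit_ne hu), bothT_ax hv, sqSign_unit hu] at hb
  obtain ⟨v', hv', e⟩ := exists_ax_unit (a := ax v) (mem_omegaT.mpr (by rw [bothT_ax hv, ← hb]; rfl)) (ax_mul_self v)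
    (ax_ne_one hv)
  exact ⟨v', hv', e⟩

end Cfsg.Agent.Classical.TensorNine
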