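import Cfsg.Agent.Lib.Classical.TensorNine.Basic

/-!
# Determinant, spinor norm, trace and involutions on `O₃ ≀ 2`
-/

set_option autoImplicit false
set_option linter.unusedSectionVars false

namespace Cfsg.Agent.Classical.TensorNine

open Matrix Module QuadraticMap
open Cfsg.Agent.Classical
open Cfsg.Agent.Classical.OCount (PND)
open Cfsg.Agent.Classical.ORefl (Iso refl refl_apply)
open Cfsg.Agent.Classical.OOmega (rf both negI)

variable {F : Type*} [Field F] [Finite F] [h2 : Fact ((2 : F) ≠ 0)]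

open scoped _root_.Classical in
/-- The square class of a value. -/
noncomputable def sqSign (c : F) : ℤˣ := if IsSquare c then 1 else -1

theorem sqSign_eq_one {c : F} : sqSign c = 1 ↔ IsSquare c := by
  unfold sqSign; split_ifs with h <;> simp [h]

theorem both_rf' {V : Type*} [AddCommGroup V] [Module F V] [FiniteDimensional F V] {Q : QuadraticForm F V}
    (hQ : PND Q) (hn : 2 ≤ finrank F V) {v : V} (hv : Q v ≠ 0) :
    both Q h2.out hQ (rf Q v) = (-1, sqSign (Q v)) := by
  refine Prod.ext (OOmega.dsign_rf h2.out hQ hv) ?_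
  show OOmega.spinor Q (rf Q v) = sqSign (Q v)
  by_cases hs : IsSquare (Q v)
  · rw [(OOmega.spinor_rf h2.out hQ hn hv).mpr hs, sqSign_eq_one.mpr hs]
  · rcases Int.units_eq_one_or (OOmega.spinor Q (rf Q v)) with e | e
    · exact absurd ((OOmega.spinor_rf h2.out hQ hn hv).mp e) hs
    · rw [e]; unfold sqSign; rw [if_neg hs]

variable (F) in
/-- Determinant and spinor norm in dimension three. -/
noncomputable def bothT : ↥(Iso (Qt F)) →* ℤˣ × ℤˣ := both (Qt F) h2.out (pnd_Qt h2.out)

variable (F) in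
/-- Determinant and spinor norm in dimension nine. -/
noncomputable def bothN : ↥(Iso (Qn F)) →* ℤˣ × ℤˣ := both (Qn F) h2.out (pnd_Qn h2.out)

variable (F) in
/-- `Ω₉`. -/
noncomputable def omegaN : Subgroup ↥(Iso (Qn F)) := commutator ↥(Iso (Qn F))

variable (F) in
/-- `Ω₃`. -/
noncomputable def omegaT : Subgroup ↥(Iso (Qt F)) := commutator ↥(Iso (Qt F))

instance omegaN_normal : (omegaN F).Normal := inferInstanceAs (commutator ↥(Iso (Qn F))).Normal

instance omegaT_normal : (omegaT F).Normal := inferInstanceAs (commutator ↥(Iso (Qt F))).Normal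

theorem mem_omegaN {g : ↥(Iso (Qn F))} : g ∈ omegaN F ↔ bothN F g = 1 := by
  rw [omegaN, OOmega.commutator_eq h2.out (pnd_Qn h2.out) two_le_finrank_mat, MonoidHom.mem_ker]; rfl

theorem mem_omegaT {a : ↥(Iso (Qt F))} : a ∈ omegaT F ↔ bothT F a = 1 := by
  rw [omegaT, OOmega.commutator_eq h2.out (pnd_Qt h2.out) two_le_finrank_row, MonoidHom.mem_ker]; rfl

theorem sign_mul_self (x : ℤˣ × ℤˣ) : x * x = 1 :=
  Prod.ext (Int.units_mul_self _) (Int.units_mul_self _)

/-- A reflection on the left is three reflections. -/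
theorem pair_rf (v : Row F) : pair (rf (Qt F) v, 1) =
    rf (Qn F) (vecMulVec v (Pi.single 0 1)) * rf (Qn F) (vecMulVec v (Pi.single 1 1)) *
      rf (Qn F) (vecMulVec v (Pi.single 2 1)) := by
  refine Subtype.ext (LinearEquiv.ext fun X => Matrix.ext fun i j => ?_)
  have hl : (pair (rf (Qt F) v, (1 : ↥(Iso (Qt F))))).1 X i j = refl (Qt F) v (fun k => X k j) i := by
    rw [pair_apply, mat_one, Matrix.transpose_one, Matrix.mul_one]
    exact congrFun (mat_mulVec (rf (Qt F) v) fun k => X k j) i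
  rw [hl]
  show _ = refl (Qn F) _ (refl (Qn F) _ (refl (Qn F) _ X)) i j
  have hQ1 : ∀ k : Fin 3, Qt F (Pi.single k (1 : F)) = 1 := fun k => by simp [Qt_apply]
  simp only [refl_apply, Qn_ot, hQ1, mul_one, polar_ot, polar_Qt]
  generalize (Qt F v)⁻¹ = c
  simp only [dotProduct, Matrix.mulVec, Fin.sum_univ_three, Matrix.sub_apply, Matrix.smul_apply, vecMulVec_apply,
    Pi.sub_apply, Pi.smul_apply, smul_eq_mul]
  fin_cases j <;> simp

theorem bothN_pair_left (a : ↥(Iso (Qt F))) : bothN F (pair (a, 1)) = bothT F a := by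
  have h : ((bothN F).comp pair).comp (MonoidHom.inl _ _) = bothT F := by
    refine OOmega.hom_ext (pnd_Qt h2.out) (OOmega.two_ne h2.out) fun v hv => ?_
    show bothN F (pair (rf (Qt F) v, 1)) = _
    have hQ : ∀ k : Fin 3, Qn F (vecMulVec v (Pi.single k (1 : F))) = Qt F v := fun k => by
      rw [Qn_ot]; simp [Qt_apply]
    rw [pair_rf, map_mul, map_mul, bothN, bothT, both_rf' _ two_le_finrank_mat (by rw [hQ]; exact hv),
      both_rf' _ two_le_finrank_mat (by rw [hQ]; exact hv), both_rf' _ two_le_finrank_mat (by rw [hQ]; exact hv),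
      both_rf' _ two_le_finrank_row hv, hQ, hQ, hQ, sign_mul_self, one_mul]
  exact DFunLike.congr_fun h a

theorem bothN_pair (a b : ↥(Iso (Qt F))) : bothN F (pair (a, b)) = bothT F a * bothT F b := by
  rw [show (a, b) = (a, 1) * (1, b) by simp, map_mul, map_mul, bothN_pair_left, ← conj_swap_pair b 1, map_mul,
    map_mul, map_inv, bothN_pair_left, mul_inv_cancel_comm]

theorem pair_mem_omega {a b : ↥(Iso (Qt F))} : pair (a, b) ∈ omegaN F ↔ bothT F a = bothT F b := by
  rw [mem_omegaN, bothN_pair]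
  exact ⟨fun h => by rw [eq_inv_of_mul_eq_one_left h]; exact inv_eq_of_mul_eq_one_left (sign_mul_self _),
    fun h => by rw [h, sign_mul_self]⟩

theorem pair_self_mem_omega (a : ↥(Iso (Qt F))) : pair (a, a) ∈ omegaN F := pair_mem_omega.mpr rfl

theorem swap_eq : swap F = rf (Qn F) (vecMulVec (Pi.single 0 1) (Pi.single 1 1) - vecMulVec (Pi.single 1 1) (Pi.single 0 1)) *
    rf (Qn F) (vecMulVec (Pi.single 0 1) (Pi.single 2 1) - vecMulVec (Pi.single 2 1) (Pi.single 0 1)) *
    rf (Qn F) (vecMulVec (Pi.single 1 1) (Pi.single 2 1) - vecMulVec (Pi.single 2 1) (Pi.single 1 1)) := by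
  refine Subtype.ext (LinearEquiv.ext fun X => Matrix.ext fun i j => ?_)
  show Xᵀ i j = refl (Qn F) _ (refl (Qn F) _ (refl (Qn F) _ X)) i j
  have := h2.out
  simp only [refl_apply, Qn_apply, polar_Qn, Matrix.trace_fin_three, Matrix.mul_apply, Matrix.transpose_apply,
    Fin.sum_univ_three, Matrix.sub_apply, Matrix.smul_apply, vecMulVec_apply, smul_eq_mul]
  fin_cases i <;> fin_cases j <;> simp [one_add_one_eq_two, inv_mul_cancel_left₀ this] <;> ring

theorem bothN_swap : bothN F (swap F) = (-1, sqSign (2 : F)) := by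
  have hQ : ∀ i j : Fin 3, i ≠ j →
      Qn F (vecMulVec (Pi.single i (1 : F)) (Pi.single j 1) - vecMulVec (Pi.single j 1) (Pi.single i 1)) = 2 := by
    intro i j hij
    rw [ORefl.map_sub_two, Qn_ot, Qn_ot, polar_ot]
    simp [Qt_apply, vecMulVec_apply, Matrix.mulVec, dotProduct, Pi.single_apply, hij, Ne.symm hij]
    norm_num
  rw [swap_eq, map_mul, map_mul, bothN, both_rf' _ two_le_finrank_mat (by rw [hQ 0 1 (by decide)]; exact h2.out),
    both_rf' _ two_le_finrank_mat (by rw [hQ 0 2 (by decide)]; exact h2.out),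
    both_rf' _ two_le_finrank_mat (by rw [hQ 1 2 (by decide)]; exact h2.out), hQ 0 1 (by decide),
    hQ 0 2 (by decide), hQ 1 2 (by decide), sign_mul_self, one_mul]

/-- The swapping element of `Ω`. -/
noncomputable def eta : ↥(Iso (Qn F)) := swap F * pair (rf (Qt F) (Pi.single 1 1 + Pi.single 2 1), 1)

theorem eta_mem : eta (F := F) ∈ wreath F ⊓ omegaN F := by
  refine ⟨mul_mem swap_mem_wreath (pair_mem_wreath _ _), mem_omegaN.mpr ?_⟩
  have hQ : Qt F (Pi.single 1 1 + Pi.single 2 1) = 2 := by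
    rw [Qt_apply]; simp [dotProduct, Fin.sum_univ_three]; norm_num
  rw [eta, map_mul, bothN_swap, bothN_pair_left, bothT, both_rf' _ two_le_finrank_row (by rw [hQ]; exact h2.out),
    hQ, sign_mul_self]

theorem conj_eta (a b : ↥(Iso (Qt F))) : eta * pair (a, b) * (eta (F := F))⁻¹ =
    pair (b, rf (Qt F) (Pi.single 1 1 + Pi.single 2 1) * a * (rf (Qt F) (Pi.single 1 1 + Pi.single 2 1))⁻¹) := by
  obtain ⟨R, hR⟩ : ∃ R, R = rf (Qt F) (Pi.single 1 1 + Pi.single 2 (1 : F)) := ⟨_, rfl⟩
  rw [eta, ← hR, ← conj_swap_pair (R * a * R⁻¹) b, show (R * a * R⁻¹, b) = (R, 1) * (a, b) * (R, 1)⁻¹ by simp,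
    map_mul, map_mul, map_inv]
  group

theorem eta_ot (u w : Row F) : (eta (F := F)).1 (vecMulVec u w) =
    vecMulVec w ((rf (Qt F) (Pi.single 1 1 + Pi.single 2 1)).1 u) := by
  show (swap F).1 ((pair (_, _)).1 _) = _
  rw [pair_ot, swap_apply, Matrix.transpose_vecMulVec]
  rfl

/-! ### Trace -/

/-- The trace of an isometry of nine space. -/
noncomputable def trN (g : ↥(Iso (Qn F))) : F := LinearMap.trace F (Mat F) g.1.toLinearMap

theorem trN_conj (x g : ↥(Iso (Qn F))) : trN (x * g * x⁻¹) = trN g := by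
  show LinearMap.trace F (Mat F) ((x * g * x⁻¹).1.toLinearMap) = _
  rw [show (x * g * x⁻¹).1.toLinearMap = x.1.toLinearMap * g.1.toLinearMap * x⁻¹.1.toLinearMap from rfl,
    LinearMap.trace_mul_comm, ← mul_assoc,
    show x⁻¹.1.toLinearMap * x.1.toLinearMap = (1 : Mat F →ₗ[F] Mat F) from
      LinearMap.ext fun v => x.1.symm_apply_apply v, one_mul]
  rfl

theorem trN_pair (a b : ↥(Iso (Qt F))) : trN (pair (a, b)) = trace (mat a) * trace (mat b) := by
  classical
  rw [trN, LinearMap.trace_eq_matrix_trace F (Matrix.stdBasis F (Fin 3) (Fin 3)), Matrix.trace,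
    Fintype.sum_prod_type]
  simp only [Matrix.diag_apply, LinearMap.toMatrix_apply, Matrix.stdBasis_eq_single, LinearEquiv.coe_coe]
  have key : ∀ i j : Fin 3, (Matrix.stdBasis F (Fin 3) (Fin 3)).repr ((pair (a, b)).1 (Matrix.single i j 1)) (i, j) =
      mat a i i * mat b j j := by
    intro i j
    rw [pair_apply]
    simp [Matrix.stdBasis, Matrix.mul_apply, Fin.sum_univ_three, Matrix.single_apply]
    fin_cases i <;> fin_cases j <;> simp
  simp only [key, Matrix.trace_fin_three, Fin.sum_univ_three]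
  ring

/-! ### Half turns -/

/-- The half turn about a vector. -/
noncomputable def ax (u : Row F) : ↥(Iso (Qt F)) := negI (Qt F) * rf (Qt F) u

theorem negI_central (a : ↥(Iso (Qt F))) : negI (Qt F) * a = a * negI (Qt F) :=
  Subtype.ext (LinearEquiv.ext fun x => (map_neg a.1 x).symm)

theorem negI_mul_self : negI (Qt F) * negI (Qt F) = 1 :=
  Subtype.ext (LinearEquiv.ext fun x => neg_neg x)

theorem mat_negI : mat (negI (Qt F)) = -1 := by
  ext i j
  have hx : (negI (Qt F)).1 (Pi.single j 1) i = -(Pi.single j (1 : F) : Row F) i := rfl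
  simpa [mat, LinearMap.toMatrix'_apply, Pi.single_apply, Matrix.one_apply] using hx

theorem ax_mul_self (u : Row F) : ax u * ax u = 1 := by
  rw [ax, show negI (Qt F) * rf (Qt F) u * (negI (Qt F) * rf (Qt F) u) =
    negI (Qt F) * (rf (Qt F) u * negI (Qt F)) * rf (Qt F) u by group, ← negI_central, ← mul_assoc, negI_mul_self,
    one_mul, OOmega.rf_mul_self]

theorem conj_ax (a : ↥(Iso (Qt F))) (u : Row F) : a * ax u * a⁻¹ = ax (a.1 u) := by
  rw [ax, ax, ← mul_assoc a, ← negI_central, mul_assoc (negI (Qt F)), mul_assoc (negI (Qt F)), OOmega.conj_rf]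

theorem ax_smul {t : F} (ht : t ≠ 0) (u : Row F) : ax (t • u) = ax u := by
  rw [ax, ax, OOmega.rf_smul ht]

theorem ax_apply (u x : Row F) : (ax u).1 x = ((Qt F u)⁻¹ * (2 * (u ⬝ᵥ x))) • u - x := by
  show -(refl (Qt F) u x) = _
  rw [refl_apply, polar_Qt, neg_sub]

theorem ax_self {u : Row F} (hu : Qt F u ≠ 0) : (ax u).1 u = u := by
  rw [ax_apply, ← Qt_apply, show (Qt F u)⁻¹ * (2 * Qt F u) = 2 by field_simp, two_smul, add_sub_cancel_right]

theorem ax_perp {u x : Row F} (h : u ⬝ᵥ x = 0) : (ax u).1 x = -x := by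
  rw [ax_apply, h, mul_zero, mul_zero, zero_smul, zero_sub]

theorem mat_ax (u : Row F) : mat (ax u) = ((Qt F u)⁻¹ * 2) • vecMulVec u u - 1 := by
  ext i j
  rw [mat, LinearMap.toMatrix'_apply]
  show (ax u).1 (Pi.single j 1) i = _
  rw [ax_apply, dotProduct_single]
  simp [vecMulVec_apply, Pi.single_apply, Matrix.one_apply]
  ring

theorem trace_ax {u : Row F} (hu : Qt F u ≠ 0) : trace (mat (ax u)) = -1 := by
  rw [mat_ax, Matrix.trace_sub, Matrix.trace_smul, Matrix.trace_vecMulVec, Matrix.trace_one, ← Qt_apply, smul_eq_mul,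
    Fintype.card_fin]
  field_simp
  norm_num

theorem bothT_negI : bothT F (negI (Qt F)) = (-1, 1) := by
  have h : (([Pi.single (0 : Fin 3) (1 : F), Pi.single 1 1, Pi.single 2 1] : List (Row F)).map (rf (Qt F))).prod =
      negI (Qt F) := by
    refine OOmega.prod_rf_eq_neg h2.out _ ?_ ?_ fun x hx => ?_
    · intro w hw
      simp only [List.mem_cons, List.not_mem_nil, or_false] at hw
      rcases hw with rfl | rfl | rfl <;> simp [Qt_apply]
    · simp [List.pairwise_cons, polar_Qt]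
    · simp only [List.mem_cons, List.not_mem_nil, or_false, forall_eq_or_imp, forall_eq, polar_Qt, single_dotProduct,
        one_mul, mul_eq_zero, h2.out, false_or] at hx
      funext i; fin_cases i <;> simp [hx]
  have hQ : ∀ k : Fin 3, Qt F (Pi.single k (1 : F)) = 1 := fun k => by simp [Qt_apply]
  rw [← h]
  simp only [List.map_cons, List.map_nil, List.prod_cons, List.prod_nil, mul_one, map_mul, bothT]
  rw [both_rf' _ two_le_finrank_row (by rw [hQ]; exact one_ne_zero),
    both_rf' _ two_le_finrank_row (by rw [hQ]; exact one_ne_zero),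
    both_rf' _ two_le_finrank_row (by rw [hQ]; exact one_ne_zero), hQ, hQ, hQ, sign_mul_self, mul_one,
    sqSign_eq_one.mpr IsSquare.one]

theorem bothT_ax {u : Row F} (hu : Qt F u ≠ 0) : bothT F (ax u) = (1, sqSign (Qt F u)) := by
  rw [ax, map_mul, bothT_negI, bothT, both_rf' _ two_le_finrank_row hu]
  simp

theorem ax_mem_omegaT {u : Row F} (hu : Qt F u = 1) : ax u ∈ omegaT F := by
  rw [mem_omegaT, bothT_ax (by rw [hu]; exact one_ne_zero), hu, sqSign_eq_one.mpr IsSquare.one]; rfl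

theorem four_ne : (4 : F) ≠ 0 := by
  rw [show (4 : F) = 2 * 2 by norm_num]; exact mul_ne_zero h2.out h2.out

theorem ax_ne_one {u : Row F} (hu : Qt F u ≠ 0) : ax u ≠ 1 := fun e => by
  have h := trace_ax hu
  rw [e, mat_one, Matrix.trace_one, Fintype.card_fin] at h
  exact four_ne (F := F) (by push_cast at h; linear_combination h)

theorem det_mat_of_dsign {a : ↥(Iso (Qt F))} (h : (bothT F a).1 = 1) : (mat a).det = 1 := by
  rw [mat, LinearMap.det_toMatrix']
  have h' : OOmega.dsign h2.out (pnd_Qt h2.out) a = 1 := h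
  classical
  by_contra hne
  exact absurd (h'.symm.trans (if_neg hne)) (by decide)

/-- An involution of `SO₃` is a half turn. -/
theorem exists_ax {a : ↥(Iso (Qt F))} (hdet : (bothT F a).1 = 1) (hsq : a * a = 1) (hne : a ≠ 1) :
    ∃ u, Qt F u ≠ 0 ∧ a = ax u := by
  have hsym : (mat a)ᵀ = mat a := by rw [← mat_inv h2.out, inv_eq_of_mul_eq_one_left hsq]
  have hadj : adjugate (mat a) = mat a := by
    have h1 : mat a * mat a = 1 := by rw [← mat_mul, hsq, mat_one]
    calc adjugate (mat a) = adjugate (mat a) * (mat a * mat a) := by rw [h1, mul_one]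
      _ = mat a := by rw [← mul_assoc, adjugate_mul, det_mat_of_dsign hdet, one_smul, one_mul]
  have hA : mat a * mat a = 1 := by rw [← mat_mul, hsq, mat_one]
  obtain ⟨A, hAd⟩ : ∃ A, A = mat a := ⟨_, rfl⟩
  rw [← hAd] at hsym hadj hA
  have s : ∀ i j, A j i = A i j := fun i j => congrFun (congrFun hsym i) j
  have d : ∀ i j, adjugate A i j = A i j := fun i j => congrFun (congrFun hadj i) j
  have m : ∀ i j, ∑ k, A i k * A k j = (1 : Mat F) i j := fun i j => congrFun (congrFun hA i) j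
  rw [Matrix.adjugate_fin_three] at d
  have d00 := d 0 0
  have d11 := d 1 1
  have d22 := d 2 2
  have d01 := d 0 1
  have d02 := d 0 2
  have d12 := d 1 2
  simp [s 0 1, s 0 2, s 1 2] at d00 d11 d22 d01 d02 d12
  have e00 := m 0 0
  have e11 := m 1 1
  have e22 := m 2 2
  have e01 := m 0 1
  have e02 := m 0 2
  have e12 := m 1 2
  simp [Fin.sum_univ_three, s 0 1, s 0 2, s 1 2] at e00 e11 e22 e01 e02 e12
  have htr : A 0 0 + A 1 1 + A 2 2 = -1 := by
    by_contra htr
    have h1 : A 0 0 + A 1 1 + A 2 2 + 1 ≠ 0 := fun e => htr (by linear_combination e)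
    have z : ∀ x, (A 0 0 + A 1 1 + A 2 2 + 1) * x = 0 → x = 0 := fun x e => (mul_eq_zero.mp e).resolve_left h1
    have a00 := z (A 0 0 - 1) (by linear_combination e00 + d11 + d22)
    have a11 := z (A 1 1 - 1) (by linear_combination e11 + d00 + d22)
    have a22 := z (A 2 2 - 1) (by linear_combination e22 + d00 + d11)
    have a01 := z (A 0 1) (by linear_combination e01 - d01)
    have a02 := z (A 0 2) (by linear_combination e02 - d02)
    have a12 := z (A 1 2) (by linear_combination e12 - d12)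
    refine hne (mat_inj ?_)
    rw [mat_one, ← hAd]
    ext i j
    fin_cases i <;> fin_cases j <;>
      simp [sub_eq_zero.mp a00, sub_eq_zero.mp a11, sub_eq_zero.mp a22, a01, a02, a12, s 0 1, s 0 2, s 1 2]
  obtain ⟨k, hk⟩ : ∃ k, A k k + 1 ≠ 0 := by
    by_contra hcon
    push Not at hcon
    exact h2.out (by linear_combination hcon 0 + hcon 1 + hcon 2 - htr)
  obtain ⟨u, hu⟩ : ∃ u : Row F, u = fun i => (A + 1) i k := ⟨_, rfl⟩
  have hQu : Qt F u = 2 * (A k k + 1) := by
    rw [Qt_apply, hu]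
    simp only [dotProduct, Fin.sum_univ_three, Matrix.add_apply, Matrix.one_apply]
    fin_cases k <;> simp [s 0 1, s 0 2, s 1 2]
    · linear_combination e00
    · linear_combination e11
    · linear_combination e22
  have hne' : Qt F u ≠ 0 := by rw [hQu]; exact mul_ne_zero h2.out hk
  refine ⟨u, hne', mat_inj ?_⟩
  rw [mat_ax, hQu, ← hAd]
  have hrank : ∀ i j, (A + 1) i j * (A k k + 1) = (A + 1) i k * (A + 1) j k := by
    intro i j
    fin_cases k <;> fin_cases i <;> fin_cases j <;> simp [Matrix.add_apply, Matrix.one_apply, s 0 1, s 0 2, s 1 2] <;>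
      grind
  ext i j
  have h0 := hrank i j
  rw [hu]
  simp only [Matrix.sub_apply, Matrix.smul_apply, vecMulVec_apply, smul_eq_mul, ← h0]
  simp only [Matrix.add_apply]
  field_simp
  have h22 := mul_inv_cancel₀ h2.out
  linear_combination (-(A i j) - (1 : Mat F) i j) * h22

/-- An involution of `Ω₃` is a half turn about a vector of length one. -/
theorem exists_ax_unit {a : ↥(Iso (Qt F))} (ha : a ∈ omegaT F) (hsq : a * a = 1) (hne : a ≠ 1) :
    ∃ u, Qt F u = 1 ∧ a = ax u := by
  have hb := mem_omegaT.mp ha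
  obtain ⟨u, hu, rfl⟩ := exists_ax (by rw [hb]; rfl) hsq hne
  rw [bothT_ax hu] at hb
  obtain ⟨t, ht⟩ := sqSign_eq_one.mp (congrArg Prod.snd hb)
  have ht0 : t ≠ 0 := fun e => hu (by rw [ht, e, mul_zero])
  refine ⟨t⁻¹ • u, ?_, (ax_smul (inv_ne_zero ht0) u).symm⟩
  rw [QuadraticMap.map_smul, ht, smul_eq_mul]
  field_simp

/-! ### Involutions of the stabiliser -/

/-- The half turn on the left factor. -/
noncomputable def zL (u : Row F) : ↥(Iso (Qn F)) := pair (ax u, 1)

/-- The half turn on the right factor. -/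
noncomputable def zR (v : Row F) : ↥(Iso (Qn F)) := pair (1, ax v)

theorem zL_mem {u : Row F} (hu : Qt F u = 1) : zL u ∈ wreath F ⊓ omegaN F :=
  ⟨pair_mem_wreath _ _, pair_mem_omega.mpr (by rw [map_one]; exact mem_omegaT.mp (ax_mem_omegaT hu))⟩

theorem zR_mem {v : Row F} (hv : Qt F v = 1) : zR v ∈ wreath F ⊓ omegaN F :=
  ⟨pair_mem_wreath _ _, pair_mem_omega.mpr (by rw [map_one]; exact (mem_omegaT.mp (ax_mem_omegaT hv)).symm)⟩

theorem trN_zL {u : Row F} (hu : Qt F u ≠ 0) : trN (zL u) = -3 := by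
  rw [zL, trN_pair, trace_ax hu, mat_one, Matrix.trace_one, Fintype.card_fin]; push_cast; ring

theorem trN_zR {v : Row F} (hv : Qt F v ≠ 0) : trN (zR v) = -3 := by
  rw [zR, trN_pair, trace_ax hv, mat_one, Matrix.trace_one, Fintype.card_fin]; push_cast; ring

theorem trN_ax_ax {u v : Row F} (hu : Qt F u ≠ 0) (hv : Qt F v ≠ 0) : trN (pair (ax u, ax v)) = 1 := by
  rw [trN_pair, trace_ax hu, trace_ax hv]; norm_num

theorem neg_three_ne_one : (-3 : F) ≠ 1 := fun h => four_ne (F := F) (by linear_combination -h)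

theorem neg_one_ne_one_units : ((-1 : ℤˣ) = 1) = False := by simp

/-- Pair elements of `Ω` have both determinants one after normalising. -/
theorem exists_det_one {a b : ↥(Iso (Qt F))} (h : pair (a, b) ∈ omegaN F) :
    ∃ c d, pair (c, d) = pair (a, b) ∧ (bothT F c).1 = 1 ∧ bothT F c = bothT F d := by
  have hb := pair_mem_omega.mp h
  rcases Int.units_eq_one_or (bothT F a).1 with e | e
  · exact ⟨a, b, rfl, e, hb⟩
  refine ⟨negI (Qt F) * a, negI (Qt F) * b, ?_, ?_, by rw [map_mul, map_mul, hb]⟩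
  · rw [← Prod.mk_mul_mk, map_mul]
    have : pair (negI (Qt F), negI (Qt F)) = 1 := Subtype.ext (LinearEquiv.ext fun X => by
      rw [pair_apply, mat_negI]; simp)
    rw [this, one_mul]
  · rw [map_mul, bothT_negI, Prod.fst_mul, e]; decide

/-- Involutions of pair type. -/
theorem invol_pair {a b : ↥(Iso (Qt F))} (h : pair (a, b) ∈ omegaN F) (hsq : pair (a, b) * pair (a, b) = 1)
    (hne : pair (a, b) ≠ 1) :
    (∃ u, Qt F u = 1 ∧ pair (a, b) = zL u) ∨ (∃ v, Qt F v = 1 ∧ pair (a, b) = zR v) ∨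
      ∃ u v, Qt F u ≠ 0 ∧ Qt F v ≠ 0 ∧ pair (a, b) = pair (ax u, ax v) ∧ trN (pair (a, b)) = 1 := by
  obtain ⟨c, d, e, hc, hcd⟩ := exists_det_one h
  rw [← e] at hsq hne ⊢
  rw [← map_mul, Prod.mk_mul_mk] at hsq
  have hd : (bothT F d).1 = 1 := hcd ▸ hc
  obtain ⟨hc2, hd2⟩ : c * c = 1 ∧ d * d = 1 := by
    rcases pair_eq_one hsq with ⟨h1, h3⟩ | ⟨h1, -⟩
    · exact ⟨h1, h3⟩
    · have := congrArg (fun g => (bothT F g).1) h1
      simp only [map_mul, Prod.fst_mul, hc, bothT_negI] at this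
      exact absurd this (by decide)
  by_cases hc1 : c = 1
  · have hd1 : d ≠ 1 := fun e' => hne (by rw [hc1, e']; exact map_one pair)
    obtain ⟨v, hv, hd'⟩ := exists_ax_unit (a := d) (by rw [mem_omegaT, ← hcd, hc1, map_one]) hd2 hd1
    exact Or.inr (Or.inl ⟨v, hv, by rw [hc1, hd']; rfl⟩)
  by_cases hd1 : d = 1
  · obtain ⟨u, hu, hc'⟩ := exists_ax_unit (a := c) (by rw [mem_omegaT, hcd, hd1, map_one]) hc2 hc1
    exact Or.inl ⟨u, hu, by rw [hd1, hc']; rfl⟩
  obtain ⟨u, hu, hc'⟩ := exists_ax hc hc2 hc1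
  obtain ⟨v, hv, hd'⟩ := exists_ax hd hd2 hd1
  exact Or.inr (Or.inr ⟨u, v, hu, hv, by rw [hc', hd'], by rw [hc', hd', trN_ax_ax hu hv]⟩)

/-- Nothing swapping the factors commutes with a half turn of one factor. -/
theorem pair_of_commute {g : ↥(Iso (Qn F))} (hg : g ∈ wreath F) {u : Row F} (hu : Qt F u ≠ 0)
    (hc : g * zL u = zL u * g) : ∃ a b, g = pair (a, b) := by
  obtain ⟨a, b, rfl | rfl⟩ := hg
  · exact ⟨a, b, rfl⟩
  exfalso
  have h1 : zL u * swap F = swap F * pair (1, ax u) := by rw [swap_pair]; rfl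
  rw [← mul_assoc, h1, mul_assoc, mul_assoc, zL, ← map_mul, ← map_mul, Prod.mk_mul_mk, Prod.mk_mul_mk, one_mul,
    mul_one] at hc
  have ht := trace_ax hu
  rcases pair_inj (mul_left_cancel hc) with ⟨h3, -⟩ | ⟨h3, -⟩
  · have h4 : ax u = 1 := by
      have := congrArg (a⁻¹ * ·) h3.symm
      simpa [← mul_assoc] using this
    exact ax_ne_one hu h4
  · have h4 : ax u = negI (Qt F) := by
      have h5 : negI (Qt F) * (a * ax u) = a := h3.symm
      rw [← mul_assoc, negI_central, mul_assoc] at h5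
      calc ax u = negI (Qt F) * (negI (Qt F) * ax u) := by rw [← mul_assoc, negI_mul_self, one_mul]
        _ = negI (Qt F) := by rw [mul_eq_left.mp h5, mul_one]
    rw [h4, mat_negI, Matrix.trace_neg, Matrix.trace_one, Fintype.card_fin] at ht
    exact h2.out (by push_cast at ht; linear_combination -ht)

end Cfsg.Agent.Classical.TensorNine
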